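import Cfsg.Agent.H566.BNPerm_m3
import Cfsg.Agent.StdAlt.Six.Act
import Cfsg.Agent.S2119
import Cfsg.Agent.H497.Stein.Eng
import Cfsg.Agent.H838.PCoreAbs_m3
import Cfsg.Agent.Lib.CoprimeHyperplane
import Cfsg.Agent.Lib.CoprimeAbelian
import Cfsg.Agent.Lib.ProductSet
import Cfsg.Agent.H478.RadTools_m3
import Cfsg.Agent.S0205
import Cfsg.Agent.FastGrp
import Cfsg.Agent.Prune
set_option linter.all false

section
prune_inst 0x7fbdfefbbff8ffdeffff7e7ffefddffffdfeffffffdffffbfffdfbffefdf6b6ffff5fb8f7fef5affbfd6f2b632f87bd3ffffeeffeffbdd7ffffd5ff47fffff9fedffbf8951f6983e0ffc6ffffbf97fee7f3fffffffffffffffffffffffffffffffffffffffff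

-- part: H763/Ccp/Alt
section
prune_inst 0x20104400600210000000000000000020100000000000000000000000000900000000080002000002100080000002000001100000420000000a00000000040000000262c082480100210000006801180c00000000000000000000000000000000000000000
set_option linter.all false
open scoped Cfsg.Agent.FastGrp

/-!
# S4114: the alternating groups (helper763)

`row_alt` : the alternating groups of degree at least five have no minimal configuration.
-/

set_option autoImplicit false

namespace Cfsg.Agent.H763.Ccp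

open Subgroup Equiv Equiv.Perm Cfsg Cfsg.Agent.H520

universe u

/-- the order of the alternating group is even -/
theorem two_dvd_alt {n : ℕ} (hn : 5 ≤ n) : 2 ∣ Nat.card (alternatingGroup (Fin n)) := by
  have : Nontrivial (Fin n) := Fin.nontrivial_iff_two_le.2 (by omega)
  have h1 : 2 * Nat.card (alternatingGroup (Fin n)) = n.factorial := by
    rw [two_mul_nat_card_alternatingGroup, Nat.card_perm, Nat.card_eq_fintype_card, Fintype.card_fin]
  have h2 : (Nat.factorial 5) ∣ n.factorial := Nat.factorial_dvd_factorial hn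
  have h3 : Nat.factorial 5 = 2 * (2 * 30) := by decide
  rw [h3, ← h1] at h2
  exact (dvd_mul_right 2 30).trans (Nat.dvd_of_mul_dvd_mul_left (by norm_num) h2)

/-- conjugation by permutations on the alternating group is injective -/
theorem conjNormal_inj {n : ℕ} (hn : 5 ≤ n) :
    Function.Injective (MulAut.conjNormal : Perm (Fin n) →* MulAut ↥(alternatingGroup (Fin n))) := by
  by_cases h6 : n = 6
  · subst h6
    intro a b h
    exact StdAlt.Six.pc_inj h
  · exact (S2119.result n (by omega) h6).1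

/-- an automorphism of odd prime order is a conjugation by an even permutation of the same order -/
theorem exists_perm {n : ℕ} (hn : 5 ≤ n) {p : ℕ} (hp : p.Prime) (hp2 : p ≠ 2)
    {y : MulAut ↥(alternatingGroup (Fin n))} (hy : orderOf y = p) :
    ∃ s : ↥(alternatingGroup (Fin n)), y = MulAut.conj s ∧ orderOf s = p := by
  have hodd : Odd p := hp.odd_of_ne_two hp2
  -- a permutation
  obtain ⟨σ, hσ⟩ : ∃ σ : Perm (Fin n), (MulAut.conjNormal : Perm (Fin n) →* MulAut ↥(alternatingGroup (Fin n))) σ = y := by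
    by_cases h6 : n = 6
    · subst h6
      obtain ⟨τ, hτ⟩ := StdAlt.Six.ns_iff.1 (StdAlt.Six.ns_sq y)
      obtain ⟨k, hk⟩ := hodd
      refine ⟨τ ^ (k + 1), ?_⟩
      rw [map_pow]
      have h1 : (MulAut.conjNormal : Perm (Fin 6) →* MulAut ↥(alternatingGroup (Fin 6))) τ = y * y := hτ.symm
      rw [h1, ← pow_two, ← pow_mul]
      have h2 : 2 * (k + 1) = p + 1 := by omega
      rw [h2, pow_succ, ← hy, pow_orderOf_eq_one, one_mul]
    · exact (S2119.result n (by omega) h6).2 y
  have ho : orderOf σ = p := by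
    rw [← hy, ← hσ]
    exact (orderOf_injective _ (conjNormal_inj hn) σ).symm
  have hs : Equiv.Perm.sign σ = 1 := by
    rcases Int.units_eq_one_or (Equiv.Perm.sign σ) with h | h
    · exact h
    · exfalso
      have h1 : Equiv.Perm.sign (σ ^ p) = 1 := by rw [← ho, pow_orderOf_eq_one, map_one]
      rw [map_pow, h, hodd.neg_one_pow] at h1
      exact absurd h1 (by decide)
  refine ⟨⟨σ, Equiv.Perm.mem_alternatingGroup.2 hs⟩, ?_, ?_⟩
  · rw [← hσ]
    ext x : 1
    apply Subtype.ext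
    rw [MulAut.conjNormal_apply]
    rfl
  · rw [← ho]
    exact (orderOf_injective (alternatingGroup (Fin n)).subtype (subtype_injective _) _).symm

/-- an even permutation commuting with an odd one is conjugate to its inverse in the alternating group -/
theorem real_of_odd {n : ℕ} (s : ↥(alternatingGroup (Fin n))) {τ : Perm (Fin n)}
    (hτ : τ ∈ centralizer ({(s : Perm (Fin n))} : Set (Perm (Fin n)))) (hodd : Equiv.Perm.sign τ ≠ 1) :
    ∃ g : ↥(alternatingGroup (Fin n)), g * s * g⁻¹ = s⁻¹ := by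
  have h1 : IsConj (s : Perm (Fin n)) (s : Perm (Fin n))⁻¹ := by
    rw [Equiv.Perm.isConj_iff_cycleType_eq, Equiv.Perm.cycleType_inv]
  obtain ⟨g, hg⟩ := isConj_iff.1 h1
  have hs : Equiv.Perm.sign τ = -1 := (Int.units_eq_one_or _).resolve_left hodd
  rw [mem_centralizer_singleton_iff] at hτ
  rcases Int.units_eq_one_or (Equiv.Perm.sign g) with h | h
  · exact ⟨⟨g, Equiv.Perm.mem_alternatingGroup.2 h⟩, Subtype.ext hg⟩
  · refine ⟨⟨g * τ, Equiv.Perm.mem_alternatingGroup.2 (by rw [map_mul, h, hs]; decide)⟩, Subtype.ext ?_⟩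
    show g * τ * (s : Perm (Fin n)) * (g * τ)⁻¹ = (s : Perm (Fin n))⁻¹
    calc g * τ * (s : Perm (Fin n)) * (g * τ)⁻¹ = g * (τ * s) * τ⁻¹ * g⁻¹ := by group
      _ = g * (s * τ) * τ⁻¹ * g⁻¹ := by rw [hτ]
      _ = g * s * g⁻¹ := by group
      _ = _ := hg

/-- an element of odd prime order is real or self-centralizing in the symmetric group and a long cycle -/
theorem real_or {n : ℕ} {p : ℕ} (hp : p.Prime) (s : ↥(alternatingGroup (Fin n)))
    (hs : orderOf s = p) : (∃ g : ↥(alternatingGroup (Fin n)), g * s * g⁻¹ = s⁻¹) ∨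
      ((s : Perm (Fin n)).cycleType = {p} ∧ n ≤ p + 1 ∧
        centralizer ({(s : Perm (Fin n))} : Set (Perm (Fin n))) = zpowers (s : Perm (Fin n))) := by
  by_cases hle : centralizer ({(s : Perm (Fin n))} : Set (Perm (Fin n))) ≤ alternatingGroup (Fin n)
  · right
    have ho : orderOf (s : Perm (Fin n)) = p := by
      rw [← hs]
      exact orderOf_injective (alternatingGroup (Fin n)).subtype (subtype_injective _) s
    obtain ⟨-, h2, h3⟩ := Equiv.Perm.centralizer_le_alternating_iff.1 hle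
    rw [Fintype.card_fin] at h2
    have hfp : Fact p.Prime := ⟨hp⟩
    obtain ⟨k, hk⟩ := Equiv.Perm.cycleType_prime_order (by rw [ho]; exact hp)
    rw [ho] at hk
    have hk0 : k = 0 := by
      have h4 := h3 p
      rw [hk, Multiset.count_replicate_self] at h4
      omega
    subst hk0
    have hct : (s : Perm (Fin n)).cycleType = {p} := by rw [hk]; rfl
    rw [hct, Multiset.sum_singleton] at h2
    refine ⟨hct, h2, ?_⟩
    have hcard : Nat.card (centralizer ({(s : Perm (Fin n))} : Set (Perm (Fin n)))) = p := by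
      rw [Equiv.Perm.nat_card_centralizer, hct]
      have h5 : (n - p).factorial = 1 := by
        rcases Nat.le_one_iff_eq_zero_or_eq_one.1 (show n - p ≤ 1 by omega) with h | h <;> rw [h] <;> rfl
      simp [h5]
    symm
    apply eq_of_le_of_card_ge
    · rw [zpowers_le, mem_centralizer_singleton_iff]
    · rw [hcard, Nat.card_zpowers, ho]
  · left
    rw [SetLike.le_def] at hle
    push Not at hle
    obtain ⟨τ, hτ, hτ'⟩ := hle
    exact real_of_odd s hτ fun h => hτ' (Equiv.Perm.mem_alternatingGroup.2 h)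

/-- five-cycles of `A_6` are real -/
theorem real_five (s : ↥(alternatingGroup (Fin 6))) (hs : (s : Perm (Fin 6)).cycleType = {5}) :
    ∃ g : ↥(alternatingGroup (Fin 6)), g * s * g⁻¹ = s⁻¹ := by
  let c : Perm (Fin 6) := swap 0 1 * swap 1 2 * swap 2 3 * swap 3 4
  let t : Perm (Fin 6) := swap 1 4 * swap 2 3
  have hc : c.cycleType = {5} := by decide
  have ht : Equiv.Perm.sign t = 1 := by decide
  have htc : t * c * t⁻¹ = c⁻¹ := by decide
  obtain ⟨g, hg⟩ := isConj_iff.1 (Equiv.Perm.isConj_iff_cycleType_eq.2 (hs.trans hc.symm))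
  refine ⟨⟨g⁻¹ * t * g, Equiv.Perm.mem_alternatingGroup.2 ?_⟩, Subtype.ext ?_⟩
  · rw [map_mul, map_mul, ht, map_inv, mul_one, inv_mul_cancel]
  · show (g⁻¹ * t * g) * (s : Perm (Fin 6)) * (g⁻¹ * t * g)⁻¹ = (s : Perm (Fin 6))⁻¹
    have h1 : (s : Perm (Fin 6)) = g⁻¹ * c * g := by rw [← hg]; group
    rw [h1]
    calc (g⁻¹ * t * g) * (g⁻¹ * c * g) * (g⁻¹ * t * g)⁻¹ = g⁻¹ * (t * c * t⁻¹) * g := by group
      _ = (g⁻¹ * c * g)⁻¹ := by rw [htc]; group

theorem row_altn (n : ℕ) (hn : 5 ≤ n) : Row ↥(alternatingGroup (Fin n)) := by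
  intro α h
  obtain ⟨p, hp, hp2, hpd⟩ := h.exists_prime_ne Nat.prime_two (two_dvd_alt hn)
  obtain ⟨y, hy, hyo⟩ := exists_prime_order hp hpd
  obtain ⟨s, hys, hso⟩ := exists_perm hn hp hp2 hyo
  have hsα : MulAut.conj s ∈ zpowers α := by rw [← hys]; exact hy
  have hnr : ¬ ∃ g : ↥(alternatingGroup (Fin n)), g * s * g⁻¹ = s⁻¹ := by
    rintro ⟨g, hg⟩
    have h1 := h.sq_eq_one_of_real hsα hg
    have h2 : p ∣ 2 := by rw [← hso]; exact orderOf_dvd_of_pow_eq_one h1
    exact hp2 ((Nat.prime_dvd_prime_iff_eq hp Nat.prime_two).1 h2)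
  rcases real_or hp s hso with h1 | ⟨hct, hnp, hcen⟩
  · exact hnr h1
  · have hpn : p ≤ n := by
      have h2 := Equiv.Perm.sum_cycleType (s : Perm (Fin n))
      rw [hct, Multiset.sum_singleton] at h2
      rw [h2]
      exact (Finset.card_le_univ _).trans (by rw [Fintype.card_fin])
    by_cases h6 : n = 6
    · subst h6
      apply hnr
      apply real_five s
      have h5 : p = 5 := by
        have h7 : p ≠ 6 := by
          rintro rfl
          exact absurd hp (by norm_num)
        omega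
      rw [hct, h5]
    · -- `α` is conjugation by a permutation
      obtain ⟨a, ha⟩ := (S2119.result n (by omega) h6).2 α
      have hinj := conjNormal_inj hn
      have hsc : (MulAut.conjNormal : Perm (Fin n) →* MulAut ↥(alternatingGroup (Fin n))) (s : Perm (Fin n)) =
          MulAut.conj s := by
        ext x : 1
        apply Subtype.ext
        rw [MulAut.conjNormal_apply]
        rfl
      have hcomm : a ∈ centralizer ({(s : Perm (Fin n))} : Set (Perm (Fin n))) := by
        rw [mem_centralizer_singleton_iff]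
        apply hinj
        rw [map_mul, map_mul, ha, hsc]
        obtain ⟨i, hi⟩ := hsα
        rw [← hi]
        exact ((Commute.refl α).zpow_right i).eq
      rw [hcen] at hcomm
      obtain ⟨i, hi⟩ := hcomm
      have hord : orderOf α ∣ p := by
        apply orderOf_dvd_of_pow_eq_one
        rw [← ha, ← map_pow, ← hi]
        have h3 : (s : Perm (Fin n)) ^ p = 1 := by
          have h4 : s ^ p = 1 := by rw [← hso]; exact pow_orderOf_eq_one s
          exact congrArg Subtype.val h4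
        show (MulAut.conjNormal : Perm (Fin n) →* MulAut ↥(alternatingGroup (Fin n))) (((s : Perm (Fin n)) ^ i) ^ p) = 1
        rw [← zpow_natCast, ← zpow_mul, mul_comm, zpow_mul, zpow_natCast, h3, one_zpow, map_one]
      have hα : orderOf α = p ^ 1 := by rw [pow_one]; exact Nat.dvd_antisymm hord hpd
      have : Fact p.Prime := ⟨hp⟩
      refine h.not_primepow (p := p) ?_ 1 hα
      rw [← hso]
      exact orderOf_dvd_natCard s

/-- **The row of the alternating groups.** -/
theorem row_alt {G : Type u} [Group G] [Finite G] (h : Cfsg.IsAlternating G) : Row G := by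
  obtain ⟨n, hn, ⟨e⟩⟩ := h
  exact (row_altn n hn).congr e

end Cfsg.Agent.H763.Ccp
end

-- part: H497/Stein/Pair
section
set_option linter.all false
open scoped Cfsg.Agent.FastGrp

/-!
# Rows of S4114: one prime `r` may be left to the commuting pairs `(y, s)`, `|y| = r`, `|s| = 2` (helper497)

If all automorphisms of `G` of order `2` and `r` are inner and all other odd primes are excluded by `Moved`, the order of a
minimal configuration is divisible by `2 r`; so only the elements of order `r` commuting with an involution matter.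
-/

set_option autoImplicit false

namespace Cfsg.Agent.H497.Stein

open Subgroup Cfsg Cfsg.Agent.H520
open Cfsg.Agent.CpAut (AutInner)

universe u

variable {G : Type u} [Group G]

/-- elements of order `p` commuting with an element of order `q` are conjugate to a different power -/
def MovedPair (p q : ℕ) (G : Type*) [Group G] : Prop :=
  ∀ y s : G, orderOf y = p → orderOf s = q → s * y = y * s → MovedAt y

theorem MovedPair.congr {H : Type*} [Group H] {p q : ℕ} (e : G ≃* H) (h : MovedPair p q H) : MovedPair p q G := by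
  intro y s hy hs hsy
  have h1 := h (e y) (e s) (by rw [MulEquiv.orderOf_eq, hy]) (by rw [MulEquiv.orderOf_eq, hs])
    (by rw [← map_mul, hsy, map_mul])
  have h2 := h1.map e.symm.toMonoidHom e.symm.injective
  have h3 : e.symm.toMonoidHom (e y) = y := e.symm_apply_apply y
  rwa [h3] at h2

theorem moved_of_pair {p q : ℕ} (h : MovedPair p q G) (he : ∀ y : G, orderOf y = p → ∃ s : G, orderOf s = q ∧ s * y = y * s) :
    Moved p G := by
  intro y hy
  obtain ⟨s, hs, hsy⟩ := he y hy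
  exact h y s hy hs hsy

/-- **the pair engine**: `p q ∤ |α|`. -/
theorem not_dvd_of_pair [Finite G] {α : MulAut G} (h : Cfg α) {p q : ℕ} (hp : p.Prime) (hq : q.Prime)
    (hip : AutInner p G) (hiq : AutInner q G) (hm : MovedPair p q G) (hdp : p ∣ orderOf α) : ¬ q ∣ orderOf α := by
  intro hdq
  obtain ⟨x, hx, hxo⟩ := exists_prime_order hp hdp
  obtain ⟨t, ht, hto⟩ := exists_prime_order hq hdq
  obtain ⟨y, rfl⟩ := hip x hxo
  obtain ⟨s, rfl⟩ := hiq t hto
  have hinj : Function.Injective (MulAut.conj : G →* MulAut G) := fun a b hab => conj_inj h.center_bot hab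
  have hy : orderOf y = p := by rw [← hxo]; exact (orderOf_injective _ hinj y).symm
  have hs : orderOf s = q := by rw [← hto]; exact (orderOf_injective _ hinj s).symm
  have hc : s * y = y * s := by
    apply hinj
    rw [map_mul, map_mul]
    exact (Cfg.comm_zpowers ht hx).eq
  exact not_movedAt h hx (hm y s hy hs hc)

/-- **Rows with one open prime.** -/
theorem row_of_pair [Finite G] {r : ℕ} (hr : r.Prime) (h2 : 2 ∣ Nat.card G) (hrG : r ∣ Nat.card G)
    (hi : ∀ p : ℕ, p.Prime → AutInner p G)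
    (hm : ∀ p : ℕ, p.Prime → p ≠ 2 → p ≠ r → p ∣ Nat.card G → Moved p G) (hpair : MovedPair r 2 G) : Row G := by
  intro α h
  have key : ∀ p : ℕ, p.Prime → p ∣ orderOf α → p = 2 ∨ p = r := by
    intro p hp hd
    by_contra hcon
    push Not at hcon
    by_cases hpG : p ∣ Nat.card G
    · exact not_dvd_of_moved h hp (hi p hp) (hm p hp hcon.1 hcon.2 hpG) hd
    · refine not_dvd_of_moved h hp (hi p hp) (fun y hy => absurd ?_ hpG) hd
      rw [← hy]
      exact orderOf_dvd_natCard y
  obtain ⟨p, hp, hp2, hd⟩ := h.exists_prime_ne Nat.prime_two h2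
  have hpr : p = r := (key p hp hd).resolve_left hp2
  subst hpr
  obtain ⟨q, hq, hqr, hdq⟩ := h.exists_prime_ne hp hrG
  have hq2 : q = 2 := (key q hq hdq).resolve_right hqr
  subst hq2
  exact not_dvd_of_pair h hp Nat.prime_two (hi _ hp) (hi _ Nat.prime_two) hpair hd hdq

end Cfsg.Agent.H497.Stein
end

-- part: H999/Ccp/Fi23Moved
section
prune_inst 0x42010040070021000001800102200002010000002000000002040010201490000a04708000a40040290c08c502842c00001100100422800002a00880000040120040262c092481100210000406801180c00000000000000000000000000000000000000000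
set_option linter.all false
open scoped Cfsg.Agent.FastGrp

/-!
# Elements of order 3 of `Fi23` are real (helper999, for S4114)

* `real_three` : an element of order 3 of `Fi23` is conjugate to its inverse;
* `moved_three` : `Moved 3 Fi23`.
-/

set_option autoImplicit false
set_option maxRecDepth 100000

namespace Cfsg.Agent.H999.Ccp.FiTh

open Subgroup Cfsg Cfsg.Agent.Lib.PermNet Cfsg.Agent.Fischer.Fi23Hom Cfsg.Agent.LThreeFi23
  Cfsg.Agent.H838.Fi23 Cfsg.Agent.H838.Mono Cfsg.Agent.H838.Three Cfsg.Agent.H497.Stein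
open Cfsg.Spor (Fi23)

theorem i0 : eqM (([.z] : List Cfsg.Agent.LThreeFi23.Lt) ++ ([.z, .j] : List Cfsg.Agent.LThreeFi23.Lt)) ([.z, .j].reverse ++ ([.z] : List Cfsg.Agent.LThreeFi23.Lt)) = true := by decide +kernel
theorem i1 : eqM (([.a, .h] : List Cfsg.Agent.LThreeFi23.Lt) ++ y135) (y135.reverse ++ ([.a, .h] : List Cfsg.Agent.LThreeFi23.Lt)) = true := by decide +kernel
theorem i2 : eqM (([.h, .e, .z] : List Cfsg.Agent.LThreeFi23.Lt) ++ y324) (y324.reverse ++ ([.h, .e, .z] : List Cfsg.Agent.LThreeFi23.Lt)) = true := by decide +kernel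
theorem i3 : eqM (([.a, .h, .z] : List Cfsg.Agent.LThreeFi23.Lt) ++ y27) (y27.reverse ++ ([.a, .h, .z] : List Cfsg.Agent.LThreeFi23.Lt)) = true := by decide +kernel

theorem isConj_inv {g w : List Lt} (h : eqM (g ++ w) (w.reverse ++ g) = true) : IsConj (elw w) (elw w)⁻¹ := by
  have h1 := elw_eq h
  rw [elw_append, elw_append, elw_reverse] at h1
  exact isConj_iff.2 ⟨elw g, by rw [h1, mul_inv_cancel_right]⟩

theorem rep_real (k : Fin 4) : IsConj (rep k) (rep k)⁻¹ := by
  fin_cases k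
  · have e : rep 0 = elw [.z, .j] := by rw [elw_cons, elw_one]; rfl
    show IsConj (rep 0) (rep 0)⁻¹
    rw [e]
    exact isConj_inv i0
  · exact isConj_inv i1
  · exact isConj_inv i2
  · exact isConj_inv i3

/-- **the elements of order 3 of `Fi23` are real** -/
theorem real_three {x : Fi23} (hx : x ^ 3 = 1) (hne : x ≠ 1) : IsConj x x⁻¹ := by
  obtain ⟨k, g, h⟩ := classes hx hne
  have hr := rep_real k
  obtain ⟨m, hm⟩ := isConj_iff.1 hr
  rcases h with h | h
  · have h1 : IsConj x (rep k) := isConj_iff.2 ⟨g, h⟩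
    have h2 : IsConj (rep k)⁻¹ x⁻¹ := by
      refine (isConj_iff.2 ⟨g, ?_⟩ : IsConj x⁻¹ (rep k)⁻¹).symm
      rw [← h]; group
    exact (h1.trans hr).trans h2
  · have h1 : IsConj x (rep k)⁻¹ := isConj_iff.2 ⟨g, h⟩
    have h2 : IsConj (rep k) x⁻¹ := by
      refine (isConj_iff.2 ⟨g, ?_⟩ : IsConj x⁻¹ (rep k)).symm
      rw [← inv_inv (rep k), ← h]; group
    exact (h1.trans hr.symm).trans h2

/-- **S4114**: `Moved 3 Fi23` -/
theorem moved_three [Finite Fi23] : Moved 3 Fi23 := by
  refine moved_of_real Nat.prime_three (by norm_num) fun y hy => real_three ?_ ?_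
  · rw [← hy, pow_orderOf_eq_one]
  · rintro rfl
    rw [orderOf_one] at hy
    norm_num at hy

end Cfsg.Agent.H999.Ccp.FiTh
end

-- part: H979/Ccp/Two
section
prune_inst 0x4000000000000000000180010000000000000000000000000000001020000000000020000080004000000004000000000000000000000000000000000000001200000000000000000000000000000000000000000000000000000000000000000000000000
set_option linter.all false
open scoped Cfsg.Agent.FastGrp

-- part: H979/Ccp/Zst
section
/-!
# `[X, β]` for `β` of prime power order with `CCP` (helper979)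

* `coprime_cG` : `CCP β`, `β` of order `p ^ k`: `[X, β]` has order prime to `p` (`Z*_p` theorem).
-/

set_option autoImplicit false

namespace Cfsg.Agent.H979.Ccp

open Subgroup Cfsg Cfsg.Agent.H520

universe u

variable {X : Type u} [Group X]

theorem conj_eq {H : Type*} [Group H] {β : MulAut X} {f : X →* H} {x : H}
    (hx : ∀ n, x * f n * x⁻¹ = f (β n)) (n : X) : f n * x * (f n)⁻¹ = f (n * (β n)⁻¹) * x := by
  rw [map_mul, map_inv, ← hx]
  group

/-- An element inducing `β` is isolated. -/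
theorem isolated_of [Finite X] {H : Type*} [Group H] {β : MulAut X} (hc : CCP β) {f : X →* H}
    (hf : Function.Injective f) {x : H} (hx : ∀ n, x * f n * x⁻¹ = f (β n))
    (hgen : ∀ g : H, ∃ (n : X) (c : H), c * x = x * c ∧ g = f n * c) : IsIsolated x := by
  intro g hg
  obtain ⟨n, c, hcx, rfl⟩ := hgen g
  have h1 : (f n * c) * x * (f n * c)⁻¹ = f (n * (β n)⁻¹) * x := by
    rw [← conj_eq hx]
    calc (f n * c) * x * (f n * c)⁻¹ = f n * (c * x) * c⁻¹ * (f n)⁻¹ := by group
      _ = _ := by rw [hcx]; group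
  rw [h1] at hg ⊢
  have h2 : f (β (n * (β n)⁻¹)) = f (n * (β n)⁻¹) := by
    rw [← hx]
    have h3 : x * (f (n * (β n)⁻¹) * x) = f (n * (β n)⁻¹) * x * x := hg
    generalize f (n * (β n)⁻¹) = y at h3
    calc x * y * x⁻¹ = x * (y * x) * x⁻¹ * x⁻¹ := by group
      _ = _ := by rw [h3]; group
  have h3 := hf h2
  have h4 : β n⁻¹ = n⁻¹ := by
    apply hc.eq_of_fix (k := 1)
    rw [one_mul, inv_one, mul_one, inv_inv, map_inv]
    exact h3
  have h5 : β n = n := by
    rw [map_inv] at h4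
    exact inv_injective h4
  rw [h5, mul_inv_cancel, map_one, one_mul]

/-- `CCP β`, `β` of order `p ^ k`: `[X, β]` has order prime to `p`. -/
theorem coprime_cG [Finite X] (hZ : ZStarT) {β : MulAut X} (hc : CCP β) {p : ℕ} [hp : Fact p.Prime]
    (hβ : ∃ k : ℕ, orderOf β = p ^ k) : (Nat.card (cG β)).Coprime p := by
  have hfin : Finite (X ⋊[(zpowers β).subtype] (zpowers β)) :=
    Finite.of_equiv _ (SemidirectProduct.equivProd (φ := (zpowers β).subtype)).symm
  obtain ⟨f, hf, hfe⟩ : ∃ f : X →* (X ⋊[(zpowers β).subtype] (zpowers β)), Function.Injective f ∧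
      f = SemidirectProduct.inl := ⟨_, SemidirectProduct.inl_injective, rfl⟩
  obtain ⟨b, hb⟩ : ∃ b : zpowers β, b = ⟨β, mem_zpowers β⟩ := ⟨_, rfl⟩
  obtain ⟨x, hxe⟩ : ∃ x : X ⋊[(zpowers β).subtype] (zpowers β), x = SemidirectProduct.inr b := ⟨_, rfl⟩
  have hxn : ∀ n : X, x * f n * x⁻¹ = f (β n) := by
    intro n
    have h1 := (SemidirectProduct.inl_aut (φ := (zpowers β).subtype) b n).symm
    rw [map_inv] at h1
    rw [hxe, hfe, h1, hb]
    rfl
  have hx : ∃ k : ℕ, orderOf x = p ^ k := by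
    obtain ⟨k, hk⟩ := hβ
    refine ⟨k, ?_⟩
    have h1 : orderOf x = orderOf b := by
      rw [hxe]
      exact orderOf_injective (SemidirectProduct.inr : zpowers β →* (X ⋊[(zpowers β).subtype] (zpowers β)))
        SemidirectProduct.inr_injective b
    rw [h1, ← hk, hb]
    exact (Subgroup.orderOf_coe _).symm
  have hiso : IsIsolated x := by
    refine isolated_of hc hf hxn fun g => ⟨g.left, SemidirectProduct.inr g.right, ?_, ?_⟩
    · rw [hxe, ← map_mul, ← map_mul]
      congr 1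
      obtain ⟨j, hj⟩ := g.right.2
      apply Subtype.ext
      show (g.right : MulAut X) * (b : MulAut X) = b * g.right
      rw [← hj, hb]
      exact ((Commute.refl β).zpow_left j).eq
    · rw [hfe]
      exact (SemidirectProduct.inl_left_mul_inr_right g).symm
  have hst := hZ.any p _ x hx hiso
  have hle : (cG β).map f ≤ pPrimeCore p (X ⋊[(zpowers β).subtype] (zpowers β)) := by
    rw [map_le_iff_le_comap, cG, closure_le]
    rintro _ ⟨n, rfl⟩
    have h1 := hst (f n⁻¹)
    show f (n⁻¹ * β n) ∈ pPrimeCore p _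
    rw [conj_eq hxn, mul_inv_cancel_right, map_inv β, inv_inv] at h1
    exact h1
  have hcard : Nat.card ↥((cG β).map f) = Nat.card ↥(cG β) := card_map_of_injective hf
  rw [← hcard]
  exact Nat.Coprime.coprime_dvd_left (card_dvd_of_le hle) (Agent.Lib.Cores.pPrimeCore_coprime p)

end Cfsg.Agent.H979.Ccp
end

-- part: H979/Ccp/Rank
section
/-!
# Orders of modules for elementary abelian groups (helper979)

* `card_fixA_modEq` : `|C_K(σ)| ≡ |K|` modulo `p` for a `p`-automorphism `σ`;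
* `pow_dvd_of_faithful` : an elementary abelian group of order divisible by `q ^ k` acting faithfully on an abelian
  `s`-group `N`: `s ^ (k * ord_q(s))` divides `|N|`;
* `pow_dvd_of_move` : a nontrivial `p`-automorphism of a `q`-group `A`: `q ^ ord_p(q)` divides `|A|`.
-/

set_option autoImplicit false

namespace Cfsg.Agent.H979.Ccp

open Subgroup Cfsg Cfsg.Agent.H520

section

variable {K : Type*} [Group K]

/-- `|C_K(σ)| ≡ |K|` modulo `p` for a `p`-automorphism `σ`. -/
theorem card_fixA_modEq [Finite K] {p : ℕ} [hp : Fact p.Prime] {σ : MulAut K} (hσ : ∃ j : ℕ, orderOf σ = p ^ j) :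
    Nat.card K ≡ Nat.card (fixA σ) [MOD p] := by
  obtain ⟨j, hj⟩ := hσ
  have h1 : IsPGroup p (zpowers σ) := IsPGroup.of_card (n := j) (by rw [Nat.card_zpowers, hj])
  have h2 := h1.card_modEq_card_fixedPoints K
  have h3 : Nat.card (MulAction.fixedPoints (zpowers σ) K) = Nat.card (fixA σ) := by
    refine Nat.card_congr (Equiv.subtypeEquivRight fun g => ?_)
    constructor
    · intro hg
      exact hg ⟨σ, mem_zpowers σ⟩
    · rintro hg ⟨_, i, rfl⟩
      have h4 : ∀ i : ℤ, (σ ^ i : MulAut K) g = g := by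
        intro i
        have h5 : σ ∈ MulAction.stabilizer (MulAut K) g := hg
        exact zpow_mem h5 i
      exact h4 i
  rwa [h3] at h2

theorem exists_pow_order {p : ℕ} [hp : Fact p.Prime] {M : Type*} [Monoid M] {x : M} {j : ℕ} (h : x ^ p ^ j = 1) :
    ∃ i : ℕ, orderOf x = p ^ i := by
  obtain ⟨i, -, hi⟩ := (Nat.dvd_prime_pow hp.out).1 (orderOf_dvd_of_pow_eq_one h)
  exact ⟨i, hi⟩

/-- `s ^ m ≡ s ^ n` modulo `q` -/
theorem ord_dvd_sub {q s m n : ℕ} [hq : Fact q.Prime] (hsq : ¬ q ∣ s) (hmn : n ≤ m)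
    (h : s ^ m ≡ s ^ n [MOD q]) : orderOf (s : ZMod q) ∣ m - n := by
  apply orderOf_dvd_of_pow_eq_one
  have h1 : ((s ^ m : ℕ) : ZMod q) = ((s ^ n : ℕ) : ZMod q) := (ZMod.natCast_eq_natCast_iff _ _ _).2 h
  rw [Nat.cast_pow, Nat.cast_pow] at h1
  have h2 : (s : ZMod q) ≠ 0 := by
    intro h3
    exact hsq ((ZMod.natCast_eq_zero_iff _ _).1 h3)
  have h3 : (s : ZMod q) ^ n * (s : ZMod q) ^ (m - n) = (s : ZMod q) ^ n * 1 := by
    rw [← pow_add, Nat.add_sub_cancel' hmn, h1, mul_one]
  exact mul_left_cancel₀ (pow_ne_zero n h2) h3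

theorem not_dvd_of_ne {q s : ℕ} (hq : q.Prime) (hs : s.Prime) (hne : s ≠ q) : ¬ q ∣ s := by
  intro h
  exact hne ((Nat.prime_dvd_prime_iff_eq hq hs).1 h).symm

/-- A nontrivial `p`-automorphism of a `q`-group `A`: `q ^ ord_p(q)` divides `|A|`. -/
theorem pow_dvd_of_move [Finite K] {p q : ℕ} [hp : Fact p.Prime] [hq : Fact q.Prime] (hne : q ≠ p)
    (hK : IsPGroup q K) {σ : MulAut K} (hσ : ∃ j : ℕ, orderOf σ = p ^ j) (h1 : σ ≠ 1) :
    q ^ orderOf (q : ZMod p) ∣ Nat.card K := by
  obtain ⟨m, hm⟩ := IsPGroup.iff_card.1 hK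
  obtain ⟨n, hn⟩ := IsPGroup.iff_card.1 (hK.to_subgroup (fixA σ))
  have h2 := card_fixA_modEq (p := p) hσ
  rw [hm, hn] at h2
  have h3 : Nat.card (fixA σ) ≠ Nat.card K := by
    intro h3
    apply h1
    have h4 : fixA σ = ⊤ := Subgroup.eq_top_of_card_eq _ h3
    ext g
    have : g ∈ fixA σ := by rw [h4]; trivial
    exact this
  have h4 : n ≤ m := by
    have h5 := (fixA σ).card_subgroup_dvd_card
    rw [hm, hn] at h5
    exact (Nat.pow_dvd_pow_iff_le_right hq.out.one_lt).1 h5
  have h5 : n ≠ m := by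
    rintro rfl
    exact h3 (hn.trans hm.symm)
  have h6 := Nat.le_of_dvd (by omega) (ord_dvd_sub (not_dvd_of_ne hp.out hq.out hne) h4 h2)
  rw [hm]
  exact pow_dvd_pow q (by omega)

end

section rank

variable {H : Type*} [Group H] [Finite H]

/-- the step of the induction: the fixed points of a hyperplane -/
theorem card_step {q s : ℕ} [hq : Fact q.Prime] [hs : Fact s.Prime] (hne : s ≠ q) {N1 : Subgroup H}
    (hN1 : IsPGroup s N1) {a : H} (haq : a ^ q = 1) (han : ∀ n ∈ N1, a * n * a⁻¹ ∈ N1)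
    (hmv : ∃ n ∈ N1, a * n ≠ n * a) : s ^ orderOf (s : ZMod q) ∣ Nat.card N1 := by
  refine pow_dvd_of_move (p := q) (q := s) (K := N1) hne hN1 (σ := resA (MulAut.conj a) N1 han) ?_ ?_
  · apply exists_pow_order (p := q) (j := 1)
    rw [pow_one]
    have h1 : (MulAut.conj a) ^ q = 1 := by rw [← map_pow, haq, map_one]
    have h2 := orderOf_resA_dvd (MulAut.conj a) N1 han
    have h3 : orderOf (MulAut.conj a) ∣ q := orderOf_dvd_of_pow_eq_one h1
    exact orderOf_dvd_iff_pow_eq_one.1 (h2.trans h3)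
  · intro h1
    obtain ⟨n, hn, hn1⟩ := hmv
    apply hn1
    have h2 : (resA (MulAut.conj a) N1 han ⟨n, hn⟩ : H) = n := by rw [h1]; rfl
    have h3 : a * n * a⁻¹ = n := h2
    exact mul_inv_eq_iff_eq_mul.1 h3

/-- **The order of a faithful module.** -/
theorem pow_dvd_of_faithful {q s : ℕ} [hq : Fact q.Prime] [hs : Fact s.Prime] (hne : s ≠ q) (k : ℕ) :
    ∀ A N : Subgroup H, IsElementaryAbelian q A → IsPGroup s N → (∀ x ∈ N, ∀ y ∈ N, x * y = y * x) →
      A ≤ normalizer (N : Set H) → A ⊓ centralizer (N : Set H) = ⊥ → q ^ k ∣ Nat.card A →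
      s ^ (k * orderOf (s : ZMod q)) ∣ Nat.card N := by
  induction k with
  | zero =>
    intro A N _ _ _ _ _ _
    rw [zero_mul, pow_zero]
    exact one_dvd _
  | succ k ih =>
    intro A N hA hN hNc hAN hf hk
    have hAne : A ≠ ⊥ := by
      rintro rfl
      rw [card_bot] at hk
      have h1 := Nat.le_of_dvd one_pos hk
      have h2 : 1 < q ^ (k + 1) := Nat.one_lt_pow (Nat.succ_ne_zero k) hq.out.one_lt
      omega
    have hAq : IsPGroup q A := fun a => ⟨1, by
      rw [pow_one]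
      exact Subtype.ext (hA.2 a a.2)⟩
    have hcopN : (Nat.card N).Coprime q := by
      obtain ⟨m, hm⟩ := IsPGroup.iff_card.1 hN
      rw [hm]
      exact Nat.Coprime.pow_left m ((Nat.coprime_primes hs.out hq.out).2 hne)
    have hgen := Lib.CoprimeHyperplane.le_iSup_hyperplane A N hA hAne hcopN hAN
    -- a hyperplane with more fixed points
    obtain ⟨B, hBA, hBi, n, hn, hnA⟩ : ∃ B : Subgroup H, B ≤ A ∧ B.relIndex A = q ∧
        ∃ n ∈ N ⊓ centralizer (B : Set H), n ∉ centralizer (A : Set H) := by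
      by_contra hcon
      push Not at hcon
      have h1 : N ≤ centralizer (A : Set H) := by
        rw [hgen]
        exact iSup_le fun B => fun n hn => hcon B.1 B.2.1 B.2.2 n hn
      have h2 : A ≤ centralizer (N : Set H) := le_centralizer_iff.1 h1
      rw [inf_eq_left.2 h2] at hf
      exact hAne hf
    have hBN : B ≤ normalizer (N : Set H) := hBA.trans hAN
    have hcopB : (Nat.card B).Coprime (Nat.card N) := by
      obtain ⟨m, hm⟩ := IsPGroup.iff_card.1 (hAq.to_le hBA)
      rw [hm]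
      exact Nat.Coprime.pow_left m hcopN.symm
    have h1 := Lib.CoprimeAbelian.inf_commutator_eq_bot B N hNc hBN hcopB
    have h2 := Lib.CoprimeAbelian.sup_commutator_eq B N hNc hBN hcopB
    have hle1 : N ⊓ centralizer (B : Set H) ≤ N := inf_le_left
    have hle2 : ⁅N, B⁆ ≤ N := le_trans le_sup_right h2.le
    -- the order of the fixed points
    have hc1 : s ^ orderOf (s : ZMod q) ∣ Nat.card ↥(N ⊓ centralizer (B : Set H) : Subgroup H) := by
      obtain ⟨a, ha, han⟩ : ∃ a ∈ A, a * n ≠ n * a := by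
        by_contra hcon
        push Not at hcon
        exact hnA (mem_centralizer_iff.2 hcon)
      refine card_step hne (hN.to_le hle1) (a := a) (hA.2 a ha) ?_ ⟨n, hn, han⟩
      rintro m ⟨hm, hmB⟩
      refine ⟨(mem_normalizer_iff.1 (hAN ha) m).1 hm, mem_centralizer_iff.2 fun b hb => ?_⟩
      have hab : Commute b a := congrArg Subtype.val (hA.1.is_comm.comm (⟨b, hBA hb⟩ : ↥A) ⟨a, ha⟩)
      have hbm : Commute b m := mem_centralizer_iff.1 hmB b hb
      exact ((hab.mul_right hbm).mul_right hab.inv_right).eq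
    -- the order of the commutator
    have hc2 : s ^ (k * orderOf (s : ZMod q)) ∣ Nat.card ↥(⁅N, B⁆ : Subgroup H) := by
      refine ih B ⁅N, B⁆ ⟨?_, fun b hb => hA.2 b (hBA hb)⟩ (hN.to_le hle2)
        (fun x hx y hy => hNc x (hle2 hx) y (hle2 hy)) ?_ ?_ ?_
      · refine ⟨⟨fun x y => Subtype.ext ?_⟩⟩
        have h3 := hA.1.is_comm.comm (⟨x, hBA x.2⟩ : ↥A) ⟨y, hBA y.2⟩
        exact congrArg (fun z : ↥A => (z : H)) h3
      · exact normalizer_commutator_ge_right N B
      · rw [eq_bot_iff, ← hf]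
        rintro b ⟨hb, hbc⟩
        refine ⟨hBA hb, ?_⟩
        have h3 : N ≤ centralizer ({b} : Set H) := by
          refine h2.symm.le.trans (sup_le ?_ ?_)
          · rintro m ⟨-, hm⟩
            exact mem_centralizer_singleton_iff.2 (mem_centralizer_iff.1 hm b hb).symm
          · intro m hm
            exact mem_centralizer_singleton_iff.2 (mem_centralizer_iff.1 hbc m hm)
        exact mem_centralizer_iff.2 fun m hm => mem_centralizer_singleton_iff.1 (h3 hm)
      · have h3 := (B.subgroupOf A).card_mul_index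
        rw [Nat.card_congr (subgroupOfEquivOfLe hBA).toEquiv] at h3
        have h4 : (B.subgroupOf A).index = q := hBi
        rw [h4] at h3
        rw [← h3, pow_succ] at hk
        exact Nat.dvd_of_mul_dvd_mul_right hq.out.pos hk
    have hmul : Nat.card ↥(N ⊓ centralizer (B : Set H) : Subgroup H) * Nat.card ↥(⁅N, B⁆ : Subgroup H) = Nat.card ↥N := by
      have h3 := Lib.ProductSet.card_mul_card_inf (N ⊓ centralizer (B : Set H)) ⁅N, B⁆
      have h4 : ⁅N, B⁆ ≤ normalizer ((N ⊓ centralizer (B : Set H) : Subgroup H) : Set H) := by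
        intro c hc
        rw [mem_normalizer_iff]
        intro m
        have key : ∀ c ∈ N, ∀ m ∈ N ⊓ centralizer (B : Set H), c * m * c⁻¹ ∈ N ⊓ centralizer (B : Set H) := by
          intro c hc m hm
          rw [hNc c hc m hm.1, mul_inv_cancel_right]
          exact hm
        refine ⟨key c (hle2 hc) m, fun h5 => ?_⟩
        have h6 := key c⁻¹ (N.inv_mem (hle2 hc)) _ h5
        have e : c⁻¹ * (c * m * c⁻¹) * c⁻¹⁻¹ = m := by group
        rwa [e] at h6
      rw [← coe_mul_of_right_le_normalizer_left _ _ h4, h2, h1, card_bot, mul_one] at h3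
      exact h3.symm
    rw [← hmul, add_mul, one_mul, pow_add, mul_comm]
    exact mul_dvd_mul hc1 hc2

end rank

end Cfsg.Agent.H979.Ccp
end

-- part: H979/Ccp/Sol
section
/-!
# Invariant Sylow subgroups of solvable groups for automorphisms with `CCP` (helper979)

* `NumOK q n o` : the numerical condition;
* `exists_sylow_inv` : `X` solvable, `CCP α`, `q ∤ |α|`, `NumOK q |X| |α|`: `α` normalises a Sylow `q`-subgroup of `X`.
-/

set_option autoImplicit false
set_option linter.unusedSectionVars false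

namespace Cfsg.Agent.H979.Ccp

open Subgroup Cfsg Cfsg.Agent.H520
open scoped Pointwise

universe u

/-- the numerical condition -/
def NumOK (q n o : ℕ) : Prop := ∀ s p : ℕ, s.Prime → p.Prime → s ∣ o → p ∣ o → s ≠ q → p ≠ q → p ≠ s →
  ¬ s ^ (orderOf (q : ZMod p) * orderOf (s : ZMod q)) ∣ n

theorem NumOK.mono {q n o n' o' : ℕ} (h : NumOK q n o) (hn : n' ∣ n) (ho : o' ∣ o) : NumOK q n' o' :=
  fun s p hs hp h1 h2 h3 h4 h5 h6 => h s p hs hp (h1.trans ho) (h2.trans ho) h3 h4 h5 (h6.trans hn)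

section

variable {X : Type u} [Group X] [Finite X]

/-- minimal invariant normal subgroups of solvable groups -/
theorem min_elem (hs : Group.IsSolvable X) {α : MulAut X} {N : Subgroup X} (hNb : N ≠ ⊥) (hNn : N.Normal)
    (hNi : ∀ m ∈ N, α m ∈ N)
    (hmin : ∀ M : Subgroup X, M ≤ N → M ≠ ⊥ → M.Normal → (∀ m ∈ M, α m ∈ M) → M = N) :
    ∃ s : ℕ, s.Prime ∧ (∀ x ∈ N, ∀ y ∈ N, x * y = y * x) ∧ ∀ x ∈ N, x ^ s = 1 := by
  have hab : ∀ x ∈ N, ∀ y ∈ N, x * y = y * x := by
    have h1 : (⁅N, N⁆ : Subgroup X) < N := Group.IsSolvable.commutator_lt_of_ne_bot hNb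
    have h2 : (⁅N, N⁆ : Subgroup X) = ⊥ := by
      by_contra h3
      refine h1.ne (hmin _ h1.le h3 inferInstance ?_)
      have h4 : (⁅N, N⁆ : Subgroup X).map α.toMonoidHom ≤ ⁅N, N⁆ := by
        rw [map_commutator]
        have h5 : N.map α.toMonoidHom ≤ N := by
          rintro _ ⟨n, hn, rfl⟩
          exact hNi n hn
        exact commutator_mono h5 h5
      intro m hm
      exact h4 ⟨m, hm, rfl⟩
    intro x hx y hy
    have h3 := commutator_mem_commutator hx hy
    rw [h2, mem_bot, commutatorElement_def, mul_inv_eq_one, mul_inv_eq_iff_eq_mul] at h3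
    exact h3
  have hne : Nat.card N ≠ 1 := fun h => hNb (card_eq_one.1 h)
  obtain ⟨s, hs, hsd⟩ := Nat.exists_prime_and_dvd hne
  refine ⟨s, hs, hab, ?_⟩
  have : Fact s.Prime := ⟨hs⟩
  let M : Subgroup X :=
    { carrier := {x | x ∈ N ∧ x ^ s = 1}
      one_mem' := ⟨one_mem N, one_pow s⟩
      mul_mem' := by
        rintro a b ⟨ha, ha1⟩ ⟨hb, hb1⟩
        exact ⟨mul_mem ha hb, by rw [Commute.mul_pow (hab a ha b hb), ha1, hb1, one_mul]⟩
      inv_mem' := by
        rintro a ⟨ha, ha1⟩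
        exact ⟨inv_mem ha, by rw [inv_pow, ha1, inv_one]⟩ }
  have hM : M = N := by
    apply hmin
    · exact fun x hx => hx.1
    · obtain ⟨x, hx⟩ := exists_prime_orderOf_dvd_card' s hsd
      intro h1
      have h2 : (x : X) ∈ M := ⟨x.2, by
        have h3 : x ^ s = 1 := by rw [← hx]; exact pow_orderOf_eq_one x
        exact congrArg Subtype.val h3⟩
      rw [h1, mem_bot] at h2
      have h3 : x = 1 := Subtype.ext h2
      rw [h3, orderOf_one] at hx
      exact hs.one_lt.ne hx
    · refine ⟨fun x hx g => ⟨hNn.conj_mem x hx.1 g, ?_⟩⟩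
      rw [conj_pow, hx.2, mul_one, mul_inv_cancel]
    · rintro x ⟨hx, hx1⟩
      exact ⟨hNi x hx, by rw [← map_pow, hx1, map_one]⟩
  intro x hx
  rw [← hM] at hx
  exact hx.2

/-- the Sylow subgroup `{x | y x y⁻¹ ∈ R}` -/
theorem exists_conj_sylow {q : ℕ} (R : Sylow q X) (y : X) :
    ∃ R' : Sylow q X, ∀ x : X, x ∈ (R' : Subgroup X) ↔ y * x * y⁻¹ ∈ (R : Subgroup X) := by
  refine ⟨y⁻¹ • R, fun x => ?_⟩
  rw [Sylow.coe_subgroup_smul, mem_pointwise_smul_iff_inv_smul_mem, ← map_inv, inv_inv, MulAut.smul_def,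
    MulAut.conj_apply]

variable {q s : ℕ} [hq : Fact q.Prime] {α : MulAut X} {N : Subgroup X}

/-- `α(R) = Rᶜ` with `c ∈ N` fixed by `α`. -/
theorem exists_affine (hccp : CCP α) (hNi : ∀ m ∈ N, α m ∈ N) (hNab : ∀ x ∈ N, ∀ y ∈ N, x * y = y * x)
    (hX : ∀ (R : Sylow q X) (g : X), ∃ r ∈ (R : Subgroup X), ∃ n ∈ N, g = r * n) :
    ∃ (R : Sylow q X) (c : X), c ∈ N ∧ α c = c ∧ ∀ r ∈ (R : Subgroup X), c⁻¹ * α r * c ∈ (R : Subgroup X) := by
  let R : Sylow q X := default
  obtain ⟨g, hg⟩ := MulAction.exists_smul_eq X (α • R) R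
  have h1 : ∀ r ∈ (R : Subgroup X), g * α r * g⁻¹ ∈ (R : Subgroup X) := by
    intro r hr
    have h2 : α r ∈ ((α • R : Sylow q X) : Subgroup X) := smul_mem_pointwise_smul r α (R : Subgroup X) hr
    have h3 : g * α r * g⁻¹ ∈ ((g • (α • R) : Sylow q X) : Subgroup X) := by
      rw [Sylow.coe_subgroup_smul]
      exact smul_mem_pointwise_smul _ (MulAut.conj g) _ h2
    rwa [hg] at h3
  obtain ⟨r0, hr0, n, hn, rfl⟩ := hX R g
  have h2 : ∀ r ∈ (R : Subgroup X), n * α r * n⁻¹ ∈ (R : Subgroup X) := by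
    intro r hr
    have h3 := mul_mem (mul_mem (inv_mem hr0) (h1 r hr)) hr0
    have e : r0⁻¹ * (r0 * n * α r * (r0 * n)⁻¹) * r0 = n * α r * n⁻¹ := by group
    rwa [e] at h3
  obtain ⟨c, y, hc, e⟩ := (hccp.res N hNi) ⟨n⁻¹, inv_mem hn⟩
  have hc' : α c.1 = c.1 := congrArg Subtype.val hc
  have e' : n⁻¹ = c.1 * (y.1⁻¹ * α y.1) := congrArg Subtype.val e
  obtain ⟨R', hR'⟩ := exists_conj_sylow R y.1
  refine ⟨R', c.1, c.2, hc', fun r hr => ?_⟩
  rw [hR'] at hr ⊢
  have h3 := h2 _ hr
  have hαy : α y.1 ∈ N := hNi _ y.2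
  have e1 : n = y.1 * c.1⁻¹ * (α y.1)⁻¹ := by
    have h4 : n = (n⁻¹)⁻¹ := (inv_inv n).symm
    rw [h4, e', mul_inv_rev, mul_inv_rev, inv_inv]
    have h5 := hNab _ (inv_mem hαy) _ (mul_mem y.2 (inv_mem c.2))
    calc (α y.1)⁻¹ * y.1 * c.1⁻¹ = (α y.1)⁻¹ * (y.1 * c.1⁻¹) := by group
      _ = y.1 * c.1⁻¹ * (α y.1)⁻¹ := h5
  have e2 : n * α (y.1 * r * y.1⁻¹) * n⁻¹ = y.1 * (c.1⁻¹ * α r * c.1) * y.1⁻¹ := by
    rw [e1, map_mul, map_mul, map_inv]
    group
  rwa [e2] at h3

/-- `γ = conj(c)⁻¹ α` : the elements of `⟨α⟩` of order prime to `s` are in `⟨γ⟩` -/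
theorem mem_zpowers_gamma {c : X} (hc : α c = c) (hcs : c ^ s = 1) (hs : s.Prime) {z : MulAut X}
    (hz : z ∈ zpowers α) (hzs : ¬ s ∣ orderOf z) : z ∈ zpowers ((MulAut.conj c)⁻¹ * α) := by
  have hcomm : Commute (MulAut.conj c) α := by
    have h1 := aut_conj α c
    rw [hc, mul_inv_eq_iff_eq_mul] at h1
    exact h1.symm
  set γ := (MulAut.conj c)⁻¹ * α with hγ
  have hα : α = MulAut.conj c * γ := by rw [hγ, mul_inv_cancel_left]
  have hcg : Commute (MulAut.conj c) γ := ((Commute.refl _).inv_right).mul_right hcomm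
  obtain ⟨i, hi⟩ := hz
  have hcop : s.Coprime (orderOf z) := (Nat.Prime.coprime_iff_not_dvd hs).2 hzs
  obtain ⟨u, hu⟩ := exists_pow_eq_self_of_coprime hcop
  have h1 : z ^ s = (γ ^ i) ^ s := by
    have h2 : z = (MulAut.conj c) ^ i * γ ^ i := by
      rw [← hi]
      show α ^ i = _
      rw [hα, hcg.mul_zpow]
    rw [h2, (hcg.zpow_zpow i i).mul_pow]
    have h3 : ((MulAut.conj c : MulAut X) ^ i) ^ s = 1 := by
      rw [← zpow_natCast, ← zpow_mul, mul_comm, zpow_mul, zpow_natCast, ← map_pow, hcs, map_one, one_zpow]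
    rw [h3, one_mul]
  rw [← hu, h1]
  exact pow_mem (pow_mem (zpow_mem (mem_zpowers γ) i) s) u

theorem gamma_apply (c r : X) : ((MulAut.conj c)⁻¹ * α) r = c⁻¹ * α r * c := by
  rw [← map_inv, MulAut.mul_apply, MulAut.conj_apply, inv_inv]

theorem zpowers_inv {R : Subgroup X} {γ z : MulAut X} (h : ∀ r ∈ R, γ r ∈ R) (hz : z ∈ zpowers γ) : ∀ r ∈ R, z r ∈ R := by
  obtain ⟨n, rfl⟩ := (mem_powers_iff_mem_zpowers (x := γ) (y := z)).2 hz
  intro r hr
  show (γ ^ n) r ∈ R
  induction n with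
  | zero => exact hr
  | succ n ih =>
    rw [pow_succ', MulAut.mul_apply]
    exact h _ (ih (pow_mem (mem_zpowers γ) n))

/-- **`r ∈ C_R(z)` commutes with `c`**, `z` the part of `α` of order prime to `s`. -/
theorem comm_of_fixed (hZ : ZStarT) [hs : Fact s.Prime] (hqs : s ≠ q) (hccp : CCP α) (hNn : N.Normal)
    (hNs : ∀ x ∈ N, x ^ s = 1) {R : Subgroup X} (hR : IsPGroup q R) {c : X} (hcN : c ∈ N)
    (hc : α c = c) (hγ : ∀ r ∈ R, c⁻¹ * α r * c ∈ R) {x z : MulAut X} (hx : x ∈ zpowers α) (hz : z ∈ zpowers α)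
    (hα : α = z * x) (hxs : ∃ k : ℕ, orderOf x = s ^ k) {r : X} (hr : r ∈ R) (hzr : z r = r) : c * r = r * c := by
  have hzα : Commute z α := Cfg.comm_zpowers hz (mem_zpowers α)
  have hYi : ∀ m ∈ fixA z, α m ∈ fixA z := Cfg.fixA_inv hzα
  have hzc : z c = c := by
    have h1 : α ∈ MulAction.stabilizer (MulAut X) c := hc
    have h2 : zpowers α ≤ MulAction.stabilizer (MulAut X) c := by rwa [zpowers_le]
    exact h2 hz
  set β := resA α (fixA z) hYi with hβ
  -- the order of `β`
  have hβs : ∃ k : ℕ, orderOf β = s ^ k := by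
    obtain ⟨k, hk⟩ := hxs
    apply exists_pow_order (p := s) (j := k)
    have h1 : ∀ (n : ℕ) (m : ↥(fixA z)), ((β ^ n) m : X) = (x ^ n) (m : X) ∧ z ((x ^ n) (m : X)) = (x ^ n) (m : X) := by
      intro n
      induction n with
      | zero =>
        intro m
        exact ⟨rfl, m.2⟩
      | succ n ih =>
        intro m
        have h2 : ((β ^ (n + 1)) m : X) = (x ^ (n + 1)) (m : X) := by
          rw [pow_succ', pow_succ', MulAut.mul_apply, MulAut.mul_apply, hβ, resA_coe, ← hβ, (ih m).1, hα, MulAut.mul_apply]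
          have h3 : Commute z x := Cfg.comm_zpowers hz hx
          calc z (x ((x ^ n) (m : X))) = (z * x) ((x ^ n) (m : X)) := rfl
            _ = (x * z) ((x ^ n) (m : X)) := by rw [h3.eq]
            _ = x (z ((x ^ n) (m : X))) := rfl
            _ = _ := by rw [(ih m).2]
        exact ⟨h2, by rw [← h2]; exact ((β ^ (n + 1)) m).2⟩
    ext m
    have h2 := (h1 (s ^ k) m).1
    rw [← hk, pow_orderOf_eq_one] at h2
    rw [← hk]
    exact h2
  have hK := coprime_cG hZ (hccp.res (fixA z) hYi) hβs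
  have hKn : (cG β).Normal := cG_normal β
  -- the elements
  obtain ⟨c', hc'⟩ : ∃ c' : ↥(fixA z), (c' : X) = c := ⟨⟨c, hzc⟩, rfl⟩
  obtain ⟨r', hr'⟩ : ∃ r' : ↥(fixA z), (r' : X) = r := ⟨⟨r, hzr⟩, rfl⟩
  obtain ⟨k, hk⟩ : ∃ k, k = r'⁻¹ * β r' := ⟨_, rfl⟩
  have hkK : k ∈ cG β := hk ▸ mem_cG β r'
  obtain ⟨d, hd⟩ : ∃ d, d = r'⁻¹ * c'⁻¹ * r' * c' := ⟨_, rfl⟩
  obtain ⟨l, hl⟩ : ∃ l, l = c'⁻¹ * k * c' := ⟨_, rfl⟩
  have hlK : l ∈ cG β := by
    have h1 := hKn.conj_mem k hkK c'⁻¹
    rw [inv_inv] at h1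
    rwa [hl]
  have hdN : (d : X) ∈ N := by
    rw [hd, coe_mul, coe_mul, coe_mul, coe_inv, coe_inv, hc', hr']
    have h1 := hNn.conj_mem _ (inv_mem hcN) r⁻¹
    rw [inv_inv] at h1
    exact mul_mem h1 hcN
  have hdl : d * l = r'⁻¹ * (c'⁻¹ * β r' * c') := by
    rw [hd, hl, hk]
    group
  have hdlR : ((d * l : ↥(fixA z)) : X) ∈ R := by
    rw [hdl, coe_mul, coe_mul, coe_mul, coe_inv, coe_inv, hβ, resA_coe, hc', hr']
    exact mul_mem (inv_mem hr) (hγ r hr)
  -- `N ∩ K = 1`
  have hNK : ∀ y : ↥(fixA z), (y : X) ∈ N → y ∈ cG β → y = 1 := by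
    intro y hyN hyK
    have h1 : orderOf y ∣ s := orderOf_dvd_of_pow_eq_one (Subtype.ext (hNs _ hyN))
    have h2 : orderOf y ∣ Nat.card ↥(cG β) := by
      have h3 : orderOf (⟨y, hyK⟩ : ↥(cG β)) = orderOf y := Subgroup.orderOf_mk y hyK
      rw [← h3]
      exact orderOf_dvd_natCard _
    have h3 := Nat.dvd_gcd h2 h1
    rw [hK] at h3
    exact orderOf_eq_one_iff.1 (Nat.dvd_one.1 h3)
  have hcomm : Commute d l := by
    have h1 : d * l * d⁻¹ * l⁻¹ = 1 := by
      apply hNK
      · have h2 : ((d * l * d⁻¹ * l⁻¹ : ↥(fixA z)) : X) = (d : X) * ((l : X) * (d : X)⁻¹ * (l : X)⁻¹) := by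
          rw [coe_mul, coe_mul, coe_mul, coe_inv, coe_inv]; group
        rw [h2]
        exact mul_mem hdN (hNn.conj_mem _ (inv_mem hdN) _)
      · exact mul_mem (hKn.conj_mem l hlK d) (inv_mem hlK)
    rw [mul_inv_eq_one, mul_inv_eq_iff_eq_mul] at h1
    exact h1
  have hd1 : d = 1 := by
    obtain ⟨j, hj⟩ := hR ⟨_, hdlR⟩
    have h1 : (d * l) ^ q ^ j = 1 := by
      have h2 := congrArg (fun z : ↥R => (z : X)) hj
      exact Subtype.ext (by simpa using h2)
    rw [hcomm.mul_pow] at h1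
    have h2 : d ^ q ^ j = 1 := by
      apply hNK
      · rw [SubmonoidClass.coe_pow]
        exact pow_mem hdN _
      · rw [eq_inv_of_mul_eq_one_left h1]
        exact inv_mem (pow_mem hlK _)
    have h3 : orderOf d ∣ s := orderOf_dvd_of_pow_eq_one (Subtype.ext (hNs _ hdN))
    have h4 := Nat.dvd_gcd (orderOf_dvd_of_pow_eq_one h2) h3
    have h5 : (q ^ j).Coprime s := Nat.Coprime.pow_left j ((Nat.coprime_primes hq.out hs.out).2 hqs.symm)
    rw [h5] at h4
    exact orderOf_eq_one_iff.1 (Nat.dvd_one.1 h4)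
  rw [hd] at hd1
  have h1 : r⁻¹ * c⁻¹ * r * c = 1 := by
    have h2 := congrArg (fun z : ↥(fixA z) => (z : X)) hd1
    rw [← hc', ← hr']
    exact h2
  calc c * r = c * r * (r⁻¹ * c⁻¹ * r * c) := by rw [h1, mul_one]
    _ = r * c := by group


/-- `Ω₁(Z(R))` -/
def om (q : ℕ) (R : Subgroup X) : Subgroup X where
  carrier := {a | a ∈ R ∧ a ^ q = 1 ∧ ∀ r ∈ R, a * r = r * a}
  one_mem' := ⟨one_mem R, one_pow q, fun r _ => by rw [one_mul, mul_one]⟩
  mul_mem' := by
    rintro a b ⟨ha, ha1, ha2⟩ ⟨hb, hb1, hb2⟩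
    refine ⟨mul_mem ha hb, ?_, fun r hr => ?_⟩
    · rw [Commute.mul_pow (ha2 b hb), ha1, hb1, one_mul]
    · rw [mul_assoc, hb2 r hr, ← mul_assoc, ha2 r hr, mul_assoc]
  inv_mem' := by
    rintro a ⟨ha, ha1, ha2⟩
    refine ⟨inv_mem ha, by rw [inv_pow, ha1, inv_one], fun r hr => ?_⟩
    exact ((show Commute a r from ha2 r hr).inv_left).eq

theorem om_inv {R : Subgroup X} {γ : MulAut X} (h : ∀ r ∈ R, γ r ∈ R) : ∀ a ∈ om q R, γ a ∈ om q R := by
  rintro a ⟨ha, ha1, ha2⟩
  refine ⟨h a ha, by rw [← map_pow, ha1, map_one], fun r hr => ?_⟩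
  have h1 := symm_mem_of_inv h hr
  have h2 := congrArg γ (ha2 _ h1)
  rw [map_mul, map_mul, MulAut.apply_inv_self] at h2
  exact h2

theorem om_ne_bot {R : Subgroup X} (hR : IsPGroup q R) (hRb : R ≠ ⊥) : om q R ≠ ⊥ := by
  have h1 : Nontrivial R := (nontrivial_iff_ne_bot R).2 hRb
  have h2 := hR.center_nontrivial
  have h3 : q ∣ Nat.card (center R) := by
    obtain ⟨n, hn⟩ := IsPGroup.iff_card.1 (hR.to_subgroup (center R))
    have h4 : Nat.card (center R) ≠ 1 := Finite.one_lt_card.ne'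
    rw [hn]
    refine dvd_pow_self q fun h5 => h4 ?_
    rw [hn, h5, pow_zero]
  obtain ⟨a, ha⟩ := exists_prime_orderOf_dvd_card' q h3
  intro h4
  have h5 : ((a : R) : X) ∈ om q R := by
    refine ⟨(a : R).2, ?_, fun r hr => ?_⟩
    · have h6 : a ^ q = 1 := by rw [← ha]; exact pow_orderOf_eq_one a
      have h7 := congrArg (fun z : ↥(center R) => ((z : R) : X)) h6
      exact h7
    · exact (congrArg Subtype.val (mem_center_iff.1 a.2 ⟨r, hr⟩)).symm
  rw [h4, mem_bot] at h5
  have h6 : a = 1 := Subtype.ext (Subtype.ext h5)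
  rw [h6, orderOf_one] at ha
  exact hq.out.one_lt.ne ha

/-- lifting from a quotient by a `q`-group -/
theorem lift_quot {M : Subgroup X} [M.Normal] (hM : IsPGroup q M) (hMi : ∀ m ∈ M, α m ∈ M)
    (h : ∃ P : Sylow q (X ⧸ M), ∀ m ∈ (P : Subgroup (X ⧸ M)), quoA α M hMi m ∈ (P : Subgroup (X ⧸ M))) :
    ∃ P : Sylow q X, ∀ m ∈ (P : Subgroup X), α m ∈ (P : Subgroup X) := by
  obtain ⟨P, hP⟩ := h
  have h1 : IsPGroup q ↥((P : Subgroup (X ⧸ M)).comap (QuotientGroup.mk' M)) :=
    P.isPGroup'.comap_of_ker_isPGroup _ (by rw [QuotientGroup.ker_mk']; exact hM)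
  have h2 : ¬ q ∣ ((P : Subgroup (X ⧸ M)).comap (QuotientGroup.mk' M)).index := by
    rw [index_comap_of_surjective _ (QuotientGroup.mk'_surjective M)]
    exact P.not_dvd_index
  refine ⟨h1.toSylow h2, fun m hm => ?_⟩
  have h3 : (QuotientGroup.mk' M m) ∈ (P : Subgroup (X ⧸ M)) := hm
  have h4 := hP _ h3
  exact h4

/-- lifting from a subgroup of index prime to `q` -/
theorem lift_sub {Y : Subgroup X} (hY : ¬ q ∣ Y.index) (hYi : ∀ m ∈ Y, α m ∈ Y)
    (h : ∃ P : Sylow q Y, ∀ m ∈ (P : Subgroup Y), resA α Y hYi m ∈ (P : Subgroup Y)) :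
    ∃ P : Sylow q X, ∀ m ∈ (P : Subgroup X), α m ∈ (P : Subgroup X) := by
  obtain ⟨P, hP⟩ := h
  have h1 : IsPGroup q ↥((P : Subgroup Y).map Y.subtype) := P.isPGroup'.map _
  have h2 : ¬ q ∣ ((P : Subgroup Y).map Y.subtype).index := by
    rw [index_map_subtype]
    intro h3
    rcases (Nat.Prime.dvd_mul hq.out).1 h3 with h4 | h4
    · exact P.not_dvd_index h4
    · exact hY h4
  refine ⟨h1.toSylow h2, fun m hm => ?_⟩
  obtain ⟨y, hy, rfl⟩ : m ∈ (P : Subgroup Y).map Y.subtype := hm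
  exact ⟨_, hP y hy, rfl⟩

end

end Cfsg.Agent.H979.Ccp
end

-- part: H979/Ccp/Two
section
/-!
# Invariant Sylow subgroups in the configurations of S4114 (helper979)

Let `Cfg α` and `|C_G(α)|` odd.
* `Cfg.solvable_of_inv` : all proper `α`-invariant subgroups are solvable;
* `Cfg.exists_sylow` : if the `q`-part of `α` is a nontrivial inner automorphism and `NumOK q |G| |α|`, then `α` normalises
  a Sylow `q`-subgroup of `G`;
* `Cfg.false_of_sylow` : a contradiction, if there is a nonsolvable proper subgroup invariant under all automorphisms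
  normalising a Sylow `q`-subgroup; `Cfg.false_of_center` : the special case of the centralizer of the center;
* `Cfg.odd_fix` : `|C_G(α)|` is odd, if the radicals of the centralizers of involutions have no elements of order `p`.
-/

set_option autoImplicit false
set_option linter.unusedSectionVars false

namespace Cfsg.Agent.H979.Ccp

open Subgroup Cfsg Cfsg.Agent.H520
open scoped Pointwise

universe u

variable {G : Type u} [Group G] [Finite G] {α : MulAut G}

/-- `M/[M, α]` has odd order. -/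
theorem odd_quot (h : CCP α) (hodd : Odd (Nat.card (fixA α))) {M : Subgroup G} (hM : ∀ m ∈ M, α m ∈ M)
    (hn : (cG (resA α M hM)).Normal) : Odd (Nat.card (↥M ⧸ cG (resA α M hM))) := by
  let N : Subgroup ↥M := cG (resA α M hM)
  have hNmem : ∀ y : ↥M, y ∈ N ↔ (y : G) ∈ cM α M := by
    intro y
    rw [← map_cG_resA α M hM]
    constructor
    · intro hy
      exact ⟨y, hy, rfl⟩
    · rintro ⟨z, hz, e⟩
      have : z = y := Subtype.ext e
      rwa [← this]
  let C : Subgroup ↥M := (fixA α).subgroupOf M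
  have hsur : Function.Surjective ((QuotientGroup.mk' N).comp C.subtype) := by
    intro q
    obtain ⟨m, rfl⟩ := QuotientGroup.mk_surjective q
    obtain ⟨c, hcM, hc, hm⟩ := h.index_dvd hM m.1 m.2
    refine ⟨⟨⟨c, hcM⟩, hc⟩, ?_⟩
    show (QuotientGroup.mk (⟨c, hcM⟩ : ↥M) : ↥M ⧸ N) = QuotientGroup.mk m
    rw [QuotientGroup.eq, hNmem]
    exact hm
  have h1 : Nat.card (↥M ⧸ N) ∣ Nat.card (fixA α) := by
    refine (card_dvd_of_surjective _ hsur).trans ?_
    exact card_dvd_of_injective ((M.subtype.comp C.subtype).codRestrict (fixA α) fun y => y.2)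
      (fun a b hab => Subtype.ext (Subtype.ext (congrArg (fun z : ↥(fixA α) => (z : G)) hab)))
  exact hodd.of_dvd_nat h1

/-- **(NS)** The proper invariant subgroups are solvable. -/
theorem solvable_of_inv (h : Cfg α) (hodd : Odd (Nat.card (fixA α))) {M : Subgroup G} (hMt : M ≠ ⊤)
    (hM : ∀ m ∈ M, α m ∈ M) : Group.IsSolvable M := by
  have hn : (cG (resA α M hM)).Normal := cG_normal _
  have h1 := (solvable_cM_iff α M hM).1 (h.min M hMt hM)
  have h2 : Group.IsSolvable (↥M ⧸ cG (resA α M hM)) := S0205.result (odd_quot h.ccp hodd hM hn)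
  exact H459.Rad.isSolvable_of_quotient (cG (resA α M hM)) h1 h2

/-- `[M, z] ≤ [M, α]` for `z ∈ ⟨α⟩` -/
theorem mem_cM_of_zpowers {M : Subgroup G} (hM : ∀ m ∈ M, α m ∈ M) {z : MulAut G} (hz : z ∈ zpowers α) {g : G}
    (hg : g ∈ M) : g⁻¹ * z g ∈ cM α M := by
  obtain ⟨n, rfl⟩ := (mem_powers_iff_mem_zpowers (x := α) (y := z)).2 hz
  show g⁻¹ * (α ^ n) g ∈ cM α M
  have key : ∀ n : ℕ, (α ^ n) g ∈ M ∧ g⁻¹ * (α ^ n) g ∈ cM α M := by
    intro n
    induction n with
    | zero =>
      refine ⟨hg, ?_⟩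
      have e : g⁻¹ * (α ^ 0) g = 1 := inv_mul_cancel g
      rw [e]
      exact one_mem _
    | succ n ih =>
      have e1 : (α ^ (n + 1)) g = α ((α ^ n) g) := by rw [pow_succ', MulAut.mul_apply]
      rw [e1]
      refine ⟨hM _ ih.1, ?_⟩
      have e2 : g⁻¹ * α ((α ^ n) g) = (g⁻¹ * (α ^ n) g) * (((α ^ n) g)⁻¹ * α ((α ^ n) g)) := by group
      rw [e2]
      exact mul_mem ih.2 (mem_cM α ih.1)
  exact (key n).2

/-- An element `y ∈ M` with `conj y ∈ ⟨α⟩` lies in the solvable radical of `M`. -/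
theorem mem_rad (h : Cfg α) {M : Subgroup G} (hMt : M ≠ ⊤) (hM : ∀ m ∈ M, α m ∈ M) {y : G}
    (hy : MulAut.conj y ∈ zpowers α) (hyM : y ∈ M) : (⟨y, hyM⟩ : ↥M) ∈ solvableRadical ↥M := by
  have hn : (cG (resA α M hM)).Normal := cG_normal _
  have h1 := (solvable_cM_iff α M hM).1 (h.min M hMt hM)
  have h2 := H459.Rad.le_rad hn h1
  apply H459.Rad.mem_rad_of_commutator
  intro g
  apply h2
  have h3 := mem_cM_of_zpowers hM hy g.2
  rw [← map_cG_resA α M hM] at h3
  obtain ⟨w, hw, e⟩ := h3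
  have : w = g⁻¹ * (⟨y, hyM⟩ * g * (⟨y, hyM⟩)⁻¹) := Subtype.ext e
  rwa [← this]

/-- fixed elements have invariant centralizers -/
theorem centralizer_inv_of_fix {t : G} (ht : α t = t) : ∀ m ∈ centralizer ({t} : Set G), α m ∈ centralizer ({t} : Set G) := by
  intro m hm
  rw [mem_centralizer_singleton_iff] at hm ⊢
  have h1 := congrArg α hm
  rwa [map_mul, map_mul, ht] at h1

theorem centralizer_ne_top (h : Cfg α) {t : G} (ht : t ≠ 1) : centralizer ({t} : Set G) ≠ ⊤ := by
  intro h1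
  apply ht
  have h2 : t ∈ center G := by
    rw [mem_center_iff]
    intro g
    have h3 : g ∈ centralizer ({t} : Set G) := by rw [h1]; trivial
    exact mem_centralizer_singleton_iff.1 h3
  rwa [h.center_bot, mem_bot] at h2

/-- an element inducing an automorphism in `⟨α⟩` is fixed -/
theorem fix_of_mem (h : Cfg α) {y : G} (hy : MulAut.conj y ∈ zpowers α) : α y = y :=
  fix_of_comm h.center_bot (Cfg.comm_zpowers (mem_zpowers α) hy)

/-- **`|C_G(α)|` is odd.** -/
theorem odd_fix (h : Cfg α) {y : G} {p : ℕ} (hy : MulAut.conj y ∈ zpowers α) (hyp : orderOf y = p)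
    (hrad : ∀ t : G, orderOf t = 2 → H839.Rad.RadFree p ↥(centralizer ({t} : Set G))) : Odd (Nat.card (fixA α)) := by
  by_contra hodd
  rw [Nat.not_odd_iff_even, even_iff_two_dvd] at hodd
  have : Fact (Nat.Prime 2) := ⟨Nat.prime_two⟩
  obtain ⟨⟨t, htα⟩, ht⟩ := exists_prime_orderOf_dvd_card' 2 hodd
  have ht2 : orderOf t = 2 := by rw [← ht]; exact (Subgroup.orderOf_mk t htα).symm
  have ht1 : t ≠ 1 := by
    rintro rfl
    rw [orderOf_one] at ht2
    norm_num at ht2
  have hyt : y ∈ centralizer ({t} : Set G) := by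
    have h1 : α ∈ MulAction.stabilizer (MulAut G) t := htα
    have h2 : zpowers α ≤ MulAction.stabilizer (MulAut G) t := by rwa [zpowers_le]
    have h3 : y * t * y⁻¹ = t := h2 hy
    exact mem_centralizer_singleton_iff.2 (mul_inv_eq_iff_eq_mul.1 h3)
  refine hrad t ht2 ⟨y, hyt⟩ ?_ (mem_rad h (centralizer_ne_top h ht1) (centralizer_inv_of_fix htα) hy hyt)
  rw [Subgroup.orderOf_mk, hyp]

/-- a group with `Cfg` is not a `q`-group -/
theorem not_pgroup (h : Cfg α) {q : ℕ} [hq : Fact q.Prime] : ¬ IsPGroup q G := by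
  intro h1
  have h2 : Nontrivial G := h.sim.toNontrivial
  have h3 := h1.center_nontrivial
  rw [h.center_bot] at h3
  exact (not_subsingleton (⊥ : Subgroup G)) inferInstance

/-- the normalizer of an invariant subgroup is invariant -/
theorem normalizer_inv {U : Subgroup G} (hU : ∀ m ∈ U, α m ∈ U) :
    ∀ m ∈ normalizer (U : Set G), α m ∈ normalizer (U : Set G) := by
  intro m hm
  rw [mem_normalizer_iff] at hm ⊢
  intro g
  have h1 : α⁻¹ g ∈ U ↔ g ∈ U := by
    constructor
    · intro h2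
      have h3 := hU _ h2
      rwa [MulAut.apply_inv_self] at h3
    · exact fun h2 => symm_mem_of_inv hU h2
  rw [← h1, hm]
  constructor
  · intro h2
    have h3 := hU _ h2
    rwa [map_mul, map_mul, map_inv, MulAut.apply_inv_self] at h3
  · intro h2
    have h3 := symm_mem_of_inv hU h2
    rwa [map_mul, map_mul, map_inv α⁻¹, MulAut.inv_apply_self] at h3

end Cfsg.Agent.H979.Ccp
end
end
end
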