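import Cfsg.Agent.H497.Stein.Heis
import Cfsg.Agent.LThreeCo1.Ranks
import Cfsg.Agent.CoFive.Ranks
import Cfsg.Agent.CpAutMSeven.Quo_m3
import Cfsg.Agent.BpSevenCo.Conj
import Cfsg.Agent.BpSpor.Row.Co1
import Cfsg.Agent.H763.Ccp.Alt_m3
import Cfsg.Agent.PreUniqB.ModelFive
import Cfsg.Agent.SigZeroHN.Main
import Cfsg.Agent.MonsterX.ThOneClass
import Cfsg.Agent.CTwoTab.He
import Cfsg.Agent.CTwoTab.Suz
import Cfsg.Agent.SuzThree.CentCard
import Cfsg.Agent.KFacts.J2.Facts
import Cfsg.Agent.H237.EvenFi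
import Cfsg.Agent.KFacts.FiTF.FrameF
import Cfsg.Agent.H109.NrB
import Cfsg.Agent.H180.TriH.Cover
import Cfsg.Agent.CpAut.TwoInnerB
import Cfsg.Agent.BpSpor.Row.B
import Cfsg.Agent.MFive.JTwo
import Cfsg.Agent.MFiveHN.Closed
import Cfsg.Agent.LThreeMB.CoOneFin
import Mathlib
import Cfsg.Agent.Lib.KleinOrder
import Cfsg.Agent.H31.TwoCyc.MThirteen
import Cfsg.Agent.H961.Rad2M
import Cfsg.Agent.H497.Stein.Eng
import Cfsg.Agent.FastGrp
import Cfsg.Agent.Prune
set_option linter.all false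

section
prune_inst 0x7ffceefbaff88ddfffff7e7ffedcdffffcfcffffacdff9fbffe8ebffffff6b02c9e5f38d6fe8d8fe5eb6c23410e87b43fbffeeffe26bdd7ffffd5ff45ffbff9fffffbd0951d688340fb46ffff3f077ae7f3fffffffffffffffffffffffffffbeffbfffffffff

-- part: H859/Ccp/Co1
section
set_option linter.all false
open scoped Cfsg.Agent.FastGrp

/-!
# S4114: the row `Co1` (helper859)

`moved_three`, `moved_five`, `moved_seven` : the elements of order 3, 5, 7 of `Co1` are conjugate to another power.
-/

set_option autoImplicit false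

namespace Cfsg.Agent.H859.Ccp.Co1

open Subgroup Cfsg Cfsg.Agent.H520 Cfsg.Agent.H497.Stein
open Cfsg.Agent.LThreeMB (fr fr_conj)
open Cfsg.Agent.MonsterU.Lam2 (L2)
open Cfsg.Spor (Co1)

universe u

theorem fr_inv (s : Co1) : fr s⁻¹ = fr s := by
  unfold fr
  refine Nat.card_congr (Equiv.subtypeEquivRight fun v => ?_)
  rw [inv_smul_eq_iff, eq_comm]

theorem moved_three : Moved 3 Co1 := by
  have hfin : Finite Co1 := BpSevenCo.Conj.finite_co1
  refine moved_of_real Nat.prime_three (by norm_num) fun s hs => ?_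
  have hs' : orderOf s⁻¹ = 3 := by rw [orderOf_inv, hs]
  rcases LThreeCo1.Ranks.ranks s hs with h | h | h | h
  · exact isConj_iff.2 (LThreeCo1.Ranks.zero s s⁻¹ hs hs' h (by rw [fr_inv, h]))
  · exact isConj_iff.2 (LThreeCo1.Ranks.six s s⁻¹ hs hs' h (by rw [fr_inv, h]))
  · exact isConj_iff.2 (LThreeCo1.Ranks.eight s s⁻¹ hs hs' h (by rw [fr_inv, h]))
  · exact isConj_iff.2 (LThreeCo1.Ranks.twelve s s⁻¹ hs hs' h (by rw [fr_inv, h]))

theorem moved_five : Moved 5 Co1 := by
  have hfin : Finite Co1 := BpSevenCo.Conj.finite_co1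
  refine moved_of_real Nat.prime_five (by norm_num) fun s hs => ?_
  have hs' : orderOf s⁻¹ = 5 := by rw [orderOf_inv, hs]
  exact CoFive.Ranks.isConj_of_fr hs hs' (fr_inv s).symm

theorem moved_seven : Moved 7 Co1 := by
  have hfin : Finite Co1 := BpSevenCo.Conj.finite_co1
  have h7 : Nat.Prime 7 := by norm_num
  have : Fact (Nat.Prime 7) := ⟨h7⟩
  intro s hs
  rcases CpAutMSeven.Ranks.hranks s hs with h | h
  · obtain ⟨g, i, hi, hg⟩ := BpSevenCo.Conj.conj_pow hs h
    refine MovedAt.of_conj (k := g) ?_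
    rw [hg]
    have h1 : MovedAt BpSevenCo.Conj.x := by
      refine ⟨BpSevenCo.Conj.t, 2, BpSevenCo.Conj.txt1, fun h2 => ?_⟩
      have h3 := BpSevenCo.Conj.orderOf_x
      have h4 : BpSevenCo.Conj.x = 1 := by
        rw [pow_two] at h2
        exact mul_eq_left.1 h2
      rw [h4, orderOf_one] at h3
      norm_num at h3
    exact h1.pow BpSevenCo.Conj.x_pow (fun hd => hi (Nat.mod_eq_zero_of_dvd hd))
  · refine movedAt_of_real ?_ (sq_ne_one h7 (by norm_num) hs)
    have hs' : orderOf s⁻¹ = 7 := by rw [orderOf_inv, hs]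
    exact (CpAutMSeven.Ranks.isConj_of_fr hs (by rw [h]; norm_num)).trans
      (CpAutMSeven.Ranks.isConj_of_fr hs' (by rw [fr_inv, h]; norm_num)).symm

/-- **S4114, the row `Co1`.** -/
theorem row_Co1 {G : Type u} [Group G] [Finite G] (h : Cfsg.Spor.IsoCo1 G) : Cfsg.Agent.H520.Row G := by
  have D := BpSpor.Row.dat_co1 h
  obtain ⟨e⟩ := h
  refine row_of_dat D (l := [(2, 21), (3, 9), (5, 4), (7, 2), (11, 1), (13, 1), (23, 1)]) (by decide +kernel)
    (by norm_num) fun x hx hx2 hx3 => ?_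
  simp only [List.mem_cons, List.not_mem_nil, or_false] at hx
  rcases hx with rfl | rfl | rfl | rfl | rfl | rfl | rfl
  · exact absurd rfl hx3
  · exact moved_three.congr e
  · exact moved_five.congr e
  · exact moved_seven.congr e
  all_goals exact absurd hx2 (by norm_num)

end Cfsg.Agent.H859.Ccp.Co1
end

-- part: H763/Ccp/B
section
prune_inst 0x211004000322000000000012100000300000043000400001510000000007d2610086280070200a1413008821200b004001000019420000000a00020040040000002262c21340a104a1000080f880180c00000000000000000000000000041004000000000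
set_option linter.all false
open scoped Cfsg.Agent.FastGrp

-- part: H763/Ccp/MV
section
/-!
# Moved elements commuting with an involution (helper763)

* `MV x t` : some `g` commuting with `t` conjugates `x` to a different power of `x`;
* `InvC X` : involutions of `X` with centralizers of the same order are conjugate;
* `mv_of_invC` : `MV x t` from `MovedAt x` and `InvC (C(x) / ⟨x⟩)`.
-/

set_option autoImplicit false

namespace Cfsg.Agent.H763.Ccp.MV

open Subgroup Cfsg Cfsg.Agent.H497.Stein Cfsg.Agent.PreUniqB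
open Cfsg.Agent.LThreeMB (Zx XX Zx_le_center)

universe u v

/-- some `g` commuting with `t` conjugates `x` to a different power -/
def MV {G : Type u} [Group G] (x t : G) : Prop := ∃ (g : G) (j : ℕ), g * x * g⁻¹ = x ^ j ∧ x ^ j ≠ x ∧ g * t = t * g

/-- involutions with centralizers of the same order are conjugate -/
def InvC (X : Type*) [Group X] : Prop := ∀ a b : X, orderOf a = 2 → orderOf b = 2 →
  Nat.card ↥(centralizer ({a} : Set X)) = Nat.card ↥(centralizer ({b} : Set X)) → IsConj a b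

section

variable {G : Type u} [Group G]

theorem MV.conj {g x t x' t' : G} (hx : g * x * g⁻¹ = x') (ht : g * t * g⁻¹ = t') (h : MV x t) : MV x' t' := by
  subst hx
  subst ht
  obtain ⟨k, j, h1, h2, h3⟩ := h
  refine ⟨g * k * g⁻¹, j, ?_, ?_, ?_⟩
  · calc g * k * g⁻¹ * (g * x * g⁻¹) * (g * k * g⁻¹)⁻¹ = g * (k * x * k⁻¹) * g⁻¹ := by group
      _ = (g * x * g⁻¹) ^ j := by rw [h1, conj_pow]
  · intro h4
    apply h2
    rw [conj_pow] at h4
    exact mul_left_cancel (mul_right_cancel h4)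
  · exact conj_comm' h3

end

/-- an isomorphism and centralizers -/
def centIso {X : Type u} {Y : Type v} [Group X] [Group Y] (e : X ≃* Y) (a : X) :
    ↥(centralizer ({a} : Set X)) ≃ ↥(centralizer ({e a} : Set Y)) where
  toFun c := ⟨e c, mem_centralizer_singleton_iff.2 (by
    rw [← map_mul, ← map_mul, mem_centralizer_singleton_iff.1 c.2])⟩
  invFun c := ⟨e.symm c, mem_centralizer_singleton_iff.2 (by
    apply e.injective
    rw [map_mul, map_mul, e.apply_symm_apply, mem_centralizer_singleton_iff.1 c.2])⟩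
  left_inv c := Subtype.ext (e.symm_apply_apply c)
  right_inv c := Subtype.ext (e.apply_symm_apply c)

theorem InvC.congr {X : Type u} {Y : Type v} [Group X] [Group Y] (e : X ≃* Y) (h : InvC Y) : InvC X := by
  intro a b ha hb hab
  have h1 := h (e a) (e b) (by rw [MulEquiv.orderOf_eq, ha]) (by rw [MulEquiv.orderOf_eq, hb])
    (by rw [← Nat.card_congr (centIso e a), ← Nat.card_congr (centIso e b), hab])
  obtain ⟨c, hc⟩ := isConj_iff.1 h1
  refine isConj_iff.2 ⟨e.symm c, e.injective ?_⟩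
  rw [map_mul, map_mul, map_inv, e.apply_symm_apply, hc]

theorem InvC.of_one {X : Type u} [Group X] (h : ∀ a b : X, orderOf a = 2 → orderOf b = 2 → IsConj a b) : InvC X :=
  fun a b ha hb _ => h a b ha hb

/-- a map between centralizers: conjugate elements have centralizers of the same order -/
theorem card_cent_of_isConj {X : Type u} [Group X] {a b : X} (h : IsConj a b) :
    Nat.card ↥(centralizer ({a} : Set X)) = Nat.card ↥(centralizer ({b} : Set X)) := by
  obtain ⟨c, rfl⟩ := isConj_iff.1 h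
  exact Nat.card_congr (centIso (MulAut.conj c) a)

/-- two classes of involutions, with centralizers of different orders -/
theorem InvC.of_two {X : Type u} [Group X] {a b : X} (h : ∀ t : X, orderOf t = 2 → IsConj t a ∨ IsConj t b)
    (hne : Nat.card ↥(centralizer ({a} : Set X)) ≠ Nat.card ↥(centralizer ({b} : Set X))) : InvC X := by
  intro s t hs ht hst
  rcases h s hs with h1 | h1 <;> rcases h t ht with h2 | h2
  · exact h1.trans h2.symm
  · exfalso
    apply hne
    rw [← card_cent_of_isConj h1, hst, card_cent_of_isConj h2]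
  · exfalso
    apply hne
    rw [← card_cent_of_isConj h2, ← hst, card_cent_of_isConj h1]
  · exact h1.trans h2.symm

/-- centralizers in the quotient by a central subgroup of odd order -/
theorem card_cent_mk {D : Type u} [Group D] [Finite D] {N : Subgroup D} [N.Normal] (hN : N ≤ Subgroup.center D)
    (ho : Odd (Nat.card ↥N)) {a : D} (ha : orderOf a = 2) :
    Nat.card ↥(centralizer ({(QuotientGroup.mk' N a)} : Set (D ⧸ N))) * Nat.card ↥N =
      Nat.card ↥(centralizer ({a} : Set D)) := by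
  have hco : (Nat.card ↥N).Coprime 2 := Nat.coprime_two_right.2 ho
  rw [LThree.Red.centralizer_mk Nat.prime_two N hco ha]
  set C := centralizer ({a} : Set D) with hC
  have hNC : N ≤ C := hN.trans (Subgroup.center_le_centralizer _)
  let f : ↥C →* D ⧸ N := (QuotientGroup.mk' N).comp C.subtype
  have h1 : f.range = C.map (QuotientGroup.mk' N) := by
    rw [MonoidHom.range_comp, C.range_subtype]
  have h2 : f.ker = N.subgroupOf C := by
    ext c
    rw [MonoidHom.mem_ker, Subgroup.mem_subgroupOf]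
    exact QuotientGroup.eq_one_iff _
  have h3 : Nat.card ↥f.range * Nat.card ↥f.ker = Nat.card ↥C := by
    rw [← Subgroup.index_ker f, Subgroup.index_mul_card]
  rw [h1, h2, Nat.card_congr (Subgroup.subgroupOfEquivOfLe hNC).toEquiv] at h3
  exact h3

/-- **Lifting `InvC` from the quotient by a central subgroup of odd order.** -/
theorem InvC.of_quot {D : Type u} [Group D] [Finite D] {N : Subgroup D} [N.Normal] (hN : N ≤ Subgroup.center D)
    (ho : Odd (Nat.card ↥N)) (h : InvC (D ⧸ N)) : InvC D := by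
  intro a b ha hb hab
  have hco : (Nat.card ↥N).Coprime 2 := Nat.coprime_two_right.2 ho
  have h1 := h (QuotientGroup.mk' N a) (QuotientGroup.mk' N b) (LThree.Red.orderOf_mk Nat.prime_two N hco ha)
    (LThree.Red.orderOf_mk Nat.prime_two N hco hb) (by
      have h2 := card_cent_mk hN ho ha
      rw [hab, ← card_cent_mk hN ho hb] at h2
      exact Nat.eq_of_mul_eq_mul_right Nat.card_pos h2)
  obtain ⟨c, hc⟩ := isConj_iff.1 h1
  obtain ⟨c, rfl⟩ := QuotientGroup.mk'_surjective N c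
  rw [← map_mul, ← map_inv, ← map_mul] at hc
  have h3 : (c * a * c⁻¹)⁻¹ * b ∈ N := QuotientGroup.eq.1 hc
  set n := (c * a * c⁻¹)⁻¹ * b with hn
  have haa : a * a = 1 := by rw [← pow_two, ← ha, pow_orderOf_eq_one]
  have hbb : b * b = 1 := by rw [← pow_two, ← hb, pow_orderOf_eq_one]
  have hbn : b = c * a * c⁻¹ * n := by rw [hn]; group
  have hcn : (c * a * c⁻¹) * n = n * (c * a * c⁻¹) := Subgroup.mem_center_iff.1 (hN h3) _
  have h4 : n * n = 1 := by
    have h5 : (c * a * c⁻¹ * n) * (c * a * c⁻¹ * n) = 1 := by rw [← hbn, hbb]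
    calc n * n = (c * a * c⁻¹) * (c * a * c⁻¹) * (n * n) := by
          have h6 : (c * a * c⁻¹) * (c * a * c⁻¹) = 1 := by
            calc (c * a * c⁻¹) * (c * a * c⁻¹) = c * (a * a) * c⁻¹ := by group
              _ = 1 := by rw [haa]; group
          rw [h6, one_mul]
      _ = (c * a * c⁻¹) * ((c * a * c⁻¹) * n) * n := by group
      _ = (c * a * c⁻¹) * (n * (c * a * c⁻¹)) * n := by rw [hcn]
      _ = (c * a * c⁻¹ * n) * (c * a * c⁻¹ * n) := by group
      _ = 1 := h5
  have h5 : n = 1 := by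
    have h6 : (⟨n, h3⟩ : ↥N) ^ Nat.card ↥N = 1 := pow_card_eq_one'
    have h7 : n ^ Nat.card ↥N = 1 := congrArg Subtype.val h6
    obtain ⟨m, hm⟩ := ho
    rwa [hm, pow_succ, pow_mul, pow_two, h4, one_pow, one_mul] at h7
  refine isConj_iff.2 ⟨c, ?_⟩
  rw [hbn, h5, mul_one]

/-- `C_{C(x)}(t) = C(x) ∩ C(t)` -/
def cXT {G : Type u} [Group G] {x t : G} (ht : t * x = x * t) :
    ↥(centralizer ({(⟨t, mem_centralizer_singleton_iff.2 ht⟩ : ↥(centralizer ({x} : Set G)))} :
      Set ↥(centralizer ({x} : Set G)))) ≃ ↥(XTT x t) where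
  toFun c := ⟨((c : ↥(centralizer ({x} : Set G))) : G), mem_XTT.2 ⟨mem_centralizer_singleton_iff.1 c.1.2,
    congrArg Subtype.val (mem_centralizer_singleton_iff.1 c.2)⟩⟩
  invFun c := ⟨⟨c, mem_centralizer_singleton_iff.2 (mem_XTT.1 c.2).1⟩, mem_centralizer_singleton_iff.2
    (Subtype.ext (mem_XTT.1 c.2).2)⟩
  left_inv _ := rfl
  right_inv _ := rfl

/-- **`MV x t` from `MovedAt x` and `InvC (C(x) / ⟨x⟩)`.** -/
theorem mv_of_invC {G : Type u} [Group G] [Finite G] {p : ℕ} (hp : p.Prime) (hp2 : p ≠ 2) {x t : G}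
    (hx : orderOf x = p) (ht : orderOf t = 2) (htx : t * x = x * t) (hm : MovedAt x) (hI : InvC (XX x)) : MV x t := by
  obtain ⟨g, j, hg, hj⟩ := hm
  have hoj : orderOf (x ^ j) = p := by
    rw [← hg, ← hx]
    exact MulEquiv.orderOf_eq (MulAut.conj g) x
  have hZ : Odd (Nat.card ↥(Zx x)) := by
    have h1 : Nat.card ↥(Zx x) = p := by
      rw [Zx, Nat.card_zpowers, ← Subgroup.orderOf_coe]
      exact hx
    rw [h1]
    exact hp.odd_of_ne_two hp2
  have hD : InvC ↥(centralizer ({x} : Set G)) := InvC.of_quot (Zx_le_center x) hZ hI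
  have ht' : orderOf (g * t * g⁻¹) = 2 := by
    rw [← ht]
    exact MulEquiv.orderOf_eq (MulAut.conj g) t
  have htj : (g * t * g⁻¹) * (x ^ j) = x ^ j * (g * t * g⁻¹) := by
    rw [← hg]
    exact conj_comm' htx
  have ht'x : (g * t * g⁻¹) * x = x * (g * t * g⁻¹) := by
    have h1 : g * t * g⁻¹ ∈ centralizer ({x ^ j} : Set G) := mem_centralizer_singleton_iff.2 htj
    rw [MFive.centralizer_pow hp hx hoj] at h1
    exact mem_centralizer_singleton_iff.1 h1
  have hXe : XTT (g * x * g⁻¹) (g * t * g⁻¹) = XTT x (g * t * g⁻¹) := by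
    unfold XTT
    rw [hg, MFive.centralizer_pow hp hx hoj]
  have hcard : Nat.card ↥(XTT x t) = Nat.card ↥(XTT x (g * t * g⁻¹)) := by
    rw [← hXe]
    exact Nat.card_congr (conjXTT g x t).toEquiv
  obtain ⟨c, hc⟩ := isConj_iff.1 (hD ⟨g * t * g⁻¹, mem_centralizer_singleton_iff.2 ht'x⟩
    ⟨t, mem_centralizer_singleton_iff.2 htx⟩ (by rw [← Subgroup.orderOf_coe]; exact ht')
    (by rw [← Subgroup.orderOf_coe]; exact ht)
    (by rw [Nat.card_congr (cXT ht'x), Nat.card_congr (cXT htx), hcard]))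
  have hc1 : (c : G) * (g * t * g⁻¹) * (c : G)⁻¹ = t := congrArg Subtype.val hc
  have hcx : (c : G) * x = x * c := mem_centralizer_singleton_iff.1 c.2
  refine ⟨c * g, j, ?_, hj, ?_⟩
  · calc (c : G) * g * x * (c * g)⁻¹ = c * (g * x * g⁻¹) * (c : G)⁻¹ := by group
      _ = c * x ^ j * (c : G)⁻¹ := by rw [hg]
      _ = x ^ j := by
        rw [((show Commute (c : G) x from hcx).pow_right j).eq, mul_inv_cancel_right]
  · calc (c : G) * g * t = (c * (g * t * g⁻¹) * (c : G)⁻¹) * (c * g) := by group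
      _ = t * (c * g) := by rw [hc1]

end Cfsg.Agent.H763.Ccp.MV
end

-- part: H763/Ccp/InvFacts
section
/-!
# `InvC X` for `X = HN, Th, He, Suz, J2` (helper763)

Two classes of involutions, with centralizers of different orders (one class for `Th`).
-/

set_option autoImplicit false

namespace Cfsg.Agent.H763.Ccp.InvFacts

open Subgroup Cfsg Cfsg.Agent.H763.Ccp.MV

universe u

theorem invC_hn : InvC Spor.HN := by
  intro a b ha hb hab
  rcases SigZeroHN.card_centralizer_cases ha with ⟨h1, h2⟩ | ⟨h1, h2⟩ <;>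
    rcases SigZeroHN.card_centralizer_cases hb with ⟨h3, h4⟩ | ⟨h3, h4⟩
  · exact h1.trans h3.symm
  · rw [h2, h4] at hab; norm_num at hab
  · rw [h2, h4] at hab; norm_num at hab
  · exact h1.trans h3.symm

theorem invC_th : InvC Spor.Th := InvC.of_one MonsterX.ThOneClass.oneClass

theorem sq_of_two {X : Type u} [Group X] {t : X} (ht : orderOf t = 2) : t * t = 1 ∧ t ≠ 1 := by
  refine ⟨by rw [← pow_two, ← ht, pow_orderOf_eq_one], fun h => ?_⟩
  rw [h, orderOf_one] at ht
  exact absurd ht (by norm_num)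

theorem invC_suz : InvC Spor.Suz := by
  refine InvC.of_two (a := SuzThree.CentA.z0) (b := KFacts.SuzLFour.e0) (fun t ht => ?_) ?_
  · rcases CTwoTab.Suz.classes (sq_of_two ht).1 (sq_of_two ht).2 with h | h
    · exact Or.inl h.symm
    · exact Or.inr h.symm
  · rw [show Nat.card ↥(centralizer ({SuzThree.CentA.z0} : Set Spor.Suz)) = 3317760 from SuzThree.CentCard.card_C1,
      show Nat.card ↥(centralizer ({KFacts.SuzLFour.e0} : Set Spor.Suz)) = 161280 from KFacts.SuzTwoB.card_CE]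
    norm_num

theorem invC_j2 {X : Type u} [Group X] [Finite X] (h : Spor.IsoJ2 X) : InvC X := by
  obtain ⟨t, u, Q, v, ρ, D⟩ := KFacts.J2.Facts.exists_dat_of h
  refine InvC.of_two (a := t) (b := u) (fun s hs => ?_) ?_
  · rcases D.F.cover s hs with h | h
    · exact Or.inl h.symm
    · exact Or.inr h.symm
  · rw [D.cardC, D.card_cent_u]
    norm_num

theorem invC_he : InvC Spor.He := by
  have hfin := Cfsg.Agent.KFacts.He.Hyp.finHe
  refine InvC.of_two (a := CTwoTab.He.z) (b := KFacts.He.Lv.gn .a) (fun t ht => ?_) ?_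
  · rcases CTwoTab.He.classes (sq_of_two ht).1 (sq_of_two ht).2 with h | h
    · exact Or.inl h.symm
    · exact Or.inr h.symm
  · intro h
    rw [show Nat.card ↥(centralizer ({CTwoTab.He.z} : Set Spor.He)) = 21504 from
      KFacts.He.Classes.card_centralizer] at h
    have h1 := Subgroup.card_dvd_of_le CTwoTab.He.L_le_cent
    rw [← h] at h1
    rw [CTwoTab.He.card_L] at h1
    exact absurd h1 (by norm_num)

end Cfsg.Agent.H763.Ccp.InvFacts
end

-- part: H763/Ccp/InvFi
section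
/-!
# `InvC Fi24'` (helper763)
-/

set_option autoImplicit false
set_option maxRecDepth 100000

namespace Cfsg.Agent.H763.Ccp.InvFi

open Subgroup Cfsg Cfsg.Agent.H763.Ccp.MV
open Cfsg.Spor Cfsg.Agent.R01 Cfsg.Agent.R08 Cfsg.Agent.R08.FiTwentyFour
open Cfsg.Agent.CTwoTab.FiTF

theorem card_cent_z0 : Nat.card ↥(centralizer ({z0} : Set Spor.Fi24')) ∣ 321052999680 := by
  have := finite_Fi24
  rw [← Cfsg.Agent.KFacts.FiTF.Order.card]
  let f : ↥(centralizer ({z0} : Set Spor.Fi24')) →* ↥(centralizer ({KFacts.FiTF.Defs.z} : Set Spor.Fi24)) :=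
    ((commutator Fi24).subtype.comp (centralizer ({z0} : Set Spor.Fi24')).subtype).codRestrict _ (by
      intro x
      rw [mem_centralizer_singleton_iff]
      exact congrArg Subtype.val (mem_centralizer_singleton_iff.1 x.2))
  refine Subgroup.card_dvd_of_injective f ?_
  intro x y h
  have h1 := (Subtype.mk.injEq _ _ _ _).mp h
  exact Subtype.ext (Subtype.ext h1)

theorem invC_fi : InvC Spor.Fi24' := by
  have := finite_Fi24
  have hfin : Finite Spor.Fi24' := inferInstance
  have hpair : ∀ t : Spor.Fi24', (∃ a b : Fi24, ∃ _ : Cfsg.Agent.R08.TetFi24A.At a b, (t : Fi24) = a * b) →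
      13 ∣ Nat.card ↥(centralizer ({t} : Set Spor.Fi24')) := by
    rintro t ⟨a, b, P, h1⟩
    have h2 : Nat.card ↥(N a b) ∣ Nat.card ↥(centralizer ({t} : Set Spor.Fi24')) :=
      Subgroup.card_dvd_of_le (N_le h1)
    refine Dvd.dvd.trans ?_ h2
    rw [Nat.card_congr (eN a b).toEquiv, OddHalf.D4.Spor.FiTF.card_Cab P]
    norm_num
  have hz : ∀ t : Spor.Fi24', (∃ g : Spor.Fi24', t = g * z0 * g⁻¹) →
      ¬ 13 ∣ Nat.card ↥(centralizer ({t} : Set Spor.Fi24')) := by
    rintro t ⟨g, hg⟩ h1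
    rw [← card_cent_of_isConj (isConj_iff.2 ⟨g, hg.symm⟩)] at h1
    have h2 := h1.trans card_cent_z0
    revert h2
    norm_num
  intro s t hs ht hst
  rcases classes s hs with h | h <;> rcases classes t ht with h' | h'
  · obtain ⟨a, b, P, h1⟩ := h
    obtain ⟨a', b', P', h1'⟩ := h'
    obtain ⟨g, hg, h2, h3⟩ := FiTwentyFour.trans2 P.ha P.hb P'.ha P'.hb P.ne P.ab P'.ne P'.ab
    refine isConj_iff.2 ⟨⟨g, hg⟩, Subtype.ext ?_⟩
    show g * (s : Fi24) * g⁻¹ = t
    rw [h1, h1', ← h2, ← h3]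
    group
  · exact absurd (hst ▸ hpair s h) (hz t h')
  · exact absurd (hst.symm ▸ hpair t h') (hz s h)
  · obtain ⟨g, hg⟩ := h
    obtain ⟨g', hg'⟩ := h'
    exact (isConj_iff.2 ⟨g, hg.symm⟩).symm.trans (isConj_iff.2 ⟨g', hg'.symm⟩)

end Cfsg.Agent.H763.Ccp.InvFi
end

-- part: H763/Ccp/BChart
section
/-!
# `MV x t` from a chart (helper763)

`G` the Monster, `t` of class `2A`, `x` of odd prime order commuting with `t`; the analysis is the one of `PreUniqB`
(helpers 19, 20).
-/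

set_option autoImplicit false

namespace Cfsg.Agent.H763.Ccp.BChart

open Cfsg Cfsg.Agent.PreUniqB Cfsg.Agent.MonsterU Cfsg.Agent.PreUniq Cfsg.Agent.H497.Stein Cfsg.Agent.H763.Ccp.MV
open Cfsg.Agent.LThreeMB (fr fr_conj Zx XX zD tt exists_XX_equiv CoOne KChart.Cent KChart.pi mk mk_mul mk_congr mk_eq_mk
  mk_eq_one exists_mk conj_comm)
open Cfsg.Agent.MFive (orderOf_pi TrNe HasPair isolated conj_pair WClassOf orderOf_conj'' exists_conj_of_pi_eq
  exists_conj_of_conj)
open Cfsg.Agent.MonsterU.Ch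
open Cfsg.Agent.MonsterU.Lam2 (L2)
open Cfsg.Spor (Co1)
open Subgroup (centralizer zpowers mem_centralizer_singleton_iff mem_zpowers_iff)

universe u v

variable {p : ℕ} {G : Type u} [Group G] {Q : Subgroup G} {z : G} {eta : G → L2}
  {pi : Subgroup.centralizer ({z} : Set G) →* Co1} {T : G → Prop}

/-- elements of `C(z)` whose images are moved -/
theorem movedAt_of_pi (h : Chart Q z eta pi) (hp : p.Prime) (ho : Odd p) {x : Subgroup.centralizer ({z} : Set G)}
    (hx : orderOf x = p) (hm : MovedAt (pi x)) : MovedAt (x : G) := by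
  obtain ⟨s, j, hs, hj⟩ := hm
  have hxp : x ^ p = 1 := by rw [← hx, pow_orderOf_eq_one]
  obtain ⟨c, hc⟩ := exists_conj_of_conj h hp ho (x := x) (y := x ^ j) hxp
    (by rw [← pow_mul, mul_comm, pow_mul, hxp, one_pow]) (s := s) (by rw [hs, map_pow])
  refine ⟨c, j, ?_, ?_⟩
  · have h1 := congrArg Subtype.val hc
    exact h1
  · intro h1
    apply hj
    rw [← map_pow]
    congr 1
    exact Subtype.ext h1

/-- **Fixed rank 0, `t` commuting with `z`.** -/
theorem mv_zero [Finite G] (h : Chart Q z eta pi) (hp : p.Prime) (ho : Odd p) (hT : TCl Q z T)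
    {x : Subgroup.centralizer ({z} : Set G)} (hx : orderOf x = p) (hfr : fr (pi x) = 1) (hm : MovedAt (pi x))
    (hI : InvC (XX (pi x))) {t : G} (htT : T t) (htz : t * z = z * t) (htx : t * (x : G) = x * t) : MV (x : G) t := by
  have hfin : Finite Co1 := Finite.of_surjective _ h.pi_surj
  have hp2 : p ≠ 2 := by
    rintro rfl
    exact absurd ho (by decide)
  have hxp : x ^ p = 1 := by rw [← hx, pow_orderOf_eq_one]
  have hxo : orderOf (x : G) = p := by rw [Subgroup.orderOf_coe, hx]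
  have htt := hT.sq htT
  have hnQ : t ∉ Q := by
    intro hq
    rcases MonGen.free_of_fr h ho hxp hfr hq htx.symm with h1 | h1
    · exact hT.ne_one htT h1
    · exact hT.ne _ htT h1
  let tC : Subgroup.centralizer ({z} : Set G) := ⟨t, mem_centralizer_singleton_iff.2 htz⟩
  have htC1 : pi tC ≠ 1 := fun h1 => hnQ ((h.pi_eq_one tC).1 h1)
  have htCC : tC * tC = 1 := Subtype.ext htt
  have h2 : Fact (Nat.Prime 2) := ⟨Nat.prime_two⟩
  have hwo : orderOf (pi tC) = 2 := orderOf_eq_prime (by rw [pow_two, ← map_mul, htCC, map_one]) htC1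
  have htCx : tC * x = x * tC := Subtype.ext htx
  obtain ⟨r, j, hr1, hr2, hr3⟩ := mv_of_invC hp hp2 (orderOf_pi h hp ho hx) hwo
    (by rw [← map_mul, htCx, map_mul]) hm hI
  obtain ⟨c₀, hc₀⟩ := h.pi_surj r
  have hxjp : (x ^ j) ^ p = 1 := by rw [← pow_mul, mul_comm, pow_mul, hxp, one_pow]
  obtain ⟨q, hq, hqx⟩ := exists_conj_of_pi_eq h hp ho (x := c₀ * x * c₀⁻¹) (y := x ^ j)
    (by rw [conj_pow, hxp, mul_one, mul_inv_cancel]) hxjp (by rw [map_mul, map_mul, map_inv, hc₀, map_pow, hr1])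
  have hqz : q ∈ Subgroup.centralizer ({z} : Set G) := mem_centralizer_singleton_iff.2 (h.large.comm_z q hq)
  let c : Subgroup.centralizer ({z} : Set G) := ⟨q, hqz⟩ * c₀
  have hpic : pi c = r := by
    show pi (⟨q, hqz⟩ * c₀) = r
    rw [map_mul, (h.pi_eq_one ⟨q, hqz⟩).2 hq, one_mul, hc₀]
  have hcx : (c : G) * x * (c : G)⁻¹ = (x : G) ^ j := by
    calc (c : G) * x * (c : G)⁻¹ = q * (((c₀ * x * c₀⁻¹ : Subgroup.centralizer ({z} : Set G)) : G)) * q⁻¹ := by
          show (q * (c₀ : G)) * x * (q * (c₀ : G))⁻¹ = q * ((c₀ : G) * x * (c₀ : G)⁻¹) * q⁻¹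
          group
      _ = (x : G) ^ j := hqx
  have hxj : (x : G) ^ j ≠ x := by
    intro h1
    apply hr2
    rw [← map_pow]
    congr 1
    exact Subtype.ext h1
  have hoj : orderOf ((x : G) ^ j) = p := by
    rw [← hcx, ← hxo]
    exact MulEquiv.orderOf_eq (MulAut.conj (c : G)) (x : G)
  -- `d = c t c⁻¹ t⁻¹`
  have hctx : ((c : G) * t * (c : G)⁻¹) * x = x * ((c : G) * t * (c : G)⁻¹) := by
    have h1 : (c : G) * t * (c : G)⁻¹ ∈ centralizer ({(x : G) ^ j} : Set G) := by
      rw [mem_centralizer_singleton_iff, ← hcx]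
      exact conj_comm' htx
    rw [MFive.centralizer_pow hp hxo hoj] at h1
    exact mem_centralizer_singleton_iff.1 h1
  let d : Subgroup.centralizer ({z} : Set G) := c * tC * c⁻¹ * tC⁻¹
  have hd : pi d = 1 := by
    show pi (c * tC * c⁻¹ * tC⁻¹) = 1
    rw [map_mul, map_mul, map_mul, map_inv, map_inv, hpic, hr3]
    group
  have hdQ : (d : G) ∈ Q := (h.pi_eq_one d).1 hd
  have hde : (d : G) = (c : G) * t * (c : G)⁻¹ * t⁻¹ := rfl
  have hxd : (x : G) * (d : G) = (d : G) * x := by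
    rw [hde]
    have h1 : Commute (x : G) ((c : G) * t * (c : G)⁻¹) := hctx.symm
    have h3 : Commute (x : G) t := htx.symm
    exact (h1.mul_right h3.inv_right).eq
  rcases MonGen.free_of_fr h ho hxp hfr hdQ hxd with h1 | h1
  · refine ⟨c, j, hcx, hxj, ?_⟩
    rw [hde, mul_inv_eq_one] at h1
    exact mul_inv_eq_iff_eq_mul.1 h1
  · exfalso
    rw [hde, mul_inv_eq_iff_eq_mul] at h1
    obtain ⟨k, hk⟩ := hT.fus t htT htz hnQ
    have h3 : T (k⁻¹ * (z * t) * k⁻¹⁻¹) := hT.conj _ _ (by rw [← h1]; exact hT.conj t c htT)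
    have h4 : k⁻¹ * (z * t) * k⁻¹⁻¹ = z := by
      rw [← hk]; group
    rw [h4] at h3
    exact hT.ne z h3 rfl

/-- The case of fixed rank 0 and `t z = z t`. -/
def ZeroV (p : ℕ) {G : Type u} [Group G] (z : G) (pi : Subgroup.centralizer ({z} : Set G) →* Co1) (T : G → Prop) : Prop :=
  ∀ (x : Subgroup.centralizer ({z} : Set G)) (t : G), orderOf x = p → fr (pi x) = 1 → T t → t * z = z * t →
    t * (x : G) = x * t → MV (x : G) t

/-- **Fixed rank 0.** -/
theorem mv_zero_of [Finite G] (h : Chart Q z eta pi) (htr : TrNe p z pi)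
    (hT : TCl Q z T) (H0 : ZeroV p z pi T) {x : Subgroup.centralizer ({z} : Set G)} (hx : orderOf x = p)
    (hfr : fr (pi x) = 1) {t : G} (htT : T t) (hxt : (x : G) * t = t * x) : MV (x : G) t := by
  let tD' : ↥(centralizer ({(x : G)} : Set G)) := ⟨t, mem_centralizer_singleton_iff.2 hxt.symm⟩
  have hzo : orderOf (zD x) = 2 := MFive.orderOf_zD h x
  have hto : orderOf tD' = 2 := by rw [← Subgroup.orderOf_coe]; exact hT.two t htT
  obtain ⟨d, hd⟩ := LThreeBX.Abs.exists_conj_comm hzo (fun d hd => Subtype.ext (isolated h htr hx hfr d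
    (mem_centralizer_singleton_iff.1 d.2) (congrArg Subtype.val hd))) hto
  have hd' : ((d : G) * t * (d : G)⁻¹) * z = z * ((d : G) * t * (d : G)⁻¹) := congrArg Subtype.val hd
  have hdx : (d : G) * x = x * d := mem_centralizer_singleton_iff.1 d.2
  set t' := (d : G) * t * (d : G)⁻¹ with ht'
  have hT' : T t' := hT.conj t d htT
  have hx't : (x : G) * t' = t' * x := by
    have hdx' : Commute (x : G) (d : G) := hdx.symm
    have h1 : Commute (x : G) t := hxt
    exact ((hdx'.mul_right h1).mul_right hdx'.inv_right).eq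
  have h1 := H0 x t' hx hfr hT' hd' hx't.symm
  refine MV.conj (g := (d : G)⁻¹) ?_ ?_ h1
  · rw [inv_inv, mul_assoc, ← hdx, inv_mul_cancel_left]
  · rw [ht', inv_inv]; group

/-- **The middle fixed rank.** -/
theorem mv_mid [Finite G] (h : Chart Q z eta pi) (hp : p.Prime) (ho : Odd p) (htr : TrNe p z pi)
    (hT : TCl Q z T) (H0 : ZeroV p z pi T) {n : ℕ} {R : ℕ → Prop}
    (hC : ∀ s : Co1, orderOf s = p → fr s = 1 ∨ fr s = n ∨ R (fr s)) (hcl : WClassOf p n)
    (hR : ∀ x : Subgroup.centralizer ({z} : Set G), orderOf x = p → R (fr (pi x)) →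
      IsSimpleGroup (XX (x : G)) ∧ Subgroup.center (XX (x : G)) ≠ ⊤) (hpr : HasPair p z pi)
    {x : Subgroup.centralizer ({z} : Set G)} (hx : orderOf x = p)
    (hfr : fr (pi x) = n) {t : G} (htT : T t) (hxt : (x : G) * t = t * x) : MV (x : G) t := by
  obtain ⟨x₀, u, g, hx₀, hfr₀, huz, hux, hne, hg⟩ := hpr
  obtain ⟨k, i, hk⟩ := conj_pair h hp ho htr hC hcl hR hx₀ hfr₀ huz hux hne hg hx hfr
  have hoi : orderOf (x₀ ^ i) = p := by
    rw [← Subgroup.orderOf_coe]
    show orderOf ((x₀ : G) ^ i) = p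
    rw [← hk, ← hx, ← Subgroup.orderOf_coe]
    exact MulEquiv.orderOf_eq (MulAut.conj k) (x : G)
  have hfi : fr (pi (x₀ ^ i)) = 1 := by
    rw [map_pow]
    refine fr_pow hp (orderOf_pi h hp ho hx₀) hfr₀ ?_
    rw [← map_pow]
    exact orderOf_pi h hp ho hoi
  have hc : ((x₀ ^ i : Subgroup.centralizer ({z} : Set G)) : G) * (k * t * k⁻¹) =
      (k * t * k⁻¹) * ((x₀ ^ i : Subgroup.centralizer ({z} : Set G)) : G) := by
    show (x₀ : G) ^ i * (k * t * k⁻¹) = (k * t * k⁻¹) * (x₀ : G) ^ i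
    rw [← hk]
    calc k * (x : G) * k⁻¹ * (k * t * k⁻¹) = k * ((x : G) * t) * k⁻¹ := by group
      _ = k * (t * x) * k⁻¹ := by rw [hxt]
      _ = k * t * k⁻¹ * (k * x * k⁻¹) := by group
  have h1 := mv_zero_of h htr hT H0 hoi hfi (hT.conj t k htT) hc
  refine MV.conj (g := k⁻¹) ?_ ?_ h1
  · show k⁻¹ * ((x₀ : G) ^ i) * k⁻¹⁻¹ = x
    rw [← hk]; group
  · group

/-- an element commuting with a conjugate of `z` is conjugate to an element of `C(z)` -/
theorem exists_cent {x : G} (hex : ∃ g : G, (g * z * g⁻¹) * x = x * (g * z * g⁻¹)) (hx : orderOf x = p) :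
    ∃ (g : G) (x' : Subgroup.centralizer ({z} : Set G)), g * (x' : G) * g⁻¹ = x ∧ orderOf x' = p := by
  obtain ⟨g, hg⟩ := hex
  have h1 : (g⁻¹ * x * g) * z = z * (g⁻¹ * x * g) := by
    calc (g⁻¹ * x * g) * z = g⁻¹ * (x * (g * z * g⁻¹)) * g := by group
      _ = g⁻¹ * ((g * z * g⁻¹) * x) * g := by rw [hg]
      _ = z * (g⁻¹ * x * g) := by group
  refine ⟨g, ⟨g⁻¹ * x * g, mem_centralizer_singleton_iff.2 h1⟩, ?_, ?_⟩
  · show g * (g⁻¹ * x * g) * g⁻¹ = x
    group
  · rw [← Subgroup.orderOf_coe]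
    show orderOf (g⁻¹ * x * g) = p
    rw [orderOf_conj'', hx]

/-- elements commuting with a conjugate of `z` are moved -/
theorem movedAt_of_ex (h : Chart Q z eta pi) (hp : p.Prime) (ho : Odd p) (hm : Moved p Co1) {x : G}
    (hex : ∃ g : G, (g * z * g⁻¹) * x = x * (g * z * g⁻¹)) (hx : orderOf x = p) : MovedAt x := by
  obtain ⟨g, x', rfl, hx'⟩ := exists_cent hex hx
  exact (movedAt_of_pi h hp ho hx' (hm _ (orderOf_pi h hp ho hx'))).conj g

/-- **For `x` commuting with a conjugate of `z`.** -/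
theorem mv_of_conj (hT : TCl Q z T)
    (H : ∀ (x : Subgroup.centralizer ({z} : Set G)) (t : G), orderOf x = p → T t → (x : G) * t = t * x → MV (x : G) t)
    {x t : G} (hx : orderOf x = p) (htT : T t) (hxt : x * t = t * x)
    (hex : ∃ g : G, (g * z * g⁻¹) * x = x * (g * z * g⁻¹)) : MV x t := by
  obtain ⟨g, x', rfl, hx'⟩ := exists_cent hex hx
  have h4 : (x' : G) * (g⁻¹ * t * g) = (g⁻¹ * t * g) * x' := by
    calc (x' : G) * (g⁻¹ * t * g) = g⁻¹ * ((g * x' * g⁻¹) * t) * g := by group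
      _ = g⁻¹ * (t * (g * x' * g⁻¹)) * g := by rw [hxt]
      _ = _ := by group
  have h6 : T (g⁻¹ * t * g) := by
    have h5 := hT.conj t g⁻¹ htT
    rwa [inv_inv] at h5
  exact MV.conj rfl (by group) (H x' _ hx' h6 h4)

/-- **`C(x) / ⟨x⟩` with `InvC`.** -/
theorem mv_of_iso [Finite G] (h : Chart Q z eta pi) (hp : p.Prime) (ho : Odd p) (hT : TCl Q z T)
    {x : Subgroup.centralizer ({z} : Set G)} (hx : orderOf x = p) (hm : MovedAt (pi x)) {F : Type v} [Group F]
    (e : XX (x : G) ≃* F) (hF : InvC F) {t : G} (htT : T t) (hxt : (x : G) * t = t * x) : MV (x : G) t := by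
  have hp2 : p ≠ 2 := by
    rintro rfl
    exact absurd ho (by decide)
  exact mv_of_invC hp hp2 (by rw [Subgroup.orderOf_coe, hx]) (hT.two t htT) hxt.symm (movedAt_of_pi h hp ho hx hm)
    (hF.congr e)

section

variable {V P W : Type*} [AddCommGroup V] [Module ℚ V]
  [DistribMulAction G V] [SMulCommClass G ℚ V] [Group P] [AddCommGroup W] [Module ℚ W]
  {M : MonsterX.KSide.KS G V P W} {θ : leechLattice → P}

/-- **All `x` of order 3 commuting with a conjugate of `z`.** -/
theorem mv_three [Finite G]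
    [IsSimpleGroup G] (hc : LThreeMB.KChart.Cent M) (I : CoOne)
    (ht : LThreeMB.TrNe M.z (LThreeMB.KChart.pi hc)) (hpr : HasPair 3 M.z (LThreeMB.KChart.pi hc))
    {T : G → Prop} {Q : Subgroup G} {eta : G → L2} (h : Chart Q M.z eta (LThreeMB.KChart.pi hc)) (hT : TCl Q M.z T)
    {x t : G} (hx : orderOf x = 3) (htT : T t) (hxt : x * t = t * x)
    (hex : ∃ g : G, (g * M.z * g⁻¹) * x = x * (g * M.z * g⁻¹)) : MV x t := by
  have htr : TrNe 3 M.z (LThreeMB.KChart.pi hc) := by
    intro x x' u g hx hx' hfr hfr' huz huu hu1 hne hux hg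
    exact ht x x' u g hx hx' hfr hfr' huz huu hu1 hne hux hg
  have hmv := H859.Ccp.Co1.moved_three
  have hmx : ∀ x : Subgroup.centralizer ({M.z} : Set G), orderOf x = 3 → MovedAt (LThreeMB.KChart.pi hc x) :=
    fun x hx => hmv _ (orderOf_pi h Nat.prime_three (by decide) hx)
  have H0 : ZeroV 3 M.z (LThreeMB.KChart.pi hc) T := by
    intro x t hx hfr htT htz htx
    obtain ⟨e⟩ := I.suz _ (orderOf_pi h Nat.prime_three (by decide) hx) hfr
    exact mv_zero h Nat.prime_three (by decide) hT hx hfr (hmx x hx) (InvFacts.invC_suz.congr e) htT htz htx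
  refine mv_of_conj hT (fun x t hx htT hxt => ?_) hx htT hxt hex
  rcases LThreeCo1.Ranks.ranks _ (orderOf_pi h Nat.prime_three (by decide) hx) with h1 | h1 | h1 | h1
  · exact mv_zero_of h htr hT H0 hx h1 htT hxt
  · refine mv_mid h Nat.prime_three (by decide) htr hT H0 (n := 2 ^ 6) (R := fun n => n = 2 ^ 8 ∨ n = 2 ^ 12)
      (fun s hs => ?_) (MFive.ClassOf.weak LThreeCo1.Ranks.six) (fun y hy h2 => ?_) hpr hx h1 htT hxt
    · rcases LThreeCo1.Ranks.ranks s hs with h1 | h1 | h1 | h1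
      · exact Or.inl h1
      · exact Or.inr (Or.inl h1)
      · exact Or.inr (Or.inr (Or.inl h1))
      · exact Or.inr (Or.inr (Or.inr h1))
    · have h3 := MonThree.spl_of_inputs h I hy h2
      refine ⟨h3.simple, fun h4 => ?_⟩
      obtain ⟨a, b, hab⟩ := h3.nc
      apply hab
      have h5 : b ∈ Subgroup.center (XX (y : G)) := by rw [h4]; trivial
      exact Subgroup.mem_center_iff.1 h5 a
  · obtain ⟨s, hs, hfs, ⟨e⟩, hg, hf⟩ := I.nine
    obtain ⟨x', hx', hs', c, hc'⟩ := LThreeMB.exists_conj_to h hx hs (by rw [h1]; exact I.eight) (by rw [hfs, h1])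
    subst hs'
    obtain ⟨-, ⟨f⟩⟩ := exists_XX_equiv hc'
    obtain ⟨e'⟩ := LThreeMB.iso_th h hx' hfs (by rw [hfs]; exact I.eight) hf e hg
    have key : ∀ e'' : XX (x : G) ≃* Spor.Th, MV (x : G) t := fun e'' =>
      mv_of_iso h Nat.prime_three (by decide) hT hx (hmx x hx) e'' InvFacts.invC_th htT hxt
    first
    | exact key (f.trans e')
    | exact key (f.symm.trans e')
  · obtain ⟨e⟩ := isoFi h I hx h1
    exact mv_of_iso h Nat.prime_three (by decide) hT hx (hmx x hx) e InvFi.invC_fi htT hxt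

end

/-- **All `x` of order 5 commuting with a conjugate of `z`.** -/
theorem mv_five [Finite G] (h : Chart Q z eta pi) (htr : TrNe 5 z pi) (hpr : HasPair 5 z pi)
    (ranks : ∀ s : Co1, orderOf s = 5 → fr s = 1 ∨ fr s = 2 ^ 4 ∨ fr s = 2 ^ 8) (hcl : WClassOf 5 (2 ^ 4))
    (h8 : MFive.HNEight z pi) (hJ : ∀ s : Co1, orderOf s = 5 → fr s = 1 → Spor.IsoJ2 (XX s)) (hT : TCl Q z T)
    {x t : G} (hx : orderOf x = 5) (htT : T t) (hxt : x * t = t * x)
    (hex : ∃ g : G, (g * z * g⁻¹) * x = x * (g * z * g⁻¹)) : MV x t := by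
  have hmv := H859.Ccp.Co1.moved_five
  have hfin : Finite Co1 := Finite.of_surjective _ h.pi_surj
  have hmx : ∀ x : Subgroup.centralizer ({z} : Set G), orderOf x = 5 → MovedAt (pi x) :=
    fun x hx => hmv _ (orderOf_pi h Nat.prime_five (by decide) hx)
  have H0 : ZeroV 5 z pi T := by
    intro x t hx hfr htT htz htx
    exact mv_zero h Nat.prime_five (by decide) hT hx hfr (hmx x hx)
      (InvFacts.invC_j2 (hJ _ (orderOf_pi h Nat.prime_five (by decide) hx) hfr)) htT htz htx
  refine mv_of_conj hT (fun x t hx htT hxt => ?_) hx htT hxt hex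
  rcases ranks _ (orderOf_pi h Nat.prime_five (by decide) hx) with h1 | h1 | h1
  · exact mv_zero_of h htr hT H0 hx h1 htT hxt
  · exact mv_mid h Nat.prime_five (by decide) htr hT H0 (n := 2 ^ 4) (R := fun n => n = 2 ^ 8) ranks hcl
      (fun y hy h2 => ⟨(MFive.simple_of_isoHN (h8 y hy h2)).1, (MFive.simple_of_isoHN (h8 y hy h2)).2.1⟩) hpr hx h1
      htT hxt
  · obtain ⟨e⟩ := h8 x hx h1
    exact mv_of_iso h Nat.prime_five (by decide) hT hx (hmx x hx) e InvFacts.invC_hn htT hxt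

end Cfsg.Agent.H763.Ccp.BChart
end

-- part: H763/Ccp/B
section
/-!
# S4114: the row `B` (helper763)

`mv_three`, `mv_five`, `mv_seven` : elements of order 3, 5, 7 of the Monster commuting with a 2A-involution `t` (for 5 : and
with centralizer of order divisible by 4) are conjugate to a different power by an element of `C(t)`.
-/

set_option autoImplicit false
set_option maxRecDepth 100000

namespace Cfsg.Agent.H763.Ccp.B

open Cfsg Cfsg.Agent.MonsterX Cfsg.Agent.MonsterX.InstData Cfsg.Agent.MonsterX.MainPack Cfsg.Agent.MonsterU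
open Cfsg.Agent.MonsterP Cfsg.Agent.MonsterN Cfsg.Agent.PreUniqB
open Cfsg.Agent.LThreeMB (fr XX KChart.Cent KChart.pi KChart.chart CoOne)
open Cfsg.Agent.MonsterX.MainBasic Cfsg.Agent.MonsterX.MainSimple Cfsg.Agent.MonsterX.Model
open Cfsg.Agent.CpAutBFive Cfsg.Agent.H497.Stein Cfsg.Agent.H763.Ccp.MV Cfsg.Agent.H763.Ccp
open Cfsg.Spor (Co1)
open Subgroup (centralizer mem_centralizer_singleton_iff center)

universe u

theorem mv_three {x v : ↥InstData.M.G} (hx : orderOf x = 3) (hv : IsConj RowB.t v) (hxv : x * v = v * x) : MV x v := by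
  have hfin : Finite ↥InstData.M.G := MFive.Row.finite_model
  have hs : IsSimpleGroup ↥InstData.M.G := MFive.Row.simple_model
  have ht := LThreeMB.KPair.trNe KDone.lft MFive.Row.hc (LThreeMBTr.traceNe KDone.lft LThreeMBTr.TensK.tens)
  have hp := LThreeMB.KPair.hasPair KDone.lft MFive.Row.hc LThreeB.Row.second LThreeMB.COct.octPair
  obtain ⟨g, hg, -⟩ := LThreeM.FiRow.exists_z_in (by rw [← hx, pow_orderOf_eq_one]) hv hxv
  exact BChart.mv_three MFive.Row.hc LThreeMB.CoOneFin.coOne ht hp (KChart.chart KDone.lft MFive.Row.hc) Model.tcl hx hv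
    hxv ⟨g, hg⟩

theorem mv_five {x v : ↥InstData.M.G} (hx : orderOf x = 5) (hv : IsConj RowB.t v) (hxv : x * v = v * x)
    (h4 : 4 ∣ Nat.card ↥(centralizer ({x} : Set ↥InstData.M.G))) : MV x v := by
  have hfin : Finite ↥InstData.M.G := MFive.Row.finite_model
  have h := KChart.chart KDone.lft MFive.Row.hc
  have htr := MFive.KPair.trNe_five KDone.lft Cfsg.Agent.LThreeMBTr.tens MFive.Row.hc
  have hsim : IsSimpleGroup ↥InstData.M.G := MFive.Row.simple_model
  have h8 : MFive.HNEight KDone.K.z (KChart.pi MFive.Row.hc) := MFiveHN.Closed.hnEight h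
  have hex := (CpAutBFive.EvenRow.cases hx).resolve_right fun h => h h4
  exact BChart.mv_five h htr (MFive.KPair.hasPair Nat.prime_five (by decide) KDone.lft Cfsg.Agent.LThreeMBTr.tens
    MFive.Row.hc MFive.Row.two MFive.Oct.octPair) CoFive.Ranks.ranks (CoFive.Ranks.wclassOf _) h8
    (fun s hs h1 => MFive.JTwo.isoJ2 hs h1) Model.tcl hx hv hxv hex

theorem mv_seven {x v : ↥InstData.M.G} (hx : orderOf x = 7) (hv : IsConj RowB.t v) (hxv : x * v = v * x) : MV x v := by
  have hfin : Finite ↥InstData.M.G := MFive.Row.finite_model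
  have h := KChart.chart KDone.lft MFive.Row.hc
  have hp : Nat.Prime 7 := by norm_num
  have ht := RowB.orderOf_t hv
  have he : 2 ∣ Nat.card ↥(centralizer ({x} : Set ↥InstData.M.G)) := by
    have h1 : orderOf (⟨v, mem_centralizer_singleton_iff.2 hxv.symm⟩ : ↥(centralizer ({x} : Set ↥InstData.M.G))) = 2 := by
      rw [← Subgroup.orderOf_coe]
      exact ht
    rw [← h1]
    exact orderOf_dvd_natCard _
  have hm := BChart.movedAt_of_ex h hp (by decide) H859.Ccp.Co1.moved_seven (MSevenT.hex7 x hx he) hx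
  obtain ⟨e⟩ := H109.Nr.B.isoHe_of_comm hv hx hxv
  exact mv_of_invC hp (by norm_num) hx ht hxv.symm hm (InvFacts.invC_he.congr e)

theorem exists_cover {L : Type u} [Group L] (h : Spor.IsoB L) : ∃ t : ↥InstData.M.G, IsConj RowB.t t ∧
    Nat.card ↥(center ↥(centralizer ({t} : Set ↥InstData.M.G))) = 2 ∧
      Nonempty (↥(centralizer ({t} : Set ↥InstData.M.G)) ⧸ center ↥(centralizer ({t} : Set ↥InstData.M.G)) ≃* L) := by
  obtain ⟨⟨h1, -, ⟨e⟩⟩, -⟩ := ModelB.fieldsKS LitFin.all KDone.lnk KDone.lft (NodesGrp.prel LitFin.H)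
    (NodesNe.ne LitFin.H) LitFin.conj_ten Cfsg.Agent.S1704.result KDone.lnk.x₀_mem
  obtain ⟨g, hg⟩ := ModelB.exists_conj_t LitFin.all.hG LitFin.all.hR KDone.lnk KDone.lft KDone.lnk.x₀_mem
  obtain ⟨f⟩ := h
  exact ⟨_, isConj_iff.2 ⟨g, hg⟩, h1, ⟨e.trans f.symm⟩⟩

/-- the image of a moved element in `C(t)/Z` -/
theorem movedAt_quot {t : ↥InstData.M.G} {L : Type u} [Group L]
    (e : ↥(centralizer ({t} : Set ↥InstData.M.G)) ⧸ center ↥(centralizer ({t} : Set ↥InstData.M.G)) ≃* L) {p : ℕ}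
    (h2 : Nat.card ↥(center ↥(centralizer ({t} : Set ↥InstData.M.G))) = 2) (hp : p.Prime) (hp2 : p ≠ 2)
    {a : ↥(centralizer ({t} : Set ↥InstData.M.G))} (ha : orderOf a = p) (hm : MV (a : ↥InstData.M.G) t) :
    MovedAt (e (QuotientGroup.mk a)) := by
  have hfin : Finite ↥InstData.M.G := MFive.Row.finite_model
  obtain ⟨g, j, h1, h3, h4⟩ := hm
  let g' : ↥(centralizer ({t} : Set ↥InstData.M.G)) := ⟨g, mem_centralizer_singleton_iff.2 h4⟩
  have h5 : g' * a * g'⁻¹ = a ^ j := Subtype.ext h1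
  let q : ↥(centralizer ({t} : Set ↥InstData.M.G)) →* L :=
    e.toMonoidHom.comp (QuotientGroup.mk' (center ↥(centralizer ({t} : Set ↥InstData.M.G))))
  refine ⟨q g', j, ?_, ?_⟩
  · show q g' * q a * (q g')⁻¹ = (q a) ^ j
    rw [← map_mul, ← map_inv, ← map_mul, h5, map_pow]
  · intro h6
    apply h3
    have h6' : q (a ^ j * a⁻¹) = 1 := by
      rw [map_mul, map_inv, map_pow]
      show (e (QuotientGroup.mk a)) ^ j * (e (QuotientGroup.mk a))⁻¹ = 1
      rw [h6, mul_inv_cancel]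
    have h7 : a ^ j * a⁻¹ ∈ center ↥(centralizer ({t} : Set ↥InstData.M.G)) := by
      have h8 : e (QuotientGroup.mk (a ^ j * a⁻¹)) = 1 := h6'
      rw [e.map_eq_one_iff, QuotientGroup.eq_one_iff] at h8
      exact h8
    have h8 : (a ^ j * a⁻¹) ^ 2 = 1 := by
      have h9 : (⟨a ^ j * a⁻¹, h7⟩ : ↥(center ↥(centralizer ({t} : Set ↥InstData.M.G)))) ^
          Nat.card ↥(center ↥(centralizer ({t} : Set ↥InstData.M.G))) = 1 := pow_card_eq_one'
      rw [h2] at h9
      exact congrArg Subtype.val h9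
    have hap : a ^ p = 1 := by rw [← ha, pow_orderOf_eq_one]
    have h9 : (a ^ j * a⁻¹) ^ p = 1 := by
      have hc : Commute (a ^ j) (a⁻¹) := (Commute.refl a).pow_left j |>.inv_right
      rw [hc.mul_pow, ← pow_mul, mul_comm j, pow_mul, hap, one_pow, one_mul, inv_pow, hap, inv_one]
    have h10 := pow_gcd_eq_one.2 ⟨h8, h9⟩
    have h11 : Nat.gcd 2 p = 1 := (Nat.coprime_primes Nat.prime_two hp).2 (Ne.symm hp2)
    rw [h11, pow_one, mul_inv_eq_one] at h10
    exact congrArg Subtype.val h10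

theorem moved_of {L : Type u} [Group L] (h : Spor.IsoB L) {p : ℕ} (hp : p.Prime) (hp2 : p ≠ 2)
    (H : ∀ x v : ↥InstData.M.G, orderOf x = p → IsConj RowB.t v → x * v = v * x → MV x v) : Moved p L := by
  have hfin : Finite ↥InstData.M.G := MFive.Row.finite_model
  obtain ⟨t, ht, h2, ⟨e⟩⟩ := exists_cover h
  intro y hy
  obtain ⟨a, ha, ha'⟩ := H979.CovLift.exists_lift h2 hp hp2 (x := e.symm y) (by rw [MulEquiv.orderOf_eq, hy])
  have h3 := movedAt_quot e h2 hp hp2 ha (H a t (by rw [Subgroup.orderOf_coe, ha]) ht (mem_centralizer_singleton_iff.1 a.2))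
  rwa [ha', e.apply_symm_apply] at h3

theorem moved_pair {L : Type u} [Group L] (h : Spor.IsoB L) : MovedPair 5 2 L := by
  have hfin : Finite ↥InstData.M.G := MFive.Row.finite_model
  obtain ⟨t, ht, h2, ⟨e⟩⟩ := exists_cover h
  intro y s hy hs hsy
  obtain ⟨a, ha, ha'⟩ := H979.CovLift.exists_lift h2 Nat.prime_five (by norm_num) (x := e.symm y)
    (by rw [MulEquiv.orderOf_eq, hy])
  have ha5 : a ^ 5 = 1 := by rw [← ha, pow_orderOf_eq_one]
  have h4 : 4 ∣ Nat.card ↥(centralizer ({(a : ↥InstData.M.G)} : Set ↥InstData.M.G)) :=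
    H979.CovLift.four_dvd h2 e (by decide : Odd 5) ha5 hs (by rw [ha', e.apply_symm_apply, hsy])
  have h3 := movedAt_quot e h2 Nat.prime_five (by norm_num) ha (mv_five (by rw [Subgroup.orderOf_coe, ha]) ht
    (mem_centralizer_singleton_iff.1 a.2) h4)
  rwa [ha', e.apply_symm_apply] at h3

/-- **S4114, the row `B`.** -/
theorem row_B {G : Type u} [Group G] [Finite G] (h : Cfsg.Spor.IsoB G) : Cfsg.Agent.H520.Row G := by
  have D := BpSpor.Row.dat_b h
  have hs := D.simple
  have hna := not_comm_of_card D.simple (by rw [D.card]; norm_num)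
  refine row_of_pair Nat.prime_five (by rw [D.card]; norm_num) (by rw [D.card]; norm_num) (fun p hp => ?_)
    (fun p hp hp2 hp5 hpG => ?_) (moved_pair h)
  · intro α _
    obtain ⟨e⟩ := h
    obtain ⟨g, hg⟩ := CpAut.TwoInner.inner_b ((e.symm.trans α).trans e)
    refine ⟨e.symm g, ?_⟩
    ext x
    apply e.injective
    have h1 := congrArg (fun f : MulAut Spor.BabyMonster => f (e x)) hg
    have h2 : e (α (e.symm (e x))) = g * e x * g⁻¹ := h1
    rw [e.symm_apply_apply] at h2
    rw [h2, MulAut.conj_apply, map_mul, map_mul, map_inv, e.apply_symm_apply]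
  · by_cases h : p ^ 2 ∣ Nat.card G
    · rw [D.card] at h
      obtain ⟨k, hk, h2k⟩ := OrdDiv.exists_pair (l := [(2, 41), (3, 13), (5, 6), (7, 2), (11, 1), (13, 1), (17, 1),
        (19, 1), (23, 1), (31, 1), (47, 1)]) (by decide +kernel) hp (by norm_num : 1 ≤ 2) h
      simp only [List.mem_cons, Prod.mk.injEq, List.not_mem_nil, or_false] at hk
      rcases hk with hk | hk | hk | hk | hk | hk | hk | hk | hk | hk | hk
      · exact absurd hk.1 hp2
      · obtain ⟨rfl, -⟩ := hk
        exact moved_of ‹_› Nat.prime_three (by norm_num) fun x v hx hv hxv => mv_three hx hv hxv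
      · exact absurd hk.1 hp5
      · obtain ⟨rfl, -⟩ := hk
        exact moved_of ‹_› (by norm_num) (by norm_num) fun x v hx hv hxv => mv_seven hx hv hxv
      all_goals (exfalso; omega)
    · exact moved_of_not_sq hna hp h

end Cfsg.Agent.H763.Ccp.B
end
end

-- part: H979/Ccp/MThirteen
section
prune_inst 0x180000000000000000000000000000000000000000000000000000000000000000004000000000000000000000000000000000000000000000000000000000000000000000000000000000000000000000000000000000000000000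
set_option linter.all false
open scoped Cfsg.Agent.FastGrp

-- part: H979/Ccp/Frob
section
/-!
# The order of a module for a cyclic group of prime order with an automorphism (helper979)

* `order_le_natDegree` : a polynomial `μ` over `F_s` dividing `μ(X ^ k)` and `X ^ q - 1`, `μ(1) ≠ 0`: the order of `k`
  modulo `q` is at most the degree of `μ`;
* `pow_dvd_of_frob` : `f` an automorphism of order `q` of an elementary abelian `s`-group `V` without fixed points, `τ` an
  automorphism with `τ f τ⁻¹ = f ^ j`, `j` of prime order `p` modulo `q`, `p` prime to the order `m` of `s` modulo `q`: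
  `s ^ (p * m)` divides `|V|`.
-/

set_option autoImplicit false

namespace Cfsg.Agent.H979.Ccp

open Polynomial

section poly

variable {s q : ℕ} [hs : Fact s.Prime] [hq : Fact q.Prime]

theorem order_le_natDegree {μ : (ZMod s)[X]} (h0 : μ ≠ 0) (hd : μ.natDegree ≠ 0) {k : ℕ} (hk : μ ∣ expand (ZMod s) k μ)
    (hX : μ ∣ X ^ q - 1) (h1 : μ.eval 1 ≠ 0) : orderOf (k : ZMod q) ≤ μ.natDegree := by
  classical
  let K := AlgebraicClosure (ZMod s)
  obtain ⟨l, hl⟩ := IsAlgClosed.exists_aeval_eq_zero K μ (fun h => hd (natDegree_eq_zero_iff_degree_le_zero.2 h.le))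
  have hroot : ∀ r : K, aeval r μ = 0 → aeval (r ^ k) μ = 0 := by
    intro r hr
    obtain ⟨g, hg⟩ := hk
    rw [← expand_aeval, hg, map_mul, hr, zero_mul]
  have hit : ∀ i : ℕ, aeval (l ^ k ^ i) μ = 0 := by
    intro i
    induction i with
    | zero => rwa [pow_zero, pow_one]
    | succ i ih =>
      rw [pow_succ, pow_mul]
      exact hroot _ ih
  have hlq : l ^ q = 1 := by
    obtain ⟨g, hg⟩ := hX
    have h2 := congrArg (aeval l) hg
    rw [map_mul, hl, zero_mul, map_sub, map_pow, aeval_X, map_one] at h2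
    exact sub_eq_zero.1 h2
  have hl1 : l ≠ 1 := by
    rintro rfl
    apply h1
    have h2 : aeval (1 : K) μ = algebraMap (ZMod s) K (μ.eval 1) := by
      rw [← map_one (algebraMap (ZMod s) K), aeval_algebraMap_apply]
      rfl
    rw [h2] at hl
    exact (map_eq_zero _).1 hl
  have hl0 : l ≠ 0 := by
    rintro rfl
    rw [zero_pow hq.out.ne_zero] at hlq
    exact zero_ne_one hlq
  obtain ⟨u, hu⟩ : ∃ u : Kˣ, (u : K) = l := ⟨Units.mk0 l hl0, rfl⟩
  have hlo : orderOf u = q := by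
    rw [← orderOf_units, hu]
    exact orderOf_eq_prime hlq hl1
  let n := orderOf (k : ZMod q)
  have hinj : Set.InjOn (fun i : ℕ => l ^ k ^ i) (Finset.range n : Set ℕ) := by
    intro i hi i' hi' h
    have h2 : k ^ i ≡ k ^ i' [MOD q] := by
      rw [← hlo]
      have h' : u ^ k ^ i = u ^ k ^ i' := by
        apply Units.ext
        rw [Units.val_pow_eq_pow_val, Units.val_pow_eq_pow_val, hu]
        exact h
      exact pow_eq_pow_iff_modEq.1 h'
    have h3 : (k : ZMod q) ^ i = (k : ZMod q) ^ i' := by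
      have h4 := (ZMod.natCast_eq_natCast_iff _ _ _).2 h2
      rwa [Nat.cast_pow, Nat.cast_pow] at h4
    exact pow_injOn_Iio_orderOf (Set.mem_Iio.2 (Finset.mem_range.1 hi)) (Set.mem_Iio.2 (Finset.mem_range.1 hi')) h3
  have h2 : (Finset.range n).image (fun i : ℕ => l ^ k ^ i) ⊆ (μ.aroots K).toFinset := by
    intro r hr
    obtain ⟨i, -, rfl⟩ := Finset.mem_image.1 hr
    rw [Multiset.mem_toFinset, mem_aroots]
    exact ⟨h0, hit i⟩
  calc n = ((Finset.range n).image (fun i : ℕ => l ^ k ^ i)).card := by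
        rw [Finset.card_image_of_injOn hinj, Finset.card_range]
    _ ≤ (μ.aroots K).toFinset.card := Finset.card_le_card h2
    _ ≤ Multiset.card (μ.aroots K) := Multiset.toFinset_card_le _
    _ ≤ (μ.map (algebraMap (ZMod s) K)).natDegree := card_roots' _
    _ ≤ μ.natDegree := natDegree_map_le

end poly

section mod

variable {s q p : ℕ} [hs : Fact s.Prime] [hq : Fact q.Prime] [hp : Fact p.Prime] {V : Type*} [AddCommGroup V] [Finite V]
  [Nontrivial V] [Module (ZMod s) V]

theorem le_finrank {f : Module.End (ZMod s) V} (hf : f ^ q = 1) (hf1 : ∀ v, f v = v → v = 0) (τ : V ≃ₗ[ZMod s] V) {j : ℕ}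
    (hτ : ∀ v, τ (f v) = (f ^ j) (τ v)) : orderOf ((s * j : ℕ) : ZMod q) ≤ Module.finrank (ZMod s) V := by
  have hfin : Module.Finite (ZMod s) V := Module.Finite.of_finite
  have hint : IsIntegral (ZMod s) f := Algebra.IsIntegral.isIntegral f
  obtain ⟨μ, hμ⟩ : ∃ μ, μ = minpoly (ZMod s) f := ⟨_, rfl⟩
  have hμ0 : aeval f μ = 0 := hμ ▸ minpoly.aeval _ _
  have hdv : ∀ g : (ZMod s)[X], aeval f g = 0 → μ ∣ g := fun g hg => hμ ▸ minpoly.dvd _ _ hg
  -- `μ(f ^ j) = 0`
  have h1 : aeval (f ^ j) μ = 0 := by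
    have h2 : f ^ j = LinearEquiv.conjAlgEquiv (ZMod s) τ f := by
      ext v
      have h3 := hτ (τ.symm v)
      rw [LinearEquiv.apply_symm_apply] at h3
      rw [LinearEquiv.conjAlgEquiv_apply_apply, h3]
    rw [h2]
    have h3 := aeval_algHom_apply (LinearEquiv.conjAlgEquiv (ZMod s) τ) f μ
    rw [h3, hμ0, map_zero]
  have h2 : μ ∣ expand (ZMod s) j μ := hdv _ (by rw [expand_aeval, h1])
  have h3 : μ ∣ expand (ZMod s) s μ := by
    rw [ZMod.expand_card]
    exact dvd_pow_self μ hs.out.ne_zero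
  have h4 : μ ∣ expand (ZMod s) (s * j) μ := by
    rw [← expand_expand]
    refine h3.trans ?_
    obtain ⟨g, hg⟩ := h2
    rw [hg, map_mul]
    exact dvd_mul_right _ _
  have h5 : μ ∣ X ^ q - 1 := hdv _ (by rw [map_sub, map_pow, aeval_X, map_one, hf, sub_self])
  have h0 : μ ≠ 0 := hμ ▸ minpoly.ne_zero hint
  have hd : μ.natDegree ≠ 0 := hμ ▸ (minpoly.natDegree_pos hint).ne'
  have h6 : μ.eval 1 ≠ 0 := by
    intro h6
    obtain ⟨g, hg⟩ := dvd_iff_isRoot.2 h6
    have hg0 : g ≠ 0 := by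
      rintro rfl
      rw [mul_zero] at hg
      exact h0 hg
    have h7 : aeval f g = 0 := by
      ext v
      have h8 : f (aeval f g v) = aeval f g v := by
        have h9 : (aeval f μ) v = 0 := by rw [hμ0]; rfl
        rw [hg, map_mul, map_sub, aeval_X, map_one, map_one] at h9
        exact sub_eq_zero.1 h9
      exact hf1 _ h8
    have h8 := natDegree_le_of_dvd (hdv g h7) hg0
    have h9 := congrArg natDegree hg
    rw [natDegree_mul (X_sub_C_ne_zero 1) hg0, natDegree_X_sub_C] at h9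
    omega
  refine (order_le_natDegree h0 hd h4 h5 h6).trans ?_
  rw [← LinearMap.charpoly_natDegree f]
  exact natDegree_le_of_dvd (hμ ▸ LinearMap.minpoly_dvd_charpoly f) (LinearMap.charpoly_monic f).ne_zero

end mod

section grp

/-- the additive version -/
theorem pow_dvd_add {s q p : ℕ} [hs : Fact s.Prime] [hq : Fact q.Prime] (hp : p.Prime) {V : Type*} [AddCommGroup V]
    [Finite V] [Nontrivial V] [Module (ZMod s) V] {f t : V →+ V} (hf : ∀ x, f^[q] x = x)
    (hf1 : ∀ x, f x = x → x = 0) (hti : Function.Injective t) {j : ℕ} (ht : ∀ x, t (f x) = f^[j] (t x))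
    (hj : orderOf (j : ZMod q) = p) (hpm : ¬ p ∣ orderOf (s : ZMod q)) :
    s ^ (p * orderOf (s : ZMod q)) ∣ Nat.card V := by
  let F : Module.End (ZMod s) V := f.toZModLinearMap s
  let t1 : V →ₗ[ZMod s] V := t.toZModLinearMap s
  have hinj : Function.Injective t1 := hti
  let T : V ≃ₗ[ZMod s] V := LinearEquiv.ofBijective t1 ⟨hinj, Finite.surjective_of_injective hinj⟩
  have hFp : ∀ (k : ℕ) (v : V), (F ^ k) v = f^[k] v := by
    intro k
    induction k with
    | zero => intro v; rfl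
    | succ k ih =>
      intro v
      rw [pow_succ', Module.End.mul_apply, ih, Function.iterate_succ_apply']
      rfl
  have h1 := le_finrank (s := s) (q := q) (V := V) (f := F) ?_ hf1 T (j := j) ?_
  · have h2 : orderOf ((s * j : ℕ) : ZMod q) = p * orderOf (s : ZMod q) := by
      rw [Nat.cast_mul, Commute.orderOf_mul_eq_mul_orderOf_of_coprime (Commute.all _ _), hj, mul_comm]
      rw [hj, Nat.coprime_comm]
      exact (Nat.Prime.coprime_iff_not_dvd hp).2 hpm
    rw [h2] at h1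
    have h3 : Nat.card V = s ^ Module.finrank (ZMod s) V := by
      have h4 := Module.natCard_eq_pow_finrank (K := ZMod s) (V := V)
      rwa [Nat.card_zmod] at h4
    rw [h3]
    exact pow_dvd_pow s h1
  · apply LinearMap.ext
    intro v
    rw [hFp, hf]
    rfl
  · intro v
    rw [hFp]
    exact ht v

/-- the order of a group with a Frobenius automorphism group -/
theorem pow_dvd_of_aut {s q p : ℕ} [hs : Fact s.Prime] [hq : Fact q.Prime] (hp : p.Prime) {N : Type*} [Group N]
    [Finite N] [Nontrivial N] (hc : ∀ x y : N, x * y = y * x) (hNs : ∀ x : N, x ^ s = 1) {f t : MulAut N}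
    (hf : ∀ x, (f ^ q) x = x) (hf1 : ∀ x, f x = x → x = 1) {j : ℕ} (ht : ∀ x, t (f x) = (f ^ j) (t x))
    (hj : orderOf (j : ZMod q) = p) (hpm : ¬ p ∣ orderOf (s : ZMod q)) :
    s ^ (p * orderOf (s : ZMod q)) ∣ Nat.card N := by
  let _ : CommGroup N := { (inferInstance : Group N) with mul_comm := hc }
  let _ : Module (ZMod s) (Additive N) := AddCommGroup.zmodModule (fun x => by
    apply Additive.toMul.injective
    exact hNs (Additive.toMul x))
  have hit : ∀ (g : MulAut N) (k : ℕ) (x : N), (g ^ k) x = g^[k] x := by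
    intro g k
    induction k with
    | zero => intro x; rfl
    | succ k ih =>
      intro x
      rw [pow_succ', MulAut.mul_apply, ih, Function.iterate_succ_apply']
  refine pow_dvd_add (s := s) (q := q) hp (V := Additive N) (f := MonoidHom.toAdditive f.toMonoidHom)
    (t := MonoidHom.toAdditive t.toMonoidHom) (fun x => ?_) hf1 t.injective (j := j) (fun x => ?_) hj hpm
  · have h1 := hf (Additive.toMul x)
    rw [hit] at h1
    exact h1
  · have h1 := ht (Additive.toMul x)
    rw [hit] at h1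
    exact h1

end grp

end Cfsg.Agent.H979.Ccp
end

-- part: H979/Ccp/Hyp
section
/-!
# Orders of modules for elementary abelian groups with an automorphism (helper979)

* `pow_dvd_of_hyps` : `n` hyperplanes `B` of `A` with `C_N(B) ≠ C_N(A)`: `s ^ (n * ord_q(s))` divides `|N|`;
* `pow_dvd_of_faithful_move` : `τ` of prime order `p` on the elementary abelian `q`-group `A` acting faithfully on the
  elementary abelian `s`-group `N`, `p ∤ ord_q(s)`: `s ^ (p * ord_q(s))` divides `|N|`.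
-/

set_option autoImplicit false
set_option linter.unusedSectionVars false

namespace Cfsg.Agent.H979.Ccp

open Subgroup Cfsg Cfsg.Agent.H520
open scoped commutatorElement

variable {H : Type*} [Group H] [Finite H]

/-- `N = C_N(B) × [N, B]` -/
theorem card_mul_of_coprime {N B : Subgroup H} (hNc : ∀ x ∈ N, ∀ y ∈ N, x * y = y * x)
    (hBN : B ≤ normalizer (N : Set H)) (hcop : (Nat.card B).Coprime (Nat.card N)) :
    Nat.card ↥(N ⊓ centralizer (B : Set H) : Subgroup H) * Nat.card ↥(⁅N, B⁆ : Subgroup H) = Nat.card ↥N := by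
  have h1 := Lib.CoprimeAbelian.inf_commutator_eq_bot B N hNc hBN hcop
  have h2 := Lib.CoprimeAbelian.sup_commutator_eq B N hNc hBN hcop
  have hle2 : ⁅N, B⁆ ≤ N := le_trans le_sup_right h2.le
  have h3 := Lib.ProductSet.card_mul_card_inf (N ⊓ centralizer (B : Set H)) ⁅N, B⁆
  have h4 : ⁅N, B⁆ ≤ normalizer ((N ⊓ centralizer (B : Set H) : Subgroup H) : Set H) := by
    intro c hc
    rw [mem_normalizer_iff]
    intro m
    have key : ∀ c ∈ N, ∀ m ∈ N ⊓ centralizer (B : Set H), c * m * c⁻¹ ∈ N ⊓ centralizer (B : Set H) := by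
      intro c hc m hm
      rw [hNc c hc m hm.1, mul_inv_cancel_right]
      exact hm
    refine ⟨key c (hle2 hc) m, fun h5 => ?_⟩
    have h6 := key c⁻¹ (N.inv_mem (hle2 hc)) _ h5
    have e : c⁻¹ * (c * m * c⁻¹) * c⁻¹⁻¹ = m := by group
    rwa [e] at h6
  rw [← coe_mul_of_right_le_normalizer_left _ _ h4, h2, h1, card_bot, mul_one] at h3
  exact h3.symm

/-- the condition on hyperplanes -/
def Hy (q : ℕ) (A N B : Subgroup H) : Prop :=
  B ≤ A ∧ B.relIndex A = q ∧ ∃ n ∈ N ⊓ centralizer (B : Set H), n ∉ centralizer (A : Set H)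

/-- generation of `A` by a hyperplane and an element -/
theorem mem_centralizer_of_hyp {q : ℕ} (hq : q.Prime) {A B : Subgroup H} (hBA : B ≤ A) (hi : B.relIndex A = q) {b n : H}
    (hbA : b ∈ A) (hb : b ∉ B) (hn : n ∈ centralizer (B : Set H)) (hbn : b * n = n * b) : n ∈ centralizer (A : Set H) := by
  let C : Subgroup H := A ⊓ centralizer ({n} : Set H)
  have h1 : B ≤ C := le_inf hBA fun x hx => mem_centralizer_singleton_iff.2 (mem_centralizer_iff.1 hn x hx)
  have h2 : C ≤ A := inf_le_left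
  have h3 : B.relIndex C * C.relIndex A = q := by rw [← hi]; exact relIndex_mul_relIndex _ _ _ h1 h2
  have h4 : B.relIndex C ≠ 1 := by
    intro h5
    exact hb (relIndex_eq_one.1 h5 ⟨hbA, mem_centralizer_singleton_iff.2 hbn⟩)
  have h5 : C.relIndex A = 1 := by
    rcases (Nat.dvd_prime hq).1 (Dvd.intro _ h3) with h6 | h6
    · exact absurd h6 h4
    · rw [h6] at h3
      exact Nat.eq_of_mul_eq_mul_left hq.pos (by rw [h3, mul_one])
  have h6 := relIndex_eq_one.1 h5
  exact mem_centralizer_iff.2 fun x hx => mem_centralizer_singleton_iff.1 (h6 hx).2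

/-- distinct hyperplanes -/
theorem exists_notMem {q : ℕ} (hq : q.Prime) {A B C : Subgroup H} (hC : C ≤ A) (hBi : B.relIndex A = q)
    (hCi : C.relIndex A = q) (hne : B ≠ C) : ∃ b ∈ B, b ∉ C := by
  by_contra hcon
  push Not at hcon
  have h1 : B ≤ C := hcon
  have h3 : B.relIndex C * C.relIndex A = q := by rw [← hBi]; exact relIndex_mul_relIndex _ _ _ h1 hC
  rw [hCi] at h3
  have h4 : B.relIndex C = 1 := Nat.eq_of_mul_eq_mul_right hq.pos (by rw [h3, one_mul])
  exact hne (le_antisymm h1 (relIndex_eq_one.1 h4))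

/-- **The order of a module with `n` hyperplanes.** -/
theorem pow_dvd_of_hyps {q s : ℕ} [hq : Fact q.Prime] [hs : Fact s.Prime] (hne : s ≠ q) {A : Subgroup H}
    (hA : IsElementaryAbelian q A) (n : ℕ) : ∀ (N : Subgroup H) (F : Finset (Subgroup H)), F.card ≤ n → IsPGroup s N →
      (∀ x ∈ N, ∀ y ∈ N, x * y = y * x) → A ≤ normalizer (N : Set H) → (∀ B ∈ F, Hy q A N B) →
      s ^ (F.card * orderOf (s : ZMod q)) ∣ Nat.card N := by
  classical
  induction n with
  | zero =>
    intro N F hF _ _ _ _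
    have : F.card = 0 := by omega
    rw [this, zero_mul, pow_zero]
    exact one_dvd _
  | succ n ih =>
    intro N F hFn hN hNc hAN hF
    have hAc : ∀ x ∈ A, ∀ y ∈ A, x * y = y * x := fun x hx y hy =>
      congrArg Subtype.val (hA.1.is_comm.comm (⟨x, hx⟩ : ↥A) ⟨y, hy⟩)
    by_cases hF1 : F.card ≤ 1
    · -- at most one hyperplane
      rcases Nat.le_one_iff_eq_zero_or_eq_one.1 hF1 with h0 | h1
      · rw [h0, zero_mul, pow_zero]
        exact one_dvd _
      · obtain ⟨B, hB⟩ := Finset.card_eq_one.1 h1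
        obtain ⟨hBA, hBi, n, hn, hnA⟩ := hF B (by rw [hB]; exact Finset.mem_singleton_self B)
        rw [h1, one_mul]
        obtain ⟨a, ha, han⟩ : ∃ a ∈ A, a * n ≠ n * a := by
          by_contra hcon
          push Not at hcon
          exact hnA (mem_centralizer_iff.2 hcon)
        exact card_step hne hN (a := a) (hA.2 a ha) (fun m hm => (mem_normalizer_iff.1 (hAN ha) m).1 hm) ⟨n, hn.1, han⟩
    · -- two hyperplanes
      obtain ⟨B₀, hB₀, B₁, hB₁, hne01⟩ := Finset.one_lt_card.1 (by omega : 1 < F.card)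
      obtain ⟨hB₀A, hB₀i, -⟩ := hF _ hB₀
      obtain ⟨hB₁A, hB₁i, -⟩ := hF _ hB₁
      obtain ⟨b, hb0, hb1⟩ := exists_notMem hq.out hB₁A hB₀i hB₁i hne01
      have hbA := hB₀A hb0
      let Z : Subgroup H := zpowers b
      have hZA : Z ≤ A := zpowers_le.2 hbA
      have hZN : Z ≤ normalizer (N : Set H) := hZA.trans hAN
      have hcop : (Nat.card Z).Coprime (Nat.card N) := by
        obtain ⟨m, hm⟩ := IsPGroup.iff_card.1 hN
        have h1 : orderOf b ∣ q := orderOf_dvd_of_pow_eq_one (hA.2 b hbA)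
        rw [hm]
        have h2 : Nat.card Z = orderOf b := Nat.card_zpowers b
        rw [h2]
        exact Nat.Coprime.coprime_dvd_left h1 (Nat.Coprime.pow_right m ((Nat.coprime_primes hq.out hs.out).2 hne.symm))
      have hmul := card_mul_of_coprime hNc hZN hcop
      have h1 := Lib.CoprimeAbelian.inf_commutator_eq_bot Z N hNc hZN hcop
      have h2 := Lib.CoprimeAbelian.sup_commutator_eq Z N hNc hZN hcop
      have hle1 : N ⊓ centralizer (Z : Set H) ≤ N := inf_le_left
      have hle2 : ⁅N, Z⁆ ≤ N := le_trans le_sup_right h2.le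
      -- the action of `A` on both parts
      have hA1 : A ≤ normalizer ((N ⊓ centralizer (Z : Set H) : Subgroup H) : Set H) := by
        intro a ha
        have key : ∀ a ∈ A, ∀ m ∈ N ⊓ centralizer (Z : Set H), a * m * a⁻¹ ∈ N ⊓ centralizer (Z : Set H) := by
          rintro a ha m ⟨hm, hmZ⟩
          refine ⟨(mem_normalizer_iff.1 (hAN ha) m).1 hm, mem_centralizer_iff.2 fun z hz => ?_⟩
          have hza : Commute z a := hAc z (hZA hz) a ha
          have hzm : Commute z m := mem_centralizer_iff.1 hmZ z hz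
          exact ((hza.mul_right hzm).mul_right hza.inv_right).eq
        rw [mem_normalizer_iff]
        intro m
        refine ⟨key a ha m, fun h5 => ?_⟩
        have h6 := key a⁻¹ (A.inv_mem ha) _ h5
        have e : a⁻¹ * (a * m * a⁻¹) * a⁻¹⁻¹ = m := by group
        rwa [e] at h6
      have hA2 : A ≤ normalizer ((⁅N, Z⁆ : Subgroup H) : Set H) := by
        intro a ha
        have key : ∀ a ∈ A, (⁅N, Z⁆ : Subgroup H).map (MulAut.conj a).toMonoidHom ≤ ⁅N, Z⁆ := by
          intro a ha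
          rw [map_commutator]
          refine commutator_mono ?_ ?_
          · rintro _ ⟨m, hm, rfl⟩
            exact (mem_normalizer_iff.1 (hAN ha) m).1 hm
          · rintro _ ⟨z, hz, rfl⟩
            have h5 : a * z * a⁻¹ = z := by rw [hAc a ha z (hZA hz), mul_inv_cancel_right]
            show a * z * a⁻¹ ∈ Z
            rw [h5]
            exact hz
        rw [mem_normalizer_iff]
        intro m
        refine ⟨fun h5 => key a ha ⟨m, h5, rfl⟩, fun h5 => ?_⟩
        have h6 : a⁻¹ * (a * m * a⁻¹) * a⁻¹⁻¹ ∈ (⁅N, Z⁆ : Subgroup H) := key a⁻¹ (A.inv_mem ha) ⟨_, h5, rfl⟩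
        have e : a⁻¹ * (a * m * a⁻¹) * a⁻¹⁻¹ = m := by group
        rwa [e] at h6
      -- the two sets of hyperplanes
      let F1 := F.filter (fun B => b ∈ B)
      let F2 := F.filter (fun B => b ∉ B)
      have hF12 : F1.card + F2.card = F.card := Finset.card_filter_add_card_filter_not _
      have hF1p : 0 < F1.card := Finset.card_pos.2 ⟨B₀, Finset.mem_filter.2 ⟨hB₀, hb0⟩⟩
      have hF2p : 0 < F2.card := Finset.card_pos.2 ⟨B₁, Finset.mem_filter.2 ⟨hB₁, hb1⟩⟩
      have r1 := ih (N ⊓ centralizer (Z : Set H)) F1 (by omega) (hN.to_le hle1)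
        (fun x hx y hy => hNc x (hle1 hx) y (hle1 hy)) hA1 (by
          intro B hB
          obtain ⟨hBF, hbB⟩ := Finset.mem_filter.1 hB
          obtain ⟨hBA, hBi, n, hn, hnA⟩ := hF B hBF
          refine ⟨hBA, hBi, n, ⟨⟨hn.1, ?_⟩, hn.2⟩, hnA⟩
          exact centralizer_le (zpowers_le.2 hbB : Z ≤ B) hn.2)
      have r2 := ih ⁅N, Z⁆ F2 (by omega) (hN.to_le hle2) (fun x hx y hy => hNc x (hle2 hx) y (hle2 hy)) hA2 (by
          intro B hB
          obtain ⟨hBF, hbB⟩ := Finset.mem_filter.1 hB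
          obtain ⟨hBA, hBi, n, hn, hnA⟩ := hF B hBF
          have hbn : ¬ b * n = n * b := fun h5 => hnA (mem_centralizer_of_hyp hq.out hBA hBi hbA hbB hn.2 h5)
          have h5 : ⁅n, b⁆ ∈ ⁅N, Z⁆ := commutator_mem_commutator hn.1 (mem_zpowers b)
          refine ⟨hBA, hBi, ⁅n, b⁆, ⟨h5, mem_centralizer_iff.2 fun c hc => ?_⟩, fun h6 => hbn ?_⟩
          · have hcn : Commute c n := mem_centralizer_iff.1 hn.2 c hc
            have hcb : Commute c b := hAc c (hBA hc) b hbA
            rw [commutatorElement_def]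
            exact (((hcn.mul_right hcb).mul_right hcn.inv_right).mul_right hcb.inv_right).eq
          · have h7 : ⁅n, b⁆ ∈ N ⊓ centralizer (Z : Set H) ⊓ ⁅N, Z⁆ :=
              ⟨⟨hle2 h5, centralizer_le hZA h6⟩, h5⟩
            rw [h1, mem_bot, commutatorElement_def, mul_inv_eq_one, mul_inv_eq_iff_eq_mul] at h7
            exact h7.symm)
      rw [← hmul, ← hF12, add_mul, pow_add]
      exact mul_dvd_mul r1 r2

/-- powers of an automorphism preserving a subgroup -/
theorem pow_inv {B : Subgroup H} {τ : MulAut H} (h : ∀ b ∈ B, τ b ∈ B) (k : ℕ) : ∀ b ∈ B, (τ ^ k) b ∈ B := by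
  induction k with
  | zero => intro b hb; exact hb
  | succ k ih =>
    intro b hb
    rw [pow_succ', MulAut.mul_apply]
    exact h _ (ih b hb)

/-- **The order of a faithful module with an automorphism of prime order.** -/
theorem pow_dvd_of_faithful_move {q s p : ℕ} [hq : Fact q.Prime] [hs : Fact s.Prime] [hp : Fact p.Prime] (hne : s ≠ q)
    (hpm : ¬ p ∣ orderOf (s : ZMod q)) {A N : Subgroup H} (hA : IsElementaryAbelian q A)
    (hNs : ∀ x ∈ N, x ^ s = 1) (hNc : ∀ x ∈ N, ∀ y ∈ N, x * y = y * x) (hAN : A ≤ normalizer (N : Set H))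
    (hf : A ⊓ centralizer (N : Set H) = ⊥) {τ : MulAut H} (hτA : ∀ a ∈ A, τ a ∈ A) (hτN : ∀ n ∈ N, τ n ∈ N)
    (hτp : ∀ a ∈ A, (τ ^ p) a = a) (hτ1 : ∃ a ∈ A, τ a ≠ a) : s ^ (p * orderOf (s : ZMod q)) ∣ Nat.card N := by
  classical
  have hAc : ∀ x ∈ A, ∀ y ∈ A, x * y = y * x := fun x hx y hy =>
    congrArg Subtype.val (hA.1.is_comm.comm (⟨x, hx⟩ : ↥A) ⟨y, hy⟩)
  have hN : IsPGroup s N := fun x => ⟨1, by
    rw [pow_one]
    exact Subtype.ext (hNs x x.2)⟩
  have hAq : IsPGroup q A := fun a => ⟨1, by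
    rw [pow_one]
    exact Subtype.ext (hA.2 a a.2)⟩
  have hcopN : (Nat.card N).Coprime q := by
    obtain ⟨m, hm⟩ := IsPGroup.iff_card.1 hN
    rw [hm]
    exact Nat.Coprime.pow_left m ((Nat.coprime_primes hs.out hq.out).2 hne)
  obtain ⟨a, ha, hτa⟩ := hτ1
  have hAne : A ≠ ⊥ := by
    rintro rfl
    rw [mem_bot] at ha
    exact hτa (by rw [ha, map_one])
  have hgen := Lib.CoprimeHyperplane.le_iSup_hyperplane A N hA hAne hcopN hAN
  -- the element `a₀`
  obtain ⟨a₀, ha₀⟩ : ∃ a₀, a₀ = a⁻¹ * τ a := ⟨_, rfl⟩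
  have ha₀A : a₀ ∈ A := ha₀ ▸ mul_mem (inv_mem ha) (hτA a ha)
  have ha₀1 : a₀ ≠ 1 := by
    intro h
    rw [h] at ha₀
    exact hτa (inv_mul_eq_one.1 ha₀.symm).symm
  obtain ⟨B, ⟨hBA, hBi, hBn⟩, haB⟩ : ∃ B, Hy q A N B ∧ a₀ ∉ B := by
    by_contra hcon
    push Not at hcon
    have h1 : N ≤ centralizer ({a₀} : Set H) := by
      rw [hgen]
      refine iSup_le fun B n hn => mem_centralizer_singleton_iff.2 ?_
      by_cases h2 : n ∈ centralizer (A : Set H)
      · exact (mem_centralizer_iff.1 h2 a₀ ha₀A).symm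
      · exact (mem_centralizer_iff.1 hn.2 a₀ (hcon B.1 ⟨B.2.1, B.2.2, n, hn, h2⟩)).symm
    have h2 : a₀ ∈ A ⊓ centralizer (N : Set H) :=
      ⟨ha₀A, mem_centralizer_iff.2 fun n hn => mem_centralizer_singleton_iff.1 (h1 hn)⟩
    rw [hf, mem_bot] at h2
    exact ha₀1 h2
  -- the images of `B`
  have himg : ∀ i : ℕ, Hy q A N (B.map (τ ^ i).toMonoidHom) := by
    intro i
    have hAm : A.map (τ ^ i).toMonoidHom = A := by
      apply eq_of_le_of_card_ge
      · rintro _ ⟨x, hx, rfl⟩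
        exact pow_inv hτA i x hx
      · rw [card_map_of_injective (f := (τ ^ i).toMonoidHom) (τ ^ i).injective]
    have hNm : N.map (τ ^ i).toMonoidHom = N := by
      apply eq_of_le_of_card_ge
      · rintro _ ⟨x, hx, rfl⟩
        exact pow_inv hτN i x hx
      · rw [card_map_of_injective (f := (τ ^ i).toMonoidHom) (τ ^ i).injective]
    refine ⟨?_, ?_, ?_⟩
    · rintro _ ⟨x, hx, rfl⟩
      exact pow_inv hτA i x (hBA hx)
    · have h1 : (B.map (τ ^ i).toMonoidHom).relIndex (A.map (τ ^ i).toMonoidHom) = B.relIndex A :=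
        relIndex_map_map_of_injective B A (f := (τ ^ i).toMonoidHom) (τ ^ i).injective
      rw [hAm, hBi] at h1
      exact h1
    · obtain ⟨n, hn, hnA⟩ := hBn
      refine ⟨(τ ^ i) n, ⟨pow_inv hτN i n hn.1, mem_centralizer_iff.2 ?_⟩, fun h1 => hnA (mem_centralizer_iff.2 fun x hx => ?_)⟩
      · rintro _ ⟨x, hx, rfl⟩
        have h1 := congrArg (τ ^ i) (mem_centralizer_iff.1 hn.2 x hx)
        rw [map_mul, map_mul] at h1
        exact h1
      · apply (τ ^ i).injective
        rw [map_mul, map_mul]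
        exact mem_centralizer_iff.1 h1 _ (pow_inv hτA i x hx)
  by_cases hBτ : B.map τ.toMonoidHom = B
  · -- `τ` acts on `A / B`
    have hτB : ∀ b ∈ B, τ b ∈ B := by
      intro b hb
      have h1 : τ b ∈ B.map τ.toMonoidHom := ⟨b, hb, rfl⟩
      rwa [hBτ] at h1
    have haBn : a ∉ B := by
      intro h
      apply haB
      rw [ha₀]
      exact mul_mem (inv_mem h) (hτB a h)
    -- powers of `a`
    have hpowa : ∀ x ∈ A, ∃ (k : ℕ) (b : H), b ∈ B ∧ x = a ^ k * b := by
      intro x hx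
      have h1 : B ⊔ zpowers a = A := by
        have h2 : B ≤ B ⊔ zpowers a := le_sup_left
        have h3 : B ⊔ zpowers a ≤ A := sup_le hBA (zpowers_le.2 ha)
        have h4 : B.relIndex (B ⊔ zpowers a) * (B ⊔ zpowers a).relIndex A = q := by
          rw [← hBi]; exact relIndex_mul_relIndex _ _ _ h2 h3
        have h5 : B.relIndex (B ⊔ zpowers a) ≠ 1 := by
          intro h6
          exact haBn (relIndex_eq_one.1 h6 (mem_sup_right (mem_zpowers a)))
        have h6 : (B ⊔ zpowers a).relIndex A = 1 := by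
          rcases (Nat.dvd_prime hq.out).1 (Dvd.intro _ h4) with h7 | h7
          · exact absurd h7 h5
          · rw [h7] at h4
            exact Nat.eq_of_mul_eq_mul_left hq.out.pos (by rw [h4, mul_one])
        exact le_antisymm h3 (relIndex_eq_one.1 h6)
      have h2 : zpowers a ≤ normalizer (B : Set H) := by
        rw [zpowers_le, mem_normalizer_iff]
        intro y
        have key : ∀ a ∈ A, ∀ y ∈ B, a * y * a⁻¹ ∈ B := by
          intro a ha y hy
          rw [hAc a ha y (hBA hy), mul_inv_cancel_right]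
          exact hy
        refine ⟨key a ha y, fun h5 => ?_⟩
        have h6 := key a⁻¹ (A.inv_mem ha) _ h5
        have e : a⁻¹ * (a * y * a⁻¹) * a⁻¹⁻¹ = y := by group
        rwa [e] at h6
      have h3 : x ∈ ((B ⊔ zpowers a : Subgroup H) : Set H) := by rw [h1]; exact hx
      rw [coe_mul_of_right_le_normalizer_left _ _ h2] at h3
      obtain ⟨b, hb, c, hc, e⟩ := h3
      obtain ⟨k, hk⟩ := (mem_powers_iff_mem_zpowers (x := a) (y := c)).2 hc
      have hk' : a ^ k = c := hk
      refine ⟨k, b, hb, ?_⟩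
      rw [hk', ← hAc b (hBA hb) c (hk' ▸ pow_mem ha k)]
      exact e.symm
    have hpB : ∀ k l : ℕ, a ^ k * (a ^ l)⁻¹ ∈ B → ((k : ℕ) : ZMod q) = ((l : ℕ) : ZMod q) := by
      intro k l h
      by_contra hkl
      apply haBn
      -- Bezout
      have h1 : a ^ ((k : ℤ) - l) ∈ B := by
        rw [zpow_sub, zpow_natCast, zpow_natCast]
        exact h
      have h2 : ¬ (q : ℤ) ∣ (k : ℤ) - l := by
        intro h2
        apply hkl
        have h3 := (ZMod.intCast_zmod_eq_zero_iff_dvd ((k : ℤ) - l) q).2 h2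
        push_cast at h3
        exact sub_eq_zero.1 h3
      have h3 : IsCoprime ((k : ℤ) - l) (q : ℤ) :=
        ((Nat.prime_iff_prime_int.1 hq.out).irreducible.coprime_iff_not_dvd.2 h2).symm
      obtain ⟨u, v, huv⟩ := h3
      have h4 : a = (a ^ ((k : ℤ) - l)) ^ u * (a ^ (q : ℤ)) ^ v := by
        rw [← zpow_mul, ← zpow_mul, ← zpow_add]
        have e : ((k : ℤ) - l) * u + (q : ℤ) * v = 1 := by rw [← huv]; ring
        rw [e, zpow_one]
      rw [h4, zpow_natCast a q, hA.2 a ha, one_zpow, mul_one]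
      exact zpow_mem h1 u
    obtain ⟨j, b₁, hb₁, hj⟩ := hpowa (τ a) (hτA a ha)
    -- the order of `j`
    have hjn : ∀ n : ℕ, ∃ b ∈ B, (τ ^ n) a = a ^ j ^ n * b := by
      intro n
      induction n with
      | zero => exact ⟨1, one_mem B, by simp⟩
      | succ n ih =>
        obtain ⟨b, hb, e⟩ := ih
        refine ⟨b₁ ^ j ^ n * τ b, mul_mem (pow_mem hb₁ _) (hτB b hb), ?_⟩
        rw [pow_succ', MulAut.mul_apply, e, map_mul, map_pow, hj, Commute.mul_pow (hAc _ (pow_mem ha j) _ (hBA hb₁)),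
          ← pow_mul, pow_succ' j n]
        group
    have hjo : orderOf (j : ZMod q) = p := by
      apply orderOf_eq_prime
      · obtain ⟨b, hb, e⟩ := hjn p
        rw [hτp a ha] at e
        have h1 : a ^ 1 * (a ^ j ^ p)⁻¹ ∈ B := by
          have h2 : a ^ 1 * (a ^ j ^ p)⁻¹ = b := by
            rw [pow_one]
            have h3 := hAc _ (pow_mem ha (j ^ p)) b (hBA hb)
            nth_rw 1 [e]
            rw [h3, mul_inv_cancel_right]
          rw [h2]
          exact hb
        have h2 := hpB _ _ h1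
        rw [Nat.cast_pow, Nat.cast_one] at h2
        exact h2.symm
      · intro h1
        apply haB
        have h2 : a ^ q = 1 := hA.2 a ha
        have h3 : a ^ j = a := by
          have h4 : j ≡ 1 [MOD q] := by
            rw [← Nat.cast_one] at h1
            exact (ZMod.natCast_eq_natCast_iff _ _ _).1 h1
          have h5 : orderOf a ∣ q := orderOf_dvd_of_pow_eq_one h2
          have h6 : a ^ j = a ^ 1 := pow_eq_pow_iff_modEq.2 (h4.of_dvd h5)
          rwa [pow_one] at h6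
        rw [ha₀, hj, h3, inv_mul_cancel_left]
        exact hb₁
    -- the module
    have hBN : B ≤ normalizer (N : Set H) := hBA.trans hAN
    have hcB : ∀ a ∈ A, ∀ m ∈ N ⊓ centralizer (B : Set H), a * m * a⁻¹ ∈ N ⊓ centralizer (B : Set H) := by
      rintro a ha m ⟨hm, hmB⟩
      refine ⟨(mem_normalizer_iff.1 (hAN ha) m).1 hm, mem_centralizer_iff.2 fun b hb => ?_⟩
      have hab : Commute b a := hAc b (hBA hb) a ha
      have hbm : Commute b m := mem_centralizer_iff.1 hmB b hb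
      exact ((hab.mul_right hbm).mul_right hab.inv_right).eq
    obtain ⟨M, hM⟩ : ∃ M : Subgroup H, M = N ⊓ centralizer (B : Set H) := ⟨_, rfl⟩
    have hMN : M ≤ N := hM ▸ inf_le_left
    let Z : Subgroup H := zpowers a
    have hZM : Z ≤ normalizer (M : Set H) := by
      rw [show Z = zpowers a from rfl, zpowers_le, mem_normalizer_iff, hM]
      intro y
      refine ⟨hcB a ha y, fun h5 => ?_⟩
      have h6 := hcB a⁻¹ (A.inv_mem ha) _ h5
      have e : a⁻¹ * (a * y * a⁻¹) * a⁻¹⁻¹ = y := by group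
      rwa [e] at h6
    have hcop : (Nat.card Z).Coprime (Nat.card M) := by
      obtain ⟨m, hm⟩ := IsPGroup.iff_card.1 (hN.to_le hMN)
      have h1 : orderOf a ∣ q := orderOf_dvd_of_pow_eq_one (hA.2 a ha)
      rw [hm]
      have h2 : Nat.card Z = orderOf a := Nat.card_zpowers a
      rw [h2]
      exact Nat.Coprime.coprime_dvd_left h1 (Nat.Coprime.pow_right m ((Nat.coprime_primes hq.out hs.out).2 hne.symm))
    have hMc : ∀ x ∈ M, ∀ y ∈ M, x * y = y * x := fun x hx y hy => hNc x (hMN hx) y (hMN hy)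
    have h1 := Lib.CoprimeAbelian.inf_commutator_eq_bot Z M hMc hZM hcop
    have h2 := Lib.CoprimeAbelian.sup_commutator_eq Z M hMc hZM hcop
    obtain ⟨W, hW⟩ : ∃ W : Subgroup H, W = ⁅M, Z⁆ := ⟨_, rfl⟩
    have hWM : W ≤ M := hW ▸ le_trans le_sup_right h2.le
    have hWne : W ≠ ⊥ := by
      intro h3
      obtain ⟨n, hn, hnA⟩ := hBn
      apply hnA
      refine mem_centralizer_of_hyp hq.out hBA hBi ha haBn hn.2 ?_
      have h4 : ⁅n, a⁆ ∈ W := hW ▸ commutator_mem_commutator (hM ▸ hn) (mem_zpowers a)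
      rw [h3, mem_bot, commutatorElement_def, mul_inv_eq_one, mul_inv_eq_iff_eq_mul] at h4
      exact h4.symm
    -- the actions on `W`
    have hWa : ∀ w ∈ W, MulAut.conj a w ∈ W := by
      intro w hw
      show a * w * a⁻¹ ∈ W
      have h3 : Z ≤ normalizer ((⁅M, Z⁆ : Subgroup H) : Set H) := normalizer_commutator_ge_right M Z
      rw [hW] at hw ⊢
      exact (mem_normalizer_iff.1 (h3 (mem_zpowers a)) w).1 hw
    have hWB : ∀ w ∈ W, ∀ b ∈ B, b * w = w * b := by
      intro w hw b hb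
      have h3 := hWM hw
      rw [hM] at h3
      exact mem_centralizer_iff.1 h3.2 b hb
    have hWτ : ∀ w ∈ W, τ w ∈ W := by
      -- `τ` maps `[M, a]` to `[M, a]`
      have hMτ : ∀ m ∈ M, τ m ∈ M := by
        intro m hm
        rw [hM] at hm ⊢
        refine ⟨hτN m hm.1, mem_centralizer_iff.2 fun b hb => ?_⟩
        have h3 : b ∈ B.map τ.toMonoidHom := by rw [hBτ]; exact hb
        obtain ⟨b', hb', rfl⟩ := h3
        have h4 := congrArg τ (mem_centralizer_iff.1 hm.2 b' hb')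
        rw [map_mul, map_mul] at h4
        exact h4
      have h3 : (⁅M, Z⁆ : Subgroup H).map τ.toMonoidHom ≤ ⁅M, Z⁆ := by
        rw [map_commutator, commutator_le]
        rintro _ ⟨m, hm, rfl⟩ _ ⟨_, ⟨i, rfl⟩, rfl⟩
        show ⁅τ m, τ (a ^ i)⁆ ∈ ⁅M, Z⁆
        have h4 : τ (a ^ i) = (a ^ j) ^ i * b₁ ^ i := by
          rw [map_zpow, hj, Commute.mul_zpow (hAc _ (pow_mem ha j) _ (hBA hb₁))]
        have h5 : ⁅τ m, τ (a ^ i)⁆ = ⁅τ m, (a ^ j) ^ i⁆ := by
          have h6 : Commute (b₁ ^ i) (τ m) := by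
            have h7 := hMτ m hm
            rw [hM] at h7
            exact (show Commute b₁ (τ m) from mem_centralizer_iff.1 h7.2 b₁ hb₁).zpow_left i
          rw [commutatorElement_def, commutatorElement_def, h4]
          have h7 : Commute (b₁ ^ i) (τ m)⁻¹ := h6.inv_right
          calc τ m * ((a ^ j) ^ i * b₁ ^ i) * (τ m)⁻¹ * ((a ^ j) ^ i * b₁ ^ i)⁻¹
              = τ m * (a ^ j) ^ i * (b₁ ^ i * (τ m)⁻¹) * (b₁ ^ i)⁻¹ * ((a ^ j) ^ i)⁻¹ := by group
            _ = τ m * (a ^ j) ^ i * ((τ m)⁻¹ * b₁ ^ i) * (b₁ ^ i)⁻¹ * ((a ^ j) ^ i)⁻¹ := by rw [h7.eq]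
            _ = _ := by group
        rw [h5]
        exact commutator_mem_commutator (hMτ m hm) (zpow_mem (pow_mem (mem_zpowers a) j) i)
      intro w hw
      rw [hW] at hw ⊢
      exact h3 ⟨w, hw, rfl⟩
    have hnt : Nontrivial ↥W := (nontrivial_iff_ne_bot W).2 hWne
    have hfin := pow_dvd_of_aut (s := s) (q := q) (p := p) hp.out (N := ↥W)
      (fun x y => Subtype.ext (hMc x (hWM x.2) y (hWM y.2))) (fun x => Subtype.ext (hNs x (hMN (hWM x.2))))
      (f := resA (MulAut.conj a) W hWa) (t := resA τ W hWτ) ?_ ?_ (j := j) ?_ hjo hpm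
    · exact hfin.trans (card_dvd_of_le (hWM.trans hMN))
    · intro x
      apply Subtype.ext
      rw [resA_pow_coe, ← map_pow, hA.2 a ha, map_one]
      rfl
    · intro x hx
      have h3 : a * x * a⁻¹ = x := congrArg Subtype.val hx
      have h4 : (x : H) ∈ M ⊓ centralizer (Z : Set H) ⊓ ⁅M, Z⁆ := by
        refine ⟨⟨hWM x.2, mem_centralizer_iff.2 ?_⟩, hW ▸ x.2⟩
        rintro _ ⟨i, rfl⟩
        exact ((show Commute a (x : H) from mul_inv_eq_iff_eq_mul.1 h3).zpow_left i).eq
      rw [h1, mem_bot] at h4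
      exact Subtype.ext h4
    · intro x
      apply Subtype.ext
      rw [resA_coe, resA_coe, resA_pow_coe, ← map_pow, MulAut.conj_apply, MulAut.conj_apply, map_mul, map_mul, map_inv, hj,
        resA_coe]
      have h3 : Commute b₁ (τ (x : H)) := hWB _ (hWτ x x.2) b₁ hb₁
      calc a ^ j * b₁ * τ (x : H) * (a ^ j * b₁)⁻¹ = a ^ j * (b₁ * τ (x : H)) * b₁⁻¹ * (a ^ j)⁻¹ := by group
        _ = a ^ j * (τ (x : H) * b₁) * b₁⁻¹ * (a ^ j)⁻¹ := by rw [h3.eq]
        _ = _ := by group
  · -- the orbit of `B`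
    have hinj : Set.InjOn (fun i : ℕ => B.map (τ ^ i).toMonoidHom) (Finset.range p : Set ℕ) := by
      have key : ∀ i i' : ℕ, i < i' → i' < p → B.map (τ ^ i).toMonoidHom = B.map (τ ^ i').toMonoidHom → False := by
        intro i i' hlt hi' h
        apply hBτ
        -- `τ ^ d` fixes `B`
        obtain ⟨d, rfl⟩ := Nat.exists_eq_add_of_lt hlt
        have h1 : B = B.map (τ ^ (d + 1)).toMonoidHom := by
          have h2 : B.map (τ ^ (i + d + 1)).toMonoidHom = (B.map (τ ^ (d + 1)).toMonoidHom).map (τ ^ i).toMonoidHom := by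
            rw [map_map]
            congr 1
            ext x
            show (τ ^ (i + d + 1)) x = (τ ^ i) ((τ ^ (d + 1)) x)
            rw [← MulAut.mul_apply, ← pow_add, add_assoc]
          rw [h2] at h
          exact map_injective (f := (τ ^ i).toMonoidHom) (τ ^ i).injective h
        have h2 : ∀ n : ℕ, B.map (τ ^ ((d + 1) * n)).toMonoidHom = B := by
          intro n
          induction n with
          | zero =>
            ext x
            simp
          | succ n ih =>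
            have h3 : B.map (τ ^ ((d + 1) * (n + 1))).toMonoidHom =
                (B.map (τ ^ (d + 1)).toMonoidHom).map (τ ^ ((d + 1) * n)).toMonoidHom := by
              rw [map_map]
              congr 1
              ext x
              show (τ ^ ((d + 1) * (n + 1))) x = (τ ^ ((d + 1) * n)) ((τ ^ (d + 1)) x)
              rw [← MulAut.mul_apply, ← pow_add, mul_add, mul_one]
            rw [h3, ← h1, ih]
        have hcop : (d + 1).Coprime p := by
          rw [Nat.coprime_comm, Nat.Prime.coprime_iff_not_dvd hp.out]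
          intro h3
          have := Nat.le_of_dvd (by omega) h3
          omega
        obtain ⟨n, hn⟩ : ∃ n : ℕ, (d + 1) * n ≡ 1 [MOD p] := by
          obtain ⟨n, -, hn⟩ := Nat.exists_mul_mod_eq_one_of_coprime hcop hp.out.one_lt
          exact ⟨n, by rw [Nat.ModEq, hn, Nat.mod_eq_of_lt hp.out.one_lt]⟩
        have h3 : ∀ k l : ℕ, k ≡ l [MOD p] → ∀ x ∈ A, (τ ^ k) x = (τ ^ l) x := by
          have h4 : ∀ k : ℕ, ∀ x ∈ A, (τ ^ k) x = (τ ^ (k % p)) x := by
            intro k x hx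
            have h5 : ∀ m : ℕ, ∀ x ∈ A, (τ ^ (p * m)) x = x := by
              intro m
              induction m with
              | zero => intro x _; rfl
              | succ m ih =>
                intro x hx
                rw [mul_add, mul_one, pow_add, MulAut.mul_apply, hτp x hx, ih x hx]
            conv_lhs => rw [← Nat.mod_add_div k p, pow_add, MulAut.mul_apply, h5 _ x hx]
          intro k l hkl x hx
          rw [h4 k x hx, h4 l x hx, hkl]
        ext x
        have h4 := h2 n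
        constructor
        · rintro ⟨y, hy, rfl⟩
          have h5 : (τ ^ ((d + 1) * n)) y ∈ B.map (τ ^ ((d + 1) * n)).toMonoidHom := ⟨y, hy, rfl⟩
          rw [h4, h3 _ _ hn y (hBA hy), pow_one] at h5
          exact h5
        · intro hx
          rw [← h4] at hx
          obtain ⟨y, hy, rfl⟩ := hx
          refine ⟨y, hy, ?_⟩
          show τ y = (τ ^ ((d + 1) * n)) y
          rw [h3 _ _ hn y (hBA hy), pow_one]
      intro i hi i' hi' h
      rcases lt_trichotomy i i' with h1 | h1 | h1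
      · exact (key i i' h1 (Finset.mem_range.1 hi') h).elim
      · exact h1
      · exact (key i' i h1 (Finset.mem_range.1 hi) h.symm).elim
    have h1 := pow_dvd_of_hyps hne hA p N ((Finset.range p).image fun i : ℕ => B.map (τ ^ i).toMonoidHom)
      (by rw [Finset.card_image_of_injOn hinj, Finset.card_range]) hN hNc hAN (by
        intro C hC
        obtain ⟨i, -, rfl⟩ := Finset.mem_image.1 hC
        exact himg i)
    rwa [Finset.card_image_of_injOn hinj, Finset.card_range] at h1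

end Cfsg.Agent.H979.Ccp
end

-- part: H979/Ccp/Sol2
section
/-!
# Invariant Sylow subgroups with a weaker numerical condition (helper979)

* `NumOK2 q n o` : the numerical condition;
* `exists_sylow_inv2`, `exists_sylow2`, `false_of_sylow2`, `false_of_center2` : the theorems of `Sol`, `Two` with `NumOK2`.
-/

set_option autoImplicit false
set_option linter.unusedSectionVars false

namespace Cfsg.Agent.H979.Ccp

open Subgroup Cfsg Cfsg.Agent.H520
open scoped Pointwise

universe u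

/-- the numerical condition -/
def NumOK2 (q n o : ℕ) : Prop := ∀ s p : ℕ, s.Prime → p.Prime → s ∣ o → p ∣ o → s ≠ q → p ≠ q → p ≠ s →
  ¬ s ^ (if p ∣ orderOf (s : ZMod q) then orderOf (q : ZMod p) * orderOf (s : ZMod q) else p * orderOf (s : ZMod q)) ∣ n

theorem NumOK2.mono {q n o n' o' : ℕ} (h : NumOK2 q n o) (hn : n' ∣ n) (ho : o' ∣ o) : NumOK2 q n' o' :=
  fun s p hs hp h1 h2 h3 h4 h5 h6 => h s p hs hp (h1.trans ho) (h2.trans ho) h3 h4 h5 (h6.trans hn)

section

variable {X : Type u} [Group X] [Finite X] {q s : ℕ} [hq : Fact q.Prime] {α : MulAut X} {N : Subgroup X}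

/-- **The step of the induction.** -/
theorem step2 (hZ : ZStarT) (hs : s.Prime) (hqs : s ≠ q) (hccp : CCP α) (hqα : ¬ q ∣ orderOf α)
    (hnum : NumOK2 q (Nat.card X) (orderOf α)) (hNn : N.Normal)
    (hNi : ∀ m ∈ N, α m ∈ N)
    (hmin : ∀ M : Subgroup X, M ≤ N → M ≠ ⊥ → M.Normal → (∀ m ∈ M, α m ∈ M) → M = N)
    (hNab : ∀ x ∈ N, ∀ y ∈ N, x * y = y * x) (hNs : ∀ x ∈ N, x ^ s = 1)
    (hq1 : pCore q X = ⊥) (hX : ∀ (R : Sylow q X) (g : X), ∃ r ∈ (R : Subgroup X), ∃ n ∈ N, g = r * n) :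
    ∃ P : Sylow q X, ∀ m ∈ (P : Subgroup X), α m ∈ (P : Subgroup X) := by
  have : Fact s.Prime := ⟨hs⟩
  obtain ⟨R, c, hcN, hc, hγ⟩ := exists_affine hccp hNi hNab hX
  have hcs := hNs c hcN
  have hγ' : ∀ r ∈ (R : Subgroup X), ((MulAut.conj c)⁻¹ * α) r ∈ (R : Subgroup X) := by
    intro r hr
    rw [gamma_apply]
    exact hγ r hr
  by_cases hRb : (R : Subgroup X) = ⊥
  · refine ⟨R, fun m hm => ?_⟩
    rw [hRb, mem_bot] at hm ⊢
    rw [hm, map_one]
  by_cases hsα : s ∣ orderOf α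
  swap
  · exact ⟨R, zpowers_inv hγ' (mem_zpowers_gamma hc hcs hs (mem_zpowers α) hsα)⟩
  obtain ⟨x, z, hx, hz, hα, hxs, hzs, hzα⟩ := exists_ppart α s
  have hzR : ∀ r ∈ (R : Subgroup X), z r ∈ (R : Subgroup X) := zpowers_inv hγ' (mem_zpowers_gamma hc hcs hs hz hzs)
  have hA : IsPGroup q (om q (R : Subgroup X)) := R.isPGroup'.to_le fun a ha => ha.1
  have hAne := om_ne_bot R.isPGroup' hRb
  -- elements of `R` commuting with `N` and `R`
  have hcen : ∀ a ∈ om q (R : Subgroup X), (∀ n ∈ N, n * a = a * n) → a = 1 := by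
    intro a ha haN
    have h1 : ∀ g : X, g * a = a * g := by
      intro g
      obtain ⟨r, hr, n, hn, rfl⟩ := hX R g
      rw [mul_assoc, haN n hn, ← mul_assoc, ← ha.2.2 r hr, mul_assoc]
    have h2 : (zpowers a).Normal := by
      refine ⟨fun b hb g => ?_⟩
      obtain ⟨i, rfl⟩ := hb
      refine ⟨i, ?_⟩
      show a ^ i = g * a ^ i * g⁻¹
      have h3 : Commute g (a ^ i) := (show Commute g a from h1 g).zpow_right i
      rw [h3.eq, mul_inv_cancel_right]
    have h3 : IsPGroup q (zpowers a) := hA.to_le (zpowers_le.2 ha)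
    have h4 := Lib.Cores.le_pCore h2 h3 (mem_zpowers a)
    rwa [hq1, mem_bot] at h4
  by_cases hzA : ∀ a ∈ om q (R : Subgroup X), z a = a
  · -- `c` commutes with `A`
    have hcA : ∀ a ∈ om q (R : Subgroup X), c * a = a * c := fun a ha =>
      comm_of_fixed hZ hqs hccp hNn hNs R.isPGroup' hcN hc hγ hx hz hα hxs ha.1 (hzA a ha)
    let M : Subgroup X := N ⊓ centralizer (om q (R : Subgroup X) : Set X)
    have hMn : M.Normal := by
      refine ⟨fun m hm g => ⟨hNn.conj_mem m hm.1 g, mem_centralizer_iff.2 fun a ha => ?_⟩⟩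
      obtain ⟨r, hr, n, hn, rfl⟩ := hX R g
      have h1 : r * n * m * (r * n)⁻¹ = r * m * r⁻¹ := by
        have h2 := hNab n hn m hm.1
        calc r * n * m * (r * n)⁻¹ = r * (n * m) * n⁻¹ * r⁻¹ := by group
          _ = _ := by rw [h2]; group
      rw [h1]
      have h2 : Commute a r := ha.2.2 r hr
      have h3 : Commute a m := mem_centralizer_iff.1 hm.2 a ha
      exact ((h2.mul_right h3).mul_right h2.inv_right).eq
    have hMi : ∀ m ∈ M, α m ∈ M := by
      intro m hm
      refine ⟨hNi m hm.1, mem_centralizer_iff.2 fun a ha => ?_⟩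
      have h1 : ∀ b ∈ om q (R : Subgroup X), ((MulAut.conj c)⁻¹ * α) b ∈ om q (R : Subgroup X) := om_inv hγ'
      have h2 := symm_mem_of_inv h1 ha
      obtain ⟨b, hb⟩ : ∃ b, b = ((MulAut.conj c)⁻¹ * α)⁻¹ a := ⟨_, rfl⟩
      rw [← hb] at h2
      have h3 : a = c⁻¹ * α b * c := by
        rw [← gamma_apply, hb, MulAut.apply_inv_self]
      have h4 : Commute b m := mem_centralizer_iff.1 hm.2 b h2
      have h5 : Commute (α b) (α m) := h4.map α
      have h6 : Commute c (α m) := hNab c hcN _ (hNi m hm.1)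
      rw [h3]
      exact ((h6.inv_left.mul_left h5).mul_left h6).eq
    by_cases hMb : M = ⊥
    · have h1 : c ∈ M := ⟨hcN, mem_centralizer_iff.2 fun a ha => (hcA a ha).symm⟩
      rw [hMb, mem_bot] at h1
      refine ⟨R, fun m hm => ?_⟩
      have h2 := hγ m hm
      rwa [h1, inv_one, one_mul, mul_one] at h2
    · exfalso
      have h1 := hmin M inf_le_left hMb hMn hMi
      apply hAne
      rw [eq_bot_iff]
      intro a ha
      refine hcen a ha fun n hn => ?_
      rw [← h1] at hn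
      exact (mem_centralizer_iff.1 hn.2 a ha).symm
  · exfalso
    push Not at hzA
    obtain ⟨a, ha, hza⟩ := hzA
    have hzA : ∀ b ∈ om q (R : Subgroup X), z b ∈ om q (R : Subgroup X) := om_inv hzR
    set σ := resA z (om q (R : Subgroup X)) hzA with hσ
    have hσ1 : σ ≠ 1 := by
      intro h1
      apply hza
      have h2 : (σ ⟨a, ha⟩ : X) = a := by rw [h1]; rfl
      exact h2
    obtain ⟨p, hp, hpσ⟩ := Nat.exists_prime_and_dvd (n := orderOf σ) (fun h1 => hσ1 (orderOf_eq_one_iff.1 h1))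
    have : Fact p.Prime := ⟨hp⟩
    have hpz : p ∣ orderOf z := hpσ.trans (orderOf_resA_dvd z _ hzA)
    have hpα : p ∣ orderOf α := hpz.trans hzα
    have hps : p ≠ s := by
      rintro rfl
      exact hzs hpz
    have hpq : p ≠ q := by
      rintro rfl
      exact hqα hpα
    obtain ⟨y, hy, hyo⟩ := exists_prime_order hp hpσ
    have hAab : IsElementaryAbelian q (om q (R : Subgroup X)) :=
      ⟨⟨⟨fun u v => Subtype.ext (u.2.2.2 v v.2.1)⟩⟩, fun u hu => hu.2.1⟩
    have hAN : om q (R : Subgroup X) ≤ normalizer (N : Set X) := by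
      intro g _
      rw [mem_normalizer_iff]
      intro n
      refine ⟨fun h => hNn.conj_mem n h g, fun h => ?_⟩
      have h3 := hNn.conj_mem _ h g⁻¹
      have e : g⁻¹ * (g * n * g⁻¹) * g⁻¹⁻¹ = n := by group
      rwa [e] at h3
    have hAf : om q (R : Subgroup X) ⊓ centralizer (N : Set X) = ⊥ := by
      rw [eq_bot_iff]
      rintro u ⟨hu, huN⟩
      exact hcen u hu fun n hn => mem_centralizer_iff.1 huN n hn
    have hy1 : y ≠ 1 := by
      rintro rfl
      rw [orderOf_one] at hyo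
      exact hp.one_lt.ne hyo
    have hnum' := hnum s p hs hp hsα hpα hqs hpq hps
    by_cases hpm : p ∣ orderOf (s : ZMod q)
    · rw [if_pos hpm] at hnum'
      have h1 := pow_dvd_of_move (p := p) (q := q) hpq.symm hA (σ := y) ⟨1, by rw [hyo, pow_one]⟩ hy1
      have h2 := pow_dvd_of_faithful (q := q) (s := s) hqs (orderOf (q : ZMod p)) (om q (R : Subgroup X)) N
        hAab (fun u => ⟨1, by
          rw [pow_one]
          exact Subtype.ext (hNs u u.2)⟩) hNab hAN hAf h1
      exact hnum' (h2.trans (card_subgroup_dvd_card N))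
    · rw [if_neg hpm] at hnum'
      obtain ⟨i, rfl⟩ := (mem_powers_iff_mem_zpowers (x := σ) (y := y)).2 hy
      have hzi : ∀ (k : ℕ) (m : ↥(om q (R : Subgroup X))), ((σ ^ k) m : X) = (z ^ k) (m : X) := fun k m => by
        rw [hσ, resA_pow_coe]
      have hzN : ∀ n ∈ N, z n ∈ N := zpowers_inv hNi hz
      have h2 := pow_dvd_of_faithful_move (q := q) (s := s) (p := p) hqs hpm hAab hNs hNab hAN hAf (τ := z ^ i)
        (fun a ha => pow_inv hzA i a ha) (fun n hn => pow_inv hzN i n hn) (fun a ha => by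
          have h3 : ((σ ^ (i * p)) ⟨a, ha⟩ : X) = a := by
            rw [pow_mul]
            have h4 : (σ ^ i) ^ p = 1 := by
              have h5 := pow_orderOf_eq_one (σ ^ i)
              have h6 : orderOf (σ ^ i) = p := hyo
              rwa [h6] at h5
            rw [h4]
            rfl
          rw [hzi] at h3
          rw [← pow_mul]
          exact h3) (by
          by_contra hcon
          push Not at hcon
          apply hy1
          ext m
          show (((σ ^ i) m : ↥(om q (R : Subgroup X))) : X) = m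
          rw [hzi]
          exact hcon m m.2)
      exact hnum' (h2.trans (card_subgroup_dvd_card N))

end

/-- **Invariant Sylow subgroups.** -/
theorem exists_sylow_inv2 (hZ : ZStarT) {q : ℕ} [hq : Fact q.Prime] (n : ℕ) : ∀ (X : Type u) [Group X] [Finite X]
    (α : MulAut X), Nat.card X ≤ n → Group.IsSolvable X → CCP α → ¬ q ∣ orderOf α →
    NumOK2 q (Nat.card X) (orderOf α) → ∃ P : Sylow q X, ∀ m ∈ (P : Subgroup X), α m ∈ (P : Subgroup X) := by
  induction n with
  | zero =>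
    intro X _ _ α hn
    exact absurd hn (by have := Nat.card_pos (α := X); omega)
  | succ n ih =>
    intro X _ _ α hn hs hccp hqα hnum
    have hcq : ∀ (M : Subgroup X) [M.Normal], M ≠ ⊥ → Nat.card (X ⧸ M) ≤ n := by
      intro M _ hM
      have h1 := M.card_eq_card_quotient_mul_card_subgroup
      have h2 : 1 < Nat.card M := (one_lt_card_iff_ne_bot M).2 hM
      have h3 : 0 < Nat.card (X ⧸ M) := Nat.card_pos
      have h4 : Nat.card (X ⧸ M) * 2 ≤ Nat.card X := by
        rw [h1]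
        exact Nat.mul_le_mul_left _ h2
      omega
    have hquo : ∀ (M : Subgroup X) [M.Normal], M ≠ ⊥ → ∀ hMi : (∀ m ∈ M, α m ∈ M),
        ∃ P : Sylow q (X ⧸ M), ∀ m ∈ (P : Subgroup (X ⧸ M)), quoA α M hMi m ∈ (P : Subgroup (X ⧸ M)) := by
      intro M _ hM hMi
      have h1 := orderOf_quoA_dvd α M hMi
      exact ih (X ⧸ M) (quoA α M hMi) (hcq M hM) inferInstance (hccp.quo M hMi) (fun h2 => hqα (h2.trans h1))
        (hnum.mono (card_quotient_dvd_card M) h1)
    by_cases hq1 : pCore q X = ⊥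
    swap
    · have hn1 := Lib.Cores.pCore_normal (G := X) q
      have hMi : ∀ m ∈ pCore q X, α m ∈ pCore q X := by
        have hch : (pCore q X).Characteristic := Lib.Cores.pCore_characteristic q
        intro m hm
        have h1 := characteristic_iff_map_le.1 hch α
        exact h1 ⟨m, hm, rfl⟩
      exact lift_quot (Lib.Cores.pCore_isPGroup q) hMi (hquo _ hq1 hMi)
    by_cases hX1 : Subsingleton X
    · refine ⟨default, fun m hm => ?_⟩
      rwa [Subsingleton.elim (α m) m]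
    have hX2 : Nontrivial X := not_subsingleton_iff_nontrivial.1 hX1
    -- a minimal invariant normal subgroup
    obtain ⟨N, ⟨hNb, hNn, hNi⟩, hmin⟩ : ∃ N : Subgroup X, (N ≠ ⊥ ∧ N.Normal ∧ ∀ m ∈ N, α m ∈ N) ∧
        ∀ M : Subgroup X, M ≤ N → M ≠ ⊥ → M.Normal → (∀ m ∈ M, α m ∈ M) → M = N := by
      let S : Set (Subgroup X) := {N | N ≠ ⊥ ∧ N.Normal ∧ ∀ m ∈ N, α m ∈ N}
      have hS : S.Nonempty := ⟨⊤, top_ne_bot, inferInstance, fun _ _ => mem_top _⟩
      obtain ⟨N, hN⟩ := (Set.toFinite S).exists_minimal hS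
      refine ⟨N, hN.prop, fun M hM h1 h2 h3 => ?_⟩
      exact hN.eq_of_le ⟨h1, h2, h3⟩ hM
    obtain ⟨s, hsp, hNab, hNs⟩ := min_elem hs hNb hNn hNi hmin
    have hqs : s ≠ q := by
      rintro rfl
      have h1 : IsPGroup s N := fun x => ⟨1, by
        rw [pow_one]
        exact Subtype.ext (hNs x x.2)⟩
      have h2 := Lib.Cores.le_pCore hNn h1
      rw [hq1] at h2
      exact hNb (le_bot_iff.1 h2)
    obtain ⟨P, hP⟩ := hquo N hNb hNi
    obtain ⟨Y, hY⟩ : ∃ Y : Subgroup X, Y = (P : Subgroup (X ⧸ N)).comap (QuotientGroup.mk' N) := ⟨_, rfl⟩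
    have hYidx : Y.index = (P : Subgroup (X ⧸ N)).index := by
      rw [hY]
      exact index_comap_of_surjective _ (QuotientGroup.mk'_surjective N)
    have hYq : ¬ q ∣ Y.index := by
      rw [hYidx]
      exact P.not_dvd_index
    by_cases hYt : Y = ⊤
    · -- `X/N` is a `q`-group
      have hPt : (P : Subgroup (X ⧸ N)) = ⊤ := by
        rw [← index_eq_one, ← hYidx, hYt, index_top]
      have hXN : IsPGroup q (X ⧸ N) := by
        have h1 := P.isPGroup'
        rw [hPt] at h1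
        exact h1.of_equiv topEquiv
      refine step2 hZ hsp hqs hccp hqα hnum hNn hNi hmin hNab hNs hq1 fun R g => ?_
      have h1 : (R : Subgroup X) ⊔ N = ⊤ := by
        rw [← index_eq_one]
        obtain ⟨k, hk⟩ := IsPGroup.iff_card.1 hXN
        have h2 : ((R : Subgroup X) ⊔ N).index ∣ q ^ k := by
          rw [← hk]
          exact index_dvd_of_le (le_sup_right : N ≤ (R : Subgroup X) ⊔ N)
        obtain ⟨j, -, hj⟩ := (Nat.dvd_prime_pow hq.out).1 h2
        by_cases hj0 : j = 0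
        · rw [hj, hj0, pow_zero]
        · exfalso
          apply R.not_dvd_index
          have h3 : ((R : Subgroup X) ⊔ N).index ∣ (R : Subgroup X).index := index_dvd_of_le le_sup_left
          exact (dvd_pow_self q hj0).trans (hj ▸ h3)
      have h2 : g ∈ ((R : Subgroup X) ⊔ N : Subgroup X) := by rw [h1]; trivial
      rw [← SetLike.mem_coe, mul_normal] at h2
      obtain ⟨r, hr, n, hn, e⟩ := h2
      exact ⟨r, hr, n, hn, e.symm⟩
    · have hYi : ∀ m ∈ Y, α m ∈ Y := by
        rw [hY]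
        intro m hm
        exact hP _ hm
      have h1 := orderOf_resA_dvd α Y hYi
      refine lift_sub hYq hYi (ih Y (resA α Y hYi) ?_ inferInstance (hccp.res Y hYi) (fun h2 => hqα (h2.trans h1))
        (hnum.mono (card_subgroup_dvd_card Y) h1))
      have h2 : Nat.card Y < Nat.card X := by
        have h3 := Y.card_mul_index
        have h4 : Y.index ≠ 1 := fun h5 => hYt (index_eq_one.1 h5)
        have h5 : 0 < Nat.card Y := Nat.card_pos
        have h6 : Y.index ≠ 0 := index_ne_zero_of_finite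
        rw [← h3]
        exact lt_mul_of_one_lt_right h5 (by omega)
      omega

section two

variable {G : Type u} [Group G] [Finite G] {α : MulAut G}

/-- **`α` normalises a Sylow `q`-subgroup**, if the `q`-part of `α` is a nontrivial inner automorphism. -/
theorem exists_sylow2 (h : Cfg α) (hodd : Odd (Nat.card (fixA α))) {q : ℕ} [hq : Fact q.Prime]
    (hnum : NumOK2 q (Nat.card G) (orderOf α)) {u : G} {z : MulAut G} (hu : MulAut.conj u ∈ zpowers α)
    (hz : z ∈ zpowers α) (hα : α = z * MulAut.conj u) (huq : ∃ k : ℕ, orderOf (MulAut.conj u) = q ^ k)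
    (hzq : ¬ q ∣ orderOf z) (hu1 : u ≠ 1) :
    ∃ T : Sylow q G, ∀ m ∈ (T : Subgroup G), α m ∈ (T : Subgroup G) := by
  have hcb := h.center_bot
  have hαu := fix_of_mem h hu
  -- `u` is a `q`-element
  have hupow : ∃ k : ℕ, u ^ q ^ k = 1 := by
    obtain ⟨k, hk⟩ := huq
    refine ⟨k, ?_⟩
    apply conj_inj hcb
    rw [map_pow, ← hk, pow_orderOf_eq_one, map_one]
  let S : Set (Subgroup G) := {U | IsPGroup q U ∧ u ∈ U ∧ ∀ m ∈ U, α m ∈ U}
  have hS : S.Nonempty := by
    refine ⟨zpowers u, ?_, mem_zpowers u, ?_⟩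
    · rintro ⟨_, i, rfl⟩
      obtain ⟨k, hk⟩ := hupow
      refine ⟨k, Subtype.ext ?_⟩
      show (u ^ i) ^ q ^ k = 1
      rw [← zpow_natCast, ← zpow_mul, mul_comm, zpow_mul, zpow_natCast, hk, one_zpow]
    · rintro _ ⟨i, rfl⟩
      refine ⟨i, ?_⟩
      show u ^ i = α (u ^ i)
      rw [map_zpow, hαu]
  obtain ⟨U, hU⟩ := (Set.toFinite S).exists_maximal hS
  obtain ⟨hUq, huU, hUi⟩ := hU.prop
  have hUb : U ≠ ⊥ := by
    rintro rfl
    exact hu1 (mem_bot.1 huU)
  have hNi := normalizer_inv hUi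
  have hNt : normalizer (U : Set G) ≠ ⊤ := by
    intro h1
    have h2 : U.Normal := normalizer_eq_top_iff.1 h1
    have := h.sim
    rcases h2.eq_bot_or_eq_top with h3 | h3
    · exact hUb h3
    · rw [h3] at hUq
      exact not_pgroup h (hUq.of_equiv topEquiv)
  have hNs := solvable_of_inv h hodd hNt hNi
  set N := normalizer (U : Set G) with hN
  have hUN : U ≤ N := le_normalizer
  have hVn : (U.subgroupOf N).Normal := by
    rw [hN]
    exact normal_in_normalizer
  set V : Subgroup ↥N := U.subgroupOf N with hV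
  set β := resA α N hNi with hβ
  have hVi : ∀ m ∈ V, β m ∈ V := by
    intro m hm
    rw [hV, mem_subgroupOf] at hm ⊢
    exact hUi _ hm
  -- the order of the automorphism of `N/U`
  have hord : ¬ q ∣ orderOf (quoA β V hVi) := by
    intro hd
    apply hzq
    refine hd.trans ?_
    apply orderOf_dvd_of_pow_eq_one
    ext w
    obtain ⟨m, rfl⟩ := QuotientGroup.mk_surjective w
    rw [quoA_pow_mk, MulAut.one_apply]
    -- `α ^ n = conj (u ^ n)`
    have h1 : α ^ orderOf z = MulAut.conj (u ^ orderOf z) := by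
      have h2 : Commute z (MulAut.conj u) := Cfg.comm_zpowers hz hu
      rw [hα, h2.mul_pow, pow_orderOf_eq_one, one_mul, map_pow]
    have h2 : (((β ^ orderOf z) m : ↥N) : G) = u ^ orderOf z * m * (u ^ orderOf z)⁻¹ := by
      rw [hβ, resA_pow_coe, h1]
      rfl
    rw [eq_comm, QuotientGroup.eq, hV, mem_subgroupOf, coe_mul, coe_inv, h2]
    have h3 : u ^ orderOf z ∈ U := pow_mem huU _
    have h4 : (m : G)⁻¹ * u ^ orderOf z * m ∈ U := by
      have h5 := (mem_normalizer_iff''.1 m.2 (u ^ orderOf z)).1 h3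
      exact h5
    have h5 := mul_mem h4 (inv_mem h3)
    have e : (m : G)⁻¹ * (u ^ orderOf z * m * (u ^ orderOf z)⁻¹) = (m : G)⁻¹ * u ^ orderOf z * m * (u ^ orderOf z)⁻¹ := by
      group
    rw [e]
    exact h5
  have hd1 : Nat.card (↥N ⧸ V) ∣ Nat.card G := (card_quotient_dvd_card V).trans (card_subgroup_dvd_card N)
  have hd2 : orderOf (quoA β V hVi) ∣ orderOf α := (orderOf_quoA_dvd β V hVi).trans (orderOf_resA_dvd α N hNi)
  obtain ⟨P, hP⟩ := exists_sylow_inv2 h.zst (q := q) _ (↥N ⧸ V) (quoA β V hVi) le_rfl inferInstance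
    ((h.ccp.res N hNi).quo V hVi) hord (hnum.mono hd1 hd2)
  -- the preimage
  have h1 : IsPGroup q ↥((P : Subgroup (↥N ⧸ V)).comap (QuotientGroup.mk' V)) :=
    P.isPGroup'.comap_of_ker_isPGroup _ (by
      rw [QuotientGroup.ker_mk']
      exact hUq.comap_of_injective N.subtype N.subtype_injective)
  obtain ⟨W, hW⟩ : ∃ W : Subgroup G, W = ((P : Subgroup (↥N ⧸ V)).comap (QuotientGroup.mk' V)).map N.subtype := ⟨_, rfl⟩
  have hWU : U = W := by
    have h2 : W ∈ S := by
      refine ⟨hW ▸ h1.map _, ?_, ?_⟩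
      · rw [hW]
        refine ⟨⟨u, hUN huU⟩, ?_, rfl⟩
        have h3 : (QuotientGroup.mk' V) ⟨u, hUN huU⟩ = 1 := (QuotientGroup.eq_one_iff _).2 (mem_subgroupOf.2 huU)
        show (QuotientGroup.mk' V) ⟨u, hUN huU⟩ ∈ (P : Subgroup (↥N ⧸ V))
        rw [h3]
        exact one_mem _
      · rw [hW]
        rintro _ ⟨m, hm, rfl⟩
        refine ⟨β m, ?_, rfl⟩
        have h3 := hP _ hm
        exact h3
    refine hU.eq_of_le h2 ?_
    intro m hm
    rw [hW]
    refine ⟨⟨m, hUN hm⟩, ?_, rfl⟩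
    have h3 : (QuotientGroup.mk' V) ⟨m, hUN hm⟩ = 1 := (QuotientGroup.eq_one_iff _).2 (mem_subgroupOf.2 hm)
    show (QuotientGroup.mk' V) ⟨m, hUN hm⟩ ∈ (P : Subgroup (↥N ⧸ V))
    rw [h3]
    exact one_mem _
  have hPV : (P : Subgroup (↥N ⧸ V)).comap (QuotientGroup.mk' V) = V := by
    have h2 : V.map N.subtype = U := by rw [hV, subgroupOf_map_subtype, inf_eq_left.2 hUN]
    apply map_injective N.subtype_injective
    rw [h2, ← hW, ← hWU]
  have hidx : ¬ q ∣ Nat.card (↥N ⧸ V) := by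
    rw [← index_eq_card, ← hPV, index_comap_of_surjective _ (QuotientGroup.mk'_surjective V)]
    exact P.not_dvd_index
  -- `U` is a Sylow subgroup
  obtain ⟨k, hk⟩ := IsPGroup.iff_card.1 hUq
  have h2 : Nat.card (↥N ⧸ V) ≡ Nat.card (G ⧸ U) [MOD q] := Sylow.card_quotient_normalizer_modEq_card_quotient hk
  have h3 : ¬ q ∣ U.index := by
    intro h4
    apply hidx
    rw [index_eq_card] at h4
    exact (h2.dvd_iff dvd_rfl).2 h4
  exact ⟨hUq.toSylow h3, hUi⟩

/-- **The contradiction.** -/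
theorem false_of_sylow2 (h : Cfg α) (hodd : Odd (Nat.card (fixA α))) {q : ℕ} [hq : Fact q.Prime]
    (hnum : NumOK2 q (Nat.card G) (orderOf α)) (hqα : q ∣ orderOf α)
    (hinn : ∀ x : MulAut G, x ∈ zpowers α → (∃ k : ℕ, orderOf x = q ^ k) → ∃ u : G, x = MulAut.conj u)
    (T₀ : Sylow q G) (Y₀ : Subgroup G) (hYt : Y₀ ≠ ⊤) (hYs : ¬ Group.IsSolvable Y₀)
    (hY : ∀ β : MulAut G, (∀ m ∈ (T₀ : Subgroup G), β m ∈ (T₀ : Subgroup G)) → ∀ m ∈ Y₀, β m ∈ Y₀) : False := by
  obtain ⟨x, z, hx, hz, hα, hxs, hzs, hzα⟩ := exists_ppart α q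
  obtain ⟨u, rfl⟩ := hinn x hx hxs
  have hu1 : u ≠ 1 := by
    rintro rfl
    rw [map_one, mul_one] at hα
    rw [hα] at hqα
    exact hzs hqα
  obtain ⟨T, hT⟩ := exists_sylow2 h hodd hnum hx hz hα hxs hzs hu1
  obtain ⟨g, rfl⟩ := MulAction.exists_smul_eq G T₀ T
  -- the conjugate of `Y₀`
  have hmem : ∀ m : G, m ∈ ((g • T₀ : Sylow q G) : Subgroup G) ↔ g⁻¹ * m * g ∈ (T₀ : Subgroup G) := by
    intro m
    rw [Sylow.coe_subgroup_smul, mem_pointwise_smul_iff_inv_smul_mem, ← map_inv, MulAut.smul_def,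
      MulAut.conj_apply, inv_inv]
  let β : MulAut G := (MulAut.conj g)⁻¹ * α * MulAut.conj g
  have hβ : ∀ m, β m = g⁻¹ * α (g * m * g⁻¹) * g := by
    intro m
    show ((MulAut.conj g)⁻¹ * α * MulAut.conj g) m = _
    rw [← map_inv, MulAut.mul_apply, MulAut.mul_apply, MulAut.conj_apply, MulAut.conj_apply, inv_inv]
  have hβT : ∀ m ∈ (T₀ : Subgroup G), β m ∈ (T₀ : Subgroup G) := by
    intro m hm
    have h1 : g * m * g⁻¹ ∈ ((g • T₀ : Sylow q G) : Subgroup G) := by
      rw [hmem]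
      have e : g⁻¹ * (g * m * g⁻¹) * g = m := by group
      rwa [e]
    have h2 := hT _ h1
    rw [hmem] at h2
    rw [hβ]
    exact h2
  have hβY := hY β hβT
  let Y : Subgroup G := Y₀.map (MulAut.conj g).toMonoidHom
  have hYi : ∀ m ∈ Y, α m ∈ Y := by
    rintro _ ⟨m, hm, rfl⟩
    refine ⟨β m, hβY m hm, ?_⟩
    show g * β m * g⁻¹ = α (g * m * g⁻¹)
    rw [hβ]
    group
  have hYt' : Y ≠ ⊤ := by
    intro h1
    apply hYt
    have h2 : Nat.card Y = Nat.card Y₀ := card_map_of_injective (f := (MulAut.conj g).toMonoidHom) (MulAut.conj g).injective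
    rw [h1, card_top] at h2
    exact Subgroup.eq_top_of_card_eq _ h2.symm
  have h1 := solvable_of_inv h hodd hYt' hYi
  apply hYs
  exact Group.isSolvable_of_isSolvable_injective
    (f := (Y₀.equivMapOfInjective (MulAut.conj g).toMonoidHom (MulAut.conj g).injective).toMonoidHom)
    (MulEquiv.injective _)

/-- **The contradiction**, with the centralizer of the center of a Sylow subgroup. -/
theorem false_of_center2 (h : Cfg α) (hodd : Odd (Nat.card (fixA α))) {q : ℕ} [hq : Fact q.Prime]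
    (hnum : NumOK2 q (Nat.card G) (orderOf α)) (hqα : q ∣ orderOf α)
    (hinn : ∀ x : MulAut G, x ∈ zpowers α → (∃ k : ℕ, orderOf x = q ^ k) → ∃ u : G, x = MulAut.conj u)
    (T₀ : Sylow q G) {w : G} (hw : ∀ t ∈ (T₀ : Subgroup G), (∀ r ∈ (T₀ : Subgroup G), r * t = t * r) → t ∈ zpowers w)
    (hs : ¬ Group.IsSolvable ↥(centralizer ({w} : Set G))) : False := by
  -- `q` divides `|G|`
  have hqG : q ∣ Nat.card G := by
    obtain ⟨x, z, hx, hz, hα, hxs, hzs, hzα⟩ := exists_ppart α q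
    obtain ⟨u, rfl⟩ := hinn x hx hxs
    obtain ⟨k, hk⟩ := hxs
    have hk0 : k ≠ 0 := by
      rintro rfl
      rw [pow_zero, orderOf_eq_one_iff] at hk
      rw [hk, mul_one] at hα
      rw [hα] at hqα
      exact hzs hqα
    have h1 : orderOf (MulAut.conj u) ∣ orderOf u := orderOf_map_dvd MulAut.conj u
    rw [hk] at h1
    exact (dvd_pow_self q hk0).trans (h1.trans (orderOf_dvd_natCard u))
  let C : Subgroup G := (T₀ : Subgroup G) ⊓ centralizer ((T₀ : Subgroup G) : Set G)
  have hCw : C ≤ zpowers w := by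
    rintro t ⟨ht, htc⟩
    exact hw t ht fun r hr => mem_centralizer_iff.1 htc r hr
  refine false_of_sylow2 h hodd hnum hqα hinn T₀ (centralizer (C : Set G)) ?_ ?_ ?_
  · intro h1
    have h2 : C ≤ center G := by
      intro c hc
      rw [mem_center_iff]
      intro g
      have h3 : g ∈ centralizer (C : Set G) := by rw [h1]; trivial
      exact (mem_centralizer_iff.1 h3 c hc).symm
    rw [h.center_bot] at h2
    have h3 : Nontrivial (T₀ : Subgroup G) := by
      rw [nontrivial_iff_ne_bot]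
      intro h4
      have h5 := T₀.dvd_card_of_dvd_card hqG
      rw [h4, card_bot] at h5
      exact hq.out.one_lt.ne' (Nat.dvd_one.1 h5)
    have h4 := T₀.isPGroup'.center_nontrivial
    obtain ⟨c, hc⟩ := exists_ne (1 : center (T₀ : Subgroup G))
    apply hc
    apply Subtype.ext
    apply Subtype.ext
    have h4 : ((c : (T₀ : Subgroup G)) : G) ∈ C := by
      refine ⟨(c : (T₀ : Subgroup G)).2, mem_centralizer_iff.2 fun r hr => ?_⟩
      exact congrArg Subtype.val (mem_center_iff.1 c.2 ⟨r, hr⟩)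
    exact mem_bot.1 (h2 h4)
  · intro h1
    apply hs
    have h2 : centralizer ({w} : Set G) ≤ centralizer (C : Set G) := by
      intro g hg
      refine mem_centralizer_iff.2 fun c hc => ?_
      obtain ⟨i, hi⟩ := hCw hc
      have h3 : Commute g w := mem_centralizer_singleton_iff.1 hg
      have h4 : w ^ i = c := hi
      rw [← h4]
      exact (h3.zpow_right i).symm.eq
    exact Group.isSolvable_of_isSolvable_injective (f := inclusion h2) (inclusion_injective h2)
  · intro β hβ m hm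
    refine mem_centralizer_iff.2 fun c hc => ?_
    -- `β⁻¹ c` lies in `C`
    have h1 : β⁻¹ c ∈ C := by
      refine ⟨symm_mem_of_inv hβ hc.1, mem_centralizer_iff.2 fun r hr => ?_⟩
      have h2 := mem_centralizer_iff.1 hc.2 (β r) (hβ r hr)
      apply β.injective
      rw [map_mul, map_mul, MulAut.apply_inv_self]
      exact h2
    have h2 := congrArg β (mem_centralizer_iff.1 hm _ h1)
    rwa [map_mul, map_mul, MulAut.apply_inv_self] at h2

end two

end Cfsg.Agent.H979.Ccp
end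

-- part: H979/Ccp/Cube
section
/-!
# Automorphisms of abelian groups of order `p ^ 3` (helper979)

* `comm_of_cube` : `R` abelian of order `p ^ 3`, `P` a 2-group of automorphisms normalised by `ρ` of 3-power order
  without fixed points on `P`: `P` is abelian;
* `real_sq` : an element of `C_G(α)` inverted in `G` has order at most 2, if `|C_G(α)|` is odd;
* `false_of_sq` : the `q`-part of `α`, Sylow `q`-subgroups abelian of order `q ^ 2`;
* `false_of_cube` : `α` normalises an abelian Sylow `p`-subgroup of order `p ^ 3`.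
-/

set_option autoImplicit false
set_option linter.unusedSectionVars false

namespace Cfsg.Agent.H979.Ccp

open Subgroup Cfsg Cfsg.Agent.H520
open scoped Pointwise

universe u

section aut

variable {R : Type u} [Group R] [Finite R]

/-- elementary abelian 2-groups of automorphisms of an abelian group of order `p ^ 3` -/
theorem not_sixteen {p : ℕ} [hp : Fact p.Prime] (hp2 : p ≠ 2) (hRc : ∀ a b : R, a * b = b * a)
    (hcard : Nat.card R = p ^ 3) {E : Subgroup (MulAut R)} (hE : IsElementaryAbelian 2 E) : ¬ 2 ^ 4 ∣ Nat.card E := by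
  intro hd
  have h2 : Fact (Nat.Prime 2) := ⟨Nat.prime_two⟩
  let H := SemidirectProduct R (MulAut R) (MonoidHom.id (MulAut R))
  have hfin : Finite H := Finite.of_equiv _ SemidirectProduct.equivProd.symm
  let N : Subgroup H := (SemidirectProduct.inl : R →* H).range
  let A : Subgroup H := E.map (SemidirectProduct.inr : MulAut R →* H)
  have hNc : Nat.card N = p ^ 3 := by
    rw [← hcard]
    exact (Nat.card_congr (MonoidHom.ofInjective (SemidirectProduct.inl_injective (N := R) (G := MulAut R)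
      (φ := MonoidHom.id (MulAut R)))).toEquiv).symm
  have hAc : Nat.card A = Nat.card E := card_map_of_injective SemidirectProduct.inr_injective
  have hact : ∀ (g : MulAut R) (r : R), (SemidirectProduct.inr g : H) * SemidirectProduct.inl r *
      (SemidirectProduct.inr g : H)⁻¹ = SemidirectProduct.inl (g r) := by
    intro g r
    have h1 := SemidirectProduct.inl_aut (φ := MonoidHom.id (MulAut R)) g r
    rw [← map_inv]
    exact h1.symm
  have h1 := pow_dvd_of_faithful (q := 2) (s := p) hp2 4 A N ⟨?_, ?_⟩ (IsPGroup.of_card hNc) ?_ ?_ ?_ (by rwa [hAc])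
  · rw [hNc] at h1
    have h3 : 1 ≤ orderOf (p : ZMod 2) := by
      have h4 : (p : ZMod 2) = 1 := by
        have h5 := hp.out.eq_two_or_odd'.resolve_left hp2
        exact (ZMod.natCast_eq_one_iff_odd).2 h5
      rw [h4, orderOf_one]
    have h4 := (Nat.pow_dvd_pow_iff_le_right hp.out.one_lt).1 h1
    omega
  · refine ⟨⟨?_⟩⟩
    rintro ⟨_, a, ha, rfl⟩ ⟨_, b, hb, rfl⟩
    apply Subtype.ext
    show (SemidirectProduct.inr a : H) * SemidirectProduct.inr b = SemidirectProduct.inr b * SemidirectProduct.inr a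
    rw [← map_mul, ← map_mul]
    congr 1
    exact congrArg Subtype.val (hE.1.is_comm.comm (⟨a, ha⟩ : ↥E) ⟨b, hb⟩)
  · rintro _ ⟨a, ha, rfl⟩
    rw [← map_pow, hE.2 a ha, map_one]
  · rintro _ ⟨a, rfl⟩ _ ⟨b, rfl⟩
    rw [← map_mul, ← map_mul, hRc]
  · rintro _ ⟨a, ha, rfl⟩
    rw [mem_normalizer_iff]
    intro n
    have key : ∀ (a : MulAut R) (n : H), n ∈ N → (SemidirectProduct.inr a : H) * n * (SemidirectProduct.inr a : H)⁻¹ ∈ N := by
      rintro a _ ⟨r, rfl⟩
      rw [hact]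
      exact ⟨_, rfl⟩
    refine ⟨key a n, fun h5 => ?_⟩
    have h6 := key a⁻¹ _ h5
    have e : (SemidirectProduct.inr a⁻¹ : H) * (SemidirectProduct.inr a * n * (SemidirectProduct.inr a : H)⁻¹) *
        (SemidirectProduct.inr a⁻¹ : H)⁻¹ = n := by
      rw [map_inv]
      group
    rwa [e] at h6
  · rw [eq_bot_iff]
    rintro _ ⟨⟨a, ha, rfl⟩, hc⟩
    rw [mem_bot]
    have h3 : a = 1 := by
      ext r
      have h4 := mem_centralizer_iff.1 hc (SemidirectProduct.inl r) ⟨r, rfl⟩
      have h5 := hact a r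
      rw [← h4, mul_inv_cancel_right] at h5
      exact (SemidirectProduct.inl_injective h5).symm
    rw [h3, map_one]

/-- `|C_R(ρ e ρ⁻¹)| = |C_R(e)|` -/
theorem card_fixA_conj (ρ e : MulAut R) : Nat.card (fixA (ρ * e * ρ⁻¹)) = Nat.card (fixA e) := by
  have h1 : (fixA e).map ρ.toMonoidHom = fixA (ρ * e * ρ⁻¹) := by
    ext r
    constructor
    · rintro ⟨s, hs, rfl⟩
      show (ρ * e * ρ⁻¹) (ρ s) = ρ s
      have hs' : e s = s := hs
      rw [MulAut.mul_apply, MulAut.mul_apply, MulAut.inv_apply_self, hs']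
    · intro hr
      refine ⟨ρ⁻¹ r, ?_, MulAut.apply_inv_self R ρ r⟩
      show e (ρ⁻¹ r) = ρ⁻¹ r
      have hr' : (ρ * e * ρ⁻¹) r = r := hr
      apply ρ.injective
      rw [MulAut.apply_inv_self]
      exact hr'
  rw [← h1]
  exact card_map_of_injective (f := ρ.toMonoidHom) ρ.injective

/-- **2-groups of automorphisms of an abelian group of order `p ^ 3`.** -/
theorem comm_of_cube {p : ℕ} [hp : Fact p.Prime] (hp2 : p ≠ 2) (hRc : ∀ a b : R, a * b = b * a)
    (hcard : Nat.card R = p ^ 3) {P : Subgroup (MulAut R)} (hP : IsPGroup 2 P) {ρ : MulAut R}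
    (hρP : ∀ g ∈ P, MulAut.conj ρ g ∈ P) (hρ3 : ∃ k, ∀ g ∈ P, (MulAut.conj ρ ^ 3 ^ k) g = g)
    (hfix : ∀ g ∈ P, MulAut.conj ρ g = g → g = 1) : ∀ g ∈ P, ∀ h ∈ P, g * h = h * g := by
  classical
  have h2 : Fact (Nat.Prime 2) := ⟨Nat.prime_two⟩
  have h3 : Fact (Nat.Prime 3) := ⟨Nat.prime_three⟩
  have hfinA : Finite (MulAut R) := inferInstance
  by_cases hPb : P = ⊥
  · intro g hg h hh
    rw [hPb, mem_bot] at hg hh
    rw [hg, hh]
  obtain ⟨E, hE⟩ : ∃ E, E = om 2 P := ⟨_, rfl⟩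
  have hEne : E ≠ ⊥ := hE ▸ om_ne_bot hP hPb
  have hEP : ∀ e ∈ E, e ∈ P := fun e he => (hE ▸ he : e ∈ om 2 P).1
  have hEsq : ∀ e ∈ E, e ^ 2 = 1 := fun e he => (hE ▸ he : e ∈ om 2 P).2.1
  have hEc : ∀ e ∈ E, ∀ g ∈ P, e * g = g * e := fun e he => (hE ▸ he : e ∈ om 2 P).2.2
  have hEi : ∀ e ∈ E, MulAut.conj ρ e ∈ E := by
    intro e he
    rw [hE] at he ⊢
    exact om_inv hρP e he
  have hEab : IsElementaryAbelian 2 E := ⟨⟨⟨fun u v => Subtype.ext (hEc u u.2 v (hEP v v.2))⟩⟩, hEsq⟩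
  -- the order of `E`
  have hE4 : Nat.card E = 4 := by
    have h4 := card_fixA_modEq (p := 3) (σ := resA (MulAut.conj ρ) E hEi) (by
      obtain ⟨k, hk⟩ := hρ3
      apply exists_pow_order (p := 3) (j := k)
      ext e
      rw [resA_pow_coe, hk _ (hEP e e.2)]
      rfl)
    have h5 : fixA (resA (MulAut.conj ρ) E hEi) = ⊥ := by
      rw [eq_bot_iff]
      intro e he
      have h6 : MulAut.conj ρ (e : MulAut R) = e := congrArg Subtype.val he
      exact Subtype.ext (hfix e (hEP e e.2) h6)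
    rw [h5, card_bot] at h4
    obtain ⟨r, hr⟩ := IsPGroup.iff_card.1 (hP.to_le hEP)
    have h6 : r ≤ 3 := by
      by_contra h7
      exact not_sixteen hp2 hRc hcard hEab (hr ▸ pow_dvd_pow 2 (by omega))
    have h7 : r ≠ 0 := by
      rintro rfl
      rw [pow_zero] at hr
      exact hEne (card_eq_one.1 hr)
    rw [hr] at h4 ⊢
    interval_cases r
    · exact absurd rfl h7
    · exact absurd h4 (by decide)
    · rfl
    · exact absurd h4 (by decide)
  -- the elements
  obtain ⟨e, he, he1⟩ : ∃ e ∈ E, e ≠ 1 := by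
    by_contra hcon
    push Not at hcon
    exact hEne ((eq_bot_iff_forall _).2 hcon)
  obtain ⟨f, hf⟩ : ∃ f, f = MulAut.conj ρ e := ⟨_, rfl⟩
  have hfE : f ∈ E := hf ▸ hEi e he
  have hfe : f ≠ e := by
    intro h4
    exact he1 (hfix e (hEP e he) (hf ▸ h4))
  have hf1 : f ≠ 1 := by
    intro h4
    rw [hf] at h4
    exact he1 ((MulAut.conj ρ).injective (by rw [h4, map_one]))
  have hee : e * e = 1 := by rw [← pow_two, hEsq e he]
  have hff : f * f = 1 := by rw [← pow_two, hEsq f hfE]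
  have hef : e * f = f * e := hEc e he f (hEP f hfE)
  have hef1 : e * f ≠ 1 := by
    intro h4
    apply hfe
    calc f = (e * e) * f := by rw [hee, one_mul]
      _ = e := by rw [mul_assoc, h4, mul_one]
  -- the third element
  have hg : MulAut.conj ρ f = e * f := by
    have h4 : MulAut.conj ρ f ∈ E := hEi f hfE
    by_contra hne
    have h5 : MulAut.conj ρ f ≠ 1 := by
      intro h6
      exact hf1 ((MulAut.conj ρ).injective (by rw [h6, map_one]))
    have h6 : MulAut.conj ρ f ≠ f := fun h6 => hf1 (hfix f (hEP f hfE) h6)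
    have h7 : MulAut.conj ρ f ≠ e := by
      intro h7
      apply hef1
      apply hfix _ (mul_mem (hEP e he) (hEP f hfE))
      rw [map_mul, ← hf, h7, hef]
    have h8 : ({1, e, f, e * f, MulAut.conj ρ f} : Finset (MulAut R)).card = 5 := by
      rw [Finset.card_insert_of_notMem, Finset.card_insert_of_notMem, Finset.card_insert_of_notMem,
        Finset.card_insert_of_notMem, Finset.card_singleton]
      · rw [Finset.mem_singleton]; exact fun h => hne h.symm
      · rw [Finset.mem_insert, Finset.mem_singleton]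
        rintro (h | h)
        · exact he1 (mul_eq_right.1 h.symm)
        · exact h6 h.symm
      · simp only [Finset.mem_insert, Finset.mem_singleton]
        rintro (h | h | h)
        · exact hfe h.symm
        · exact hf1 (mul_eq_left.1 h.symm)
        · exact h7 h.symm
      · simp only [Finset.mem_insert, Finset.mem_singleton]
        rintro (h | h | h | h)
        · exact he1 h.symm
        · exact hf1 h.symm
        · exact hef1 h.symm
        · exact h5 h.symm
    have h9 : (({1, e, f, e * f, MulAut.conj ρ f} : Finset (MulAut R)) : Set (MulAut R)) ⊆ E := by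
      intro x hx
      simp only [Finset.coe_insert, Finset.coe_singleton, Set.mem_insert_iff, Set.mem_singleton_iff] at hx
      rcases hx with rfl | rfl | rfl | rfl | rfl
      · exact one_mem E
      · exact he
      · exact hfE
      · exact mul_mem he hfE
      · exact h4
    have h10 := Set.ncard_le_ncard h9
    rw [Set.ncard_coe_finset, h8] at h10
    have h11 : (E : Set (MulAut R)).ncard = Nat.card E := rfl
    rw [h11, hE4] at h10
    omega
  -- the orders of the fixed points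
  have hcf : Nat.card (fixA f) = Nat.card (fixA e) := by
    rw [hf]
    exact card_fixA_conj ρ e
  have hcef : Nat.card (fixA (e * f)) = Nat.card (fixA e) := by
    rw [← hg, ← hcf]
    exact card_fixA_conj ρ f
  have hRo : Odd (Nat.card R) := by
    rw [hcard]
    exact (hp.out.odd_of_ne_two hp2).pow
  -- the formula
  have formula : ∀ D : Subgroup R, (∀ d ∈ D, e d ∈ D) → (∀ d ∈ D, f d ∈ D) →
      Nat.card D * Nat.card ↥(D ⊓ fixA e ⊓ fixA f : Subgroup R) ^ 2 =
        Nat.card ↥(D ⊓ fixA e : Subgroup R) * Nat.card ↥(D ⊓ fixA f : Subgroup R) *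
          Nat.card ↥(D ⊓ fixA (e * f) : Subgroup R) := by
    intro D hDe hDf
    have h4 := Lib.KleinOrder.card_klein_aux D (hRo.of_dvd_nat (card_subgroup_dvd_card D)) e.toMonoidHom f.toMonoidHom
      (fun g => by
        show (e * e) g = g
        rw [hee]; rfl)
      (fun g => by
        show (f * f) g = g
        rw [hff]; rfl)
      (fun g => by
        show (e * f) g = (f * e) g
        rw [hef]) hDe hDf
    have k1 : Nat.card {h : R // h ∈ D ∧ e.toMonoidHom h = h ∧ f.toMonoidHom h = h} =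
        Nat.card ↥(D ⊓ fixA e ⊓ fixA f : Subgroup R) :=
      Nat.card_congr (Equiv.subtypeEquivRight fun g => ⟨fun x => ⟨⟨x.1, x.2.1⟩, x.2.2⟩, fun x => ⟨x.1.1, x.1.2, x.2⟩⟩)
    rw [k1] at h4
    exact h4
  -- the order of `C_R(e)`
  obtain ⟨i, hi⟩ : ∃ i, Nat.card (fixA e) = p ^ i := by
    obtain ⟨i, -, hi⟩ := (Nat.dvd_prime_pow hp.out).1 (hcard ▸ card_subgroup_dvd_card (fixA e))
    exact ⟨i, hi⟩
  obtain ⟨m, hm⟩ : ∃ m, Nat.card ↥((fixA e ⊓ fixA f : Subgroup R)) = p ^ m := by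
    obtain ⟨i, -, hi⟩ := (Nat.dvd_prime_pow hp.out).1 (hcard ▸ card_subgroup_dvd_card (fixA e ⊓ fixA f))
    exact ⟨i, hi⟩
  have hi3 : i < 3 := by
    by_contra h4
    apply he1
    have h5 : fixA e = ⊤ := by
      apply Subgroup.eq_top_of_le_card
      rw [hi, hcard]
      exact Nat.pow_le_pow_right hp.out.pos (by omega)
    ext r
    have h6 : r ∈ fixA e := by rw [h5]; trivial
    exact h6
  have h4 := formula ⊤ (fun _ _ => mem_top _) (fun _ _ => mem_top _)
  rw [top_inf_eq, top_inf_eq, top_inf_eq, card_top, hcard, hm, hcf, hcef, hi, ← pow_mul, ← pow_add, ← pow_add,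
    ← pow_add] at h4
  have h5 := Nat.pow_right_injective hp.out.two_le h4
  have hi1 : i = 1 := by omega
  have hm0 : m = 0 := by omega
  rw [hi1, pow_one] at hi
  rw [hm0, pow_zero] at hm
  -- commuting automorphisms of `C_R(e)`
  have key : ∀ e' ∈ E, Nat.card (fixA e') = p → ∀ g ∈ P, ∀ h ∈ P, ∀ w ∈ fixA e', (g * h) w = (h * g) w := by
    intro e' he' hc g hg h hh w hw
    have hpres : ∀ g ∈ P, ∀ w ∈ fixA e', g w ∈ fixA e' := by
      intro g hg w hw
      show e' (g w) = g w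
      have hw' : e' w = w := hw
      have h6 : (e' * g) w = (g * e') w := by rw [hEc e' he' g hg]
      rw [MulAut.mul_apply, MulAut.mul_apply, hw'] at h6
      exact h6
    by_cases hw1 : w = 1
    · rw [hw1, map_one, map_one]
    have hz : ∀ v ∈ fixA e', v ∈ zpowers w := by
      intro v hv
      have h6 : zpowers w = fixA e' := by
        apply eq_of_le_of_card_ge (zpowers_le.2 hw)
        rw [hc, Nat.card_zpowers]
        have h7 : orderOf w ∣ p := by
          rw [← hc]
          have h8 : orderOf (⟨w, hw⟩ : ↥(fixA e')) = orderOf w := Subgroup.orderOf_mk w hw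
          rw [← h8]
          exact orderOf_dvd_natCard _
        rcases (Nat.dvd_prime hp.out).1 h7 with h8 | h8
        · exact absurd (orderOf_eq_one_iff.1 h8) hw1
        · exact h8.ge
      rw [h6]
      exact hv
    obtain ⟨a, ha⟩ := hz _ (hpres g hg w hw)
    obtain ⟨b, hb⟩ := hz _ (hpres h hh w hw)
    have ha' : w ^ a = g w := ha
    have hb' : w ^ b = h w := hb
    rw [MulAut.mul_apply, MulAut.mul_apply, ← ha', ← hb', map_zpow, map_zpow, ← ha', ← hb', ← zpow_mul, ← zpow_mul,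
      mul_comm]
  intro g hg' h hh
  -- the commutator
  obtain ⟨k, hk⟩ : ∃ k, k = g * h * g⁻¹ * h⁻¹ := ⟨_, rfl⟩
  have hkP : k ∈ P := hk ▸ mul_mem (mul_mem (mul_mem hg' hh) (inv_mem hg')) (inv_mem hh)
  have hle : ∀ e' ∈ E, Nat.card (fixA e') = p → fixA e' ≤ fixA k := by
    intro e' he' hc w hw
    show k w = w
    have hpres : ∀ g ∈ P, g w ∈ fixA e' := by
      intro g hg
      show e' (g w) = g w
      have hw' : e' w = w := hw
      have h6 : (e' * g) w = (g * e') w := by rw [hEc e' he' g hg]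
      rw [MulAut.mul_apply, MulAut.mul_apply, hw'] at h6
      exact h6
    have h6 := key e' he' hc g hg' h hh _ (hpres (g⁻¹ * h⁻¹) (mul_mem (inv_mem hg') (inv_mem hh)))
    rw [← MulAut.mul_apply, ← MulAut.mul_apply] at h6
    have e1 : g * h * (g⁻¹ * h⁻¹) = k := by rw [hk]; group
    have e2 : h * g * (g⁻¹ * h⁻¹) = 1 := by group
    rw [e1, e2] at h6
    exact h6
  have hDi : ∀ e' ∈ E, ∀ d ∈ fixA k, e' d ∈ fixA k := by
    intro e' he' d hd
    show k (e' d) = e' d
    have hd' : k d = d := hd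
    have h6 : (e' * k) d = (k * e') d := by rw [hEc e' he' k hkP]
    rw [MulAut.mul_apply, MulAut.mul_apply, hd'] at h6
    exact h6.symm
  have h6 := formula (fixA k) (hDi e he) (hDi f hfE)
  have hce : Nat.card (fixA e) = p := hi
  have hcf' : Nat.card (fixA f) = p := hcf.trans hi
  have hcef' : Nat.card (fixA (e * f)) = p := hcef.trans hi
  rw [inf_eq_right.2 (hle e he hce), inf_eq_right.2 (hle f hfE hcf'), inf_eq_right.2 (hle _ (mul_mem he hfE) hcef'), hm,
    hce, hcf', hcef', one_pow, mul_one] at h6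
  have h7 : fixA k = ⊤ := by
    apply Subgroup.eq_top_of_card_eq
    rw [h6, hcard]
    ring
  have h8 : k = 1 := by
    ext r
    have h9 : r ∈ fixA k := by rw [h7]; trivial
    exact h9
  rw [hk, mul_inv_eq_one, mul_inv_eq_iff_eq_mul] at h8
  exact h8

end aut

section cfg

variable {G : Type u} [Group G] [Finite G] {α : MulAut G}

/-- **Real elements of `C_G(α)`.** -/
theorem real_sq (h : CCP α) (hodd : Odd (Nat.card (fixA α))) {c : G} (hc : α c = c) {g : G} (hg : g * c * g⁻¹ = c⁻¹) :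
    c ^ 2 = 1 := by
  -- the elements normalising `⟨c⟩`
  obtain ⟨M, hM⟩ : ∃ M : Subgroup G, M = normalizer ((zpowers c : Subgroup G) : Set G) := ⟨_, rfl⟩
  have hzi : ∀ m ∈ zpowers c, α m ∈ zpowers c := by
    rintro _ ⟨i, rfl⟩
    refine ⟨i, ?_⟩
    show c ^ i = α (c ^ i)
    rw [map_zpow, hc]
  have hMi : ∀ m ∈ M, α m ∈ M := by
    intro m hm
    rw [hM] at hm ⊢
    exact normalizer_inv hzi m hm
  have hgM : g ∈ M := by
    rw [hM, mem_normalizer_iff]
    intro y
    have hg' : g⁻¹ * c * g = c⁻¹ := by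
      have h1 : g⁻¹ * c⁻¹ * g = c := by rw [← hg]; group
      calc g⁻¹ * c * g = (g⁻¹ * c⁻¹ * g)⁻¹ := by group
        _ = c⁻¹ := by rw [h1]
    constructor
    · rintro ⟨i, rfl⟩
      refine ⟨-i, ?_⟩
      show c ^ (-i) = g * c ^ i * g⁻¹
      rw [← conj_zpow, hg, inv_zpow, zpow_neg]
    · rintro ⟨i, hi⟩
      refine ⟨-i, ?_⟩
      show c ^ (-i) = y
      have hi' : c ^ i = g * y * g⁻¹ := hi
      have h1 : y = g⁻¹ * c ^ i * g⁻¹⁻¹ := by rw [hi']; group
      rw [h1, ← conj_zpow, inv_inv, hg', inv_zpow, zpow_neg]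
  obtain ⟨d, x, hd, e⟩ := (h.res M hMi) ⟨g, hgM⟩
  have hd' : α d.1 = d.1 := congrArg Subtype.val hd
  have e' : g = d.1 * (x.1⁻¹ * α x.1) := congrArg Subtype.val e
  -- `x⁻¹ α(x)` commutes with `c`
  obtain ⟨i, hi⟩ : x.1 * c * x.1⁻¹ ∈ zpowers c := by
    have h1 : x.1 ∈ normalizer ((zpowers c : Subgroup G) : Set G) := hM ▸ x.2
    exact (mem_normalizer_iff.1 h1 c).1 (mem_zpowers c)
  have hi' : c ^ i = x.1 * c * x.1⁻¹ := hi
  have h1 : α x.1 * c * (α x.1)⁻¹ = c ^ i := by
    have h2 := congrArg α hi'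
    rw [map_zpow, map_mul, map_mul, map_inv, hc] at h2
    exact h2.symm
  have h2 : d.1 * c * d.1⁻¹ = c⁻¹ := by
    rw [← hg, e']
    have h3 : (x.1⁻¹ * α x.1) * c * (x.1⁻¹ * α x.1)⁻¹ = c := by
      calc (x.1⁻¹ * α x.1) * c * (x.1⁻¹ * α x.1)⁻¹ = x.1⁻¹ * (α x.1 * c * (α x.1)⁻¹) * x.1 := by group
        _ = x.1⁻¹ * (x.1 * c * x.1⁻¹) * x.1 := by rw [h1, hi']
        _ = c := by group
    calc d.1 * c * d.1⁻¹ = d.1 * ((x.1⁻¹ * α x.1) * c * (x.1⁻¹ * α x.1)⁻¹) * d.1⁻¹ := by rw [h3]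
      _ = _ := by group
  -- `d` has odd order
  have h3 : Odd (orderOf d.1) := by
    have h4 : orderOf (⟨d.1, hd'⟩ : ↥(fixA α)) = orderOf d.1 := Subgroup.orderOf_mk _ _
    rw [← h4]
    exact hodd.of_dvd_nat (orderOf_dvd_natCard _)
  obtain ⟨n, hn⟩ := h3
  have h4 : ∀ n : ℕ, d.1 ^ (2 * n + 1) * c * (d.1 ^ (2 * n + 1))⁻¹ = c⁻¹ := by
    intro n
    induction n with
    | zero => rw [mul_zero, zero_add, pow_one, h2]
    | succ n ih =>
      have e1 : d.1 ^ (2 * (n + 1) + 1) = d.1 * (d.1 * d.1 ^ (2 * n + 1)) := by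
        rw [← pow_succ', ← pow_succ']
        congr 1
      have h5 : d.1 * c⁻¹ * d.1⁻¹ = c := by
        calc d.1 * c⁻¹ * d.1⁻¹ = (d.1 * c * d.1⁻¹)⁻¹ := by group
          _ = c := by rw [h2, inv_inv]
      calc d.1 ^ (2 * (n + 1) + 1) * c * (d.1 ^ (2 * (n + 1) + 1))⁻¹
          = d.1 * (d.1 * (d.1 ^ (2 * n + 1) * c * (d.1 ^ (2 * n + 1))⁻¹) * d.1⁻¹) * d.1⁻¹ := by rw [e1]; group
        _ = c⁻¹ := by rw [ih, h5, h2]
  have h5 := h4 n
  rw [← hn, pow_orderOf_eq_one, one_mul, inv_one, mul_one] at h5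
  rw [pow_two]
  nth_rw 1 [h5]
  exact inv_mul_cancel c

/-- `q`-elements normalising a Sylow `q`-subgroup -/
theorem mem_of_normalizes {q : ℕ} [hq : Fact q.Prime] (T : Sylow q G) {u : G} (hu : ∃ k : ℕ, u ^ q ^ k = 1)
    (hn : ∀ m ∈ (T : Subgroup G), u * m * u⁻¹ ∈ (T : Subgroup G)) : u ∈ (T : Subgroup G) := by
  obtain ⟨k, hk⟩ := hu
  have h1 : IsPGroup q (zpowers u) := by
    rintro ⟨_, i, rfl⟩
    refine ⟨k, Subtype.ext ?_⟩
    show (u ^ i) ^ q ^ k = 1
    rw [← zpow_natCast, ← zpow_mul, mul_comm, zpow_mul, zpow_natCast, hk, one_zpow]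
  have h2 : u ∈ normalizer ((T : Subgroup G) : Set G) := by
    have h3 : (T : Subgroup G).map (MulAut.conj u).toMonoidHom = T := by
      apply eq_of_le_of_card_ge
      · rintro _ ⟨b, hb, rfl⟩
        exact hn b hb
      · rw [card_map_of_injective (f := (MulAut.conj u).toMonoidHom) (MulAut.conj u).injective]
    rw [mem_normalizer_iff]
    intro b
    refine ⟨hn b, fun hb => ?_⟩
    rw [← h3] at hb
    obtain ⟨b', hb', e⟩ := hb
    have e' : u * b' * u⁻¹ = u * b * u⁻¹ := e
    rw [← mul_left_cancel (mul_right_cancel e')]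
    exact hb'
  have h3 : u ∈ zpowers u ⊓ normalizer (T : Set G) := ⟨mem_zpowers u, h2⟩
  rw [h1.inf_normalizer_sylow T] at h3
  exact h3.2

/-- **Abelian Sylow `q`-subgroups of order `q ^ 2`.** -/
theorem false_of_sq (h : Cfg α) (hodd : Odd (Nat.card (fixA α))) {q : ℕ} [hq : Fact q.Prime]
    (hnum : NumOK2 q (Nat.card G) (orderOf α)) (hqα : q ∣ orderOf α)
    (hinn : ∀ x : MulAut G, x ∈ zpowers α → (∃ k : ℕ, orderOf x = q ^ k) → ∃ u : G, x = MulAut.conj u)
    (T₀ : Sylow q G) (hT₀ : Nat.card (T₀ : Subgroup G) = q ^ 2)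
    (hpr : ∀ p, p.Prime → p ∣ orderOf α → p ≠ q → ¬ p ∣ q * (q - 1)) {c g : G} (hc : orderOf c = q) (hq2 : q ≠ 2)
    (hg : g * c * g⁻¹ = c⁻¹) : False := by
  have hcb := h.center_bot
  obtain ⟨x, z, hx, hz, hα, hxs, hzs, hzα⟩ := exists_ppart α q
  obtain ⟨u, rfl⟩ := hinn x hx hxs
  have hu1 : u ≠ 1 := by
    rintro rfl
    rw [map_one, mul_one] at hα
    rw [hα] at hqα
    exact hzs hqα
  obtain ⟨T, hT⟩ := exists_sylow2 h hodd hnum hx hz hα hxs hzs hu1
  have hTc : Nat.card (T : Subgroup G) = q ^ 2 := by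
    rw [T.card_eq_multiplicity, ← T₀.card_eq_multiplicity, hT₀]
  have hTab : ∀ a ∈ (T : Subgroup G), ∀ b ∈ (T : Subgroup G), a * b = b * a := fun a ha b hb =>
    congrArg Subtype.val ((IsPGroup.isMulCommutative_of_card_eq_prime_sq hTc).is_comm.comm
      (⟨a, ha⟩ : ↥(T : Subgroup G)) ⟨b, hb⟩)
  have hupow : ∃ k : ℕ, u ^ q ^ k = 1 := by
    obtain ⟨k, hk⟩ := hxs
    refine ⟨k, ?_⟩
    apply conj_inj hcb
    rw [map_pow, ← hk, pow_orderOf_eq_one, map_one]
  have huT : u ∈ (T : Subgroup G) := mem_of_normalizes T hupow (zpowers_inv hT hx)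
  have hzT := zpowers_inv hT hz
  have hzu : z u = u := fix_of_comm hcb (Cfg.comm_zpowers hz hx)
  -- `z` acts trivially
  have hσ1 : resA z (T : Subgroup G) hzT = 1 := by
    by_contra hσ
    obtain ⟨p, hp, hpσ⟩ := Nat.exists_prime_and_dvd (n := orderOf (resA z (T : Subgroup G) hzT))
      (fun h1 => hσ (orderOf_eq_one_iff.1 h1))
    have hpf : Fact p.Prime := ⟨hp⟩
    have hpz : p ∣ orderOf z := hpσ.trans (orderOf_resA_dvd z _ hzT)
    have hpq : p ≠ q := by
      rintro rfl
      exact hzs hpz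
    obtain ⟨y, hy, hyo⟩ := exists_prime_order hp hpσ
    have h1 := card_fixA_modEq (p := p) (σ := y) ⟨1, by rw [hyo, pow_one]⟩
    have hy1 : y ≠ 1 := by
      rintro rfl
      rw [orderOf_one] at hyo
      exact hp.one_lt.ne hyo
    have huy : (⟨u, huT⟩ : ↥(T : Subgroup G)) ∈ fixA y := by
      have h2 : resA z (T : Subgroup G) hzT ∈ MulAction.stabilizer (MulAut ↥(T : Subgroup G))
        (⟨u, huT⟩ : ↥(T : Subgroup G)) := Subtype.ext hzu
      have h3 : zpowers (resA z (T : Subgroup G) hzT) ≤ MulAction.stabilizer (MulAut ↥(T : Subgroup G))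
        (⟨u, huT⟩ : ↥(T : Subgroup G)) := by rwa [zpowers_le]
      exact h3 hy
    obtain ⟨j, hj2, hj⟩ : ∃ j ≤ 2, Nat.card (fixA y) = q ^ j := by
      have h2 := (fixA y).card_subgroup_dvd_card
      rw [hTc] at h2
      exact (Nat.dvd_prime_pow hq.out).1 h2
    have hj1 : j = 1 := by
      have h2 : j ≠ 0 := by
        rintro rfl
        rw [pow_zero] at hj
        have h3 := card_eq_one.1 hj
        rw [h3, mem_bot] at huy
        exact hu1 (congrArg Subtype.val huy)
      have h3 : j ≠ 2 := by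
        rintro rfl
        apply hy1
        have h4 : fixA y = ⊤ := Subgroup.eq_top_of_card_eq _ (hj.trans hTc.symm)
        ext m
        have h5 : m ∈ fixA y := by rw [h4]; trivial
        exact congrArg Subtype.val (show y m = m from h5)
      omega
    rw [hTc, hj, hj1, pow_one] at h1
    apply hpr p hp (hpz.trans hzα) hpq
    have h2 : q ≤ q ^ 2 := Nat.le_self_pow (by norm_num) q
    have h3 := (Nat.modEq_iff_dvd' h2).1 h1.symm
    have e : q ^ 2 - q = q * (q - 1) := by
      rw [pow_two, Nat.mul_sub, mul_one]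
    rwa [e] at h3
  -- `T` is centralised by `α`
  have hTα : ∀ t ∈ (T : Subgroup G), α t = t := by
    intro t ht
    rw [hα, MulAut.mul_apply, MulAut.conj_apply, hTab u huT t ht, mul_inv_cancel_right]
    have h1 : resA z (T : Subgroup G) hzT ⟨t, ht⟩ = ⟨t, ht⟩ := by rw [hσ1]; rfl
    exact congrArg Subtype.val h1
  -- a conjugate of `c`
  have h1 : IsPGroup q (zpowers c) := IsPGroup.of_card (n := 1) (by rw [Nat.card_zpowers, hc, pow_one])
  obtain ⟨S, hS⟩ := h1.exists_le_sylow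
  obtain ⟨k, hk⟩ := MulAction.exists_smul_eq G S T
  have h2 : k * c * k⁻¹ ∈ (T : Subgroup G) := by
    rw [← hk]
    exact ⟨c, hS (mem_zpowers c), rfl⟩
  have h3 := real_sq h.ccp hodd (hTα _ h2) (g := k * g * k⁻¹) (by
    calc k * g * k⁻¹ * (k * c * k⁻¹) * (k * g * k⁻¹)⁻¹ = k * (g * c * g⁻¹) * k⁻¹ := by group
      _ = (k * c * k⁻¹)⁻¹ := by rw [hg]; group)
  have h4 : orderOf (k * c * k⁻¹) = q := by
    rw [← hc, ← MulAut.conj_apply, MulEquiv.orderOf_eq]
  have h5 := orderOf_dvd_of_pow_eq_one h3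
  rw [h4] at h5
  exact hq2 ((Nat.prime_dvd_prime_iff_eq hq.out Nat.prime_two).1 h5)

end cfg

end Cfsg.Agent.H979.Ccp
end

-- part: H979/Ccp/Cube2
section
/-!
# Abelian Sylow subgroups of order `p ^ 3` (helper979)
-/

set_option autoImplicit false
set_option linter.unusedSectionVars false

namespace Cfsg.Agent.H979.Ccp

open Subgroup Cfsg Cfsg.Agent.H520
open scoped Pointwise

universe u

variable {G : Type u} [Group G] [Finite G] {α : MulAut G}

/-- **`α` normalises an abelian Sylow `p`-subgroup of order `p ^ 3`, and is a 3-element modulo its centralizer.** -/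
theorem false_of_cube (h : Cfg α) (hodd : Odd (Nat.card (fixA α))) {p : ℕ} [hp : Fact p.Prime] (hp2 : p ≠ 2)
    (R : Subgroup G) (hR : ∀ m ∈ R, α m ∈ R) (hRab : ∀ a ∈ R, ∀ b ∈ R, a * b = b * a) (hRcard : Nat.card R = p ^ 3)
    {u : G} {z : MulAut G} (hz : z ∈ zpowers α) (hu : MulAut.conj u ∈ zpowers α) (huR : u ∈ R)
    (hα : α = z * MulAut.conj u) (hz3 : ∃ k, orderOf z = 3 ^ k)
    (Q : Subgroup G) (hQ : IsPGroup 2 Q) (hQR : ∀ x ∈ Q, ∀ r ∈ R, x * r * x⁻¹ ∈ R) {k l r : G} (hk : k ∈ Q) (hl : l ∈ Q)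
    (hr : r ∈ R) (hkl : k * l * r * (k * l)⁻¹ ≠ l * k * r * (l * k)⁻¹) : False := by
  classical
  have h2 : Fact (Nat.Prime 2) := ⟨Nat.prime_two⟩
  have h3 : Fact (Nat.Prime 3) := ⟨Nat.prime_three⟩
  have hcb := h.center_bot
  have hRp : IsPGroup p R := IsPGroup.of_card hRcard
  have hXi := normalizer_inv hR
  have hXt : normalizer (R : Set G) ≠ ⊤ := by
    intro h1
    have h2 : R.Normal := normalizer_eq_top_iff.1 h1
    have := h.sim
    rcases h2.eq_bot_or_eq_top with h3 | h3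
    · rw [h3, card_bot] at hRcard
      exact absurd hRcard.symm (Nat.one_lt_pow (by norm_num) hp.out.one_lt).ne'
    · rw [h3] at hRp
      exact not_pgroup h (hRp.of_equiv topEquiv)
  have hXs := solvable_of_inv h hodd hXt hXi
  have hXccp := h.ccp.res _ hXi
  set X := normalizer (R : Set G) with hX
  let θ : ↥X →* MulAut ↥R := R.normalizerMonoidHom
  have hθ : ∀ (x : ↥X) (r : ↥R), ((θ x r : ↥R) : G) = x.1 * r.1 * x.1⁻¹ := fun x r => rfl
  obtain ⟨ρ, hρdef⟩ : ∃ ρ, ρ = resA α R hR := ⟨_, rfl⟩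
  have hρ : ∀ r : ↥R, ((ρ r : ↥R) : G) = α r.1 := by
    intro r
    rw [hρdef, resA_coe]
  obtain ⟨ξ, hξdef⟩ : ∃ ξ, ξ = resA α X hXi := ⟨_, rfl⟩
  have hξ : ∀ x : ↥X, ((ξ x : ↥X) : G) = α x.1 := by
    intro x
    rw [hξdef, resA_coe]
  have hξccp : CCP ξ := by rw [hξdef]; exact hXccp
  have hθρ : ∀ x : ↥X, MulAut.conj ρ (θ x) = θ (ξ x) := by
    intro x
    ext r
    rw [hθ, hξ, MulAut.conj_apply, MulAut.mul_apply, MulAut.mul_apply, hρ, hθ, map_mul, map_mul, map_inv]
    congr 2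
    rw [← hρ, MulAut.apply_inv_self]
  have hθρn : ∀ (n : ℕ) (x : ↥X), (MulAut.conj ρ ^ n) (θ x) = θ ((ξ ^ n) x) := by
    intro n
    induction n with
    | zero => intro x; rfl
    | succ n ih =>
      intro x
      rw [pow_succ', MulAut.mul_apply, ih, hθρ, ← MulAut.mul_apply, ← pow_succ']
  -- the power of 3
  obtain ⟨k3, hk3⟩ := hz3
  have hθ3 : ∀ x : ↥X, (MulAut.conj ρ ^ 3 ^ k3) (θ x) = θ x := by
    intro x
    rw [hθρn]
    have hcomm : Commute z (MulAut.conj u) := Cfg.comm_zpowers hz hu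
    have h4 : α ^ 3 ^ k3 = MulAut.conj (u ^ 3 ^ k3) := by
      rw [hα, hcomm.mul_pow, ← hk3, pow_orderOf_eq_one, one_mul, hk3, map_pow]
    have h5 : (((ξ ^ 3 ^ k3) x : ↥X) : G) = u ^ 3 ^ k3 * x.1 * (u ^ 3 ^ k3)⁻¹ := by
      rw [hξdef, resA_pow_coe, h4, MulAut.conj_apply]
    have h6 : u ^ 3 ^ k3 ∈ R := pow_mem huR _
    ext r
    rw [hθ, hθ, h5]
    have h7 : (u ^ 3 ^ k3)⁻¹ * r.1 * u ^ 3 ^ k3 = r.1 := by
      rw [hRab _ (inv_mem h6) _ r.2]
      group
    have h8 : x.1 * r.1 * x.1⁻¹ ∈ R := by rw [← hθ]; exact (θ x r).2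
    calc u ^ 3 ^ k3 * x.1 * (u ^ 3 ^ k3)⁻¹ * r.1 * (u ^ 3 ^ k3 * x.1 * (u ^ 3 ^ k3)⁻¹)⁻¹
        = u ^ 3 ^ k3 * (x.1 * ((u ^ 3 ^ k3)⁻¹ * r.1 * u ^ 3 ^ k3) * x.1⁻¹) * (u ^ 3 ^ k3)⁻¹ := by group
      _ = u ^ 3 ^ k3 * (x.1 * r.1 * x.1⁻¹) * (u ^ 3 ^ k3)⁻¹ := by rw [h7]
      _ = x.1 * r.1 * x.1⁻¹ := by rw [hRab _ h6 _ h8]; group
  -- the group of induced automorphisms
  obtain ⟨A, hA⟩ : ∃ A, A = θ.range := ⟨_, rfl⟩
  have hθA : ∀ x : ↥X, θ x ∈ A := fun x => hA ▸ ⟨x, rfl⟩
  have hAθ : ∀ a ∈ A, ∃ x : ↥X, θ x = a := fun a ha => (hA ▸ ha : a ∈ θ.range)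
  have hAi : ∀ a ∈ A, MulAut.conj ρ a ∈ A := by
    intro a ha
    obtain ⟨x, rfl⟩ := hAθ a ha
    rw [hθρ]
    exact hθA _
  have hfinA : Finite (MulAut ↥R) := inferInstance
  obtain ⟨γ, hγdef⟩ : ∃ γ, γ = resA (MulAut.conj ρ) A hAi := ⟨_, rfl⟩
  have hγ : ∀ a : ↥A, ((γ a : ↥A) : MulAut ↥R) = MulAut.conj ρ a.1 := by
    intro a
    rw [hγdef, resA_coe]
  have hγθ : ∀ x : ↥X, γ ⟨θ x, hθA x⟩ = ⟨θ (ξ x), hθA _⟩ := by
    intro x
    apply Subtype.ext
    rw [hγ, hθρ]
  have hγccp : CCP γ := by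
    rintro ⟨a, ha⟩
    obtain ⟨x, rfl⟩ := hAθ a ha
    obtain ⟨c, g, hc, hx⟩ := hξccp x
    refine ⟨⟨θ c, hθA c⟩, ⟨θ g, hθA g⟩, ?_, ?_⟩
    · rw [hγθ, hc]
    · rw [hγθ]
      apply Subtype.ext
      show θ x = θ c * ((θ g)⁻¹ * θ (ξ g))
      conv_lhs => rw [hx]
      rw [map_mul, map_mul, map_inv]
  have hγo : orderOf γ ∣ 3 ^ k3 := by
    apply orderOf_dvd_of_pow_eq_one
    ext ⟨a, ha⟩ : 1
    obtain ⟨x, rfl⟩ := hAθ a ha
    apply Subtype.ext
    rw [hγdef, resA_pow_coe]
    exact hθ3 x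
  have hAs : Group.IsSolvable ↥A := by
    subst hA
    exact Group.isSolvable_of_surjective (f := θ.rangeRestrict) θ.rangeRestrict_surjective
  have hprime3 : ∀ s : ℕ, s.Prime → s ∣ orderOf γ → s = 3 := fun s hs hd =>
    (Nat.prime_dvd_prime_iff_eq hs Nat.prime_three).1 (hs.dvd_of_dvd_pow (hd.trans hγo))
  have h2γ : ¬ 2 ∣ orderOf γ := fun hd => absurd (hprime3 2 Nat.prime_two hd) (by norm_num)
  obtain ⟨P, hP⟩ := exists_sylow_inv2 h.zst (q := 2) (Nat.card A) ↥A γ le_rfl hAs hγccp h2γ (by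
    intro s p hs hp hds hdp _ _ hps
    exact absurd ((hprime3 p hp hdp).trans (hprime3 s hs hds).symm) hps)
  -- its elements commute
  have hPc : ∀ a b : ↥A, a ∈ (P : Subgroup A) → b ∈ (P : Subgroup A) → a * b = b * a := by
    have h4 := comm_of_cube (R := ↥R) hp2 (fun a b => Subtype.ext (hRab a a.2 b b.2)) hRcard
      (P := (P : Subgroup A).map A.subtype) (P.isPGroup'.map _) (ρ := ρ) ?_ ⟨k3, ?_⟩ ?_
    · intro a b ha hb
      apply Subtype.ext
      exact h4 a.1 ⟨a, ha, rfl⟩ b.1 ⟨b, hb, rfl⟩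
    · rintro _ ⟨a, ha, rfl⟩
      refine ⟨γ a, hP a ha, ?_⟩
      show ((γ a : ↥A) : MulAut ↥R) = _
      rw [hγ]
      rfl
    · rintro _ ⟨a, ha, rfl⟩
      obtain ⟨x, hx⟩ := hAθ a.1 a.2
      show (MulAut.conj ρ ^ 3 ^ k3) a.1 = a.1
      rw [← hx, hθ3]
    · rintro _ ⟨a, ha, rfl⟩ hfix
      have hfix' : γ a = a := by
        apply Subtype.ext
        rw [hγ]
        exact hfix
      obtain ⟨x, hx⟩ := hAθ a.1 a.2
      obtain ⟨c, g, hc, hx'⟩ := hξccp x
      have e1 : a = ⟨θ x, hθA x⟩ := Subtype.ext hx.symm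
      have e2 : (⟨θ c, hθA c⟩ : ↥A) * ((⟨θ g, hθA g⟩ : ↥A)⁻¹ * γ ⟨θ g, hθA g⟩) = a * (1⁻¹ * γ 1) := by
        rw [hγθ, map_one, inv_one, mul_one, mul_one, e1]
        apply Subtype.ext
        show θ c * ((θ g)⁻¹ * θ (ξ g)) = θ x
        conv_rhs => rw [hx']
        rw [map_mul, map_mul, map_inv]
      have e3 : (⟨θ c, hθA c⟩ : ↥A) = a := hγccp.uniq (by rw [hγθ, hc]) hfix' e2
      -- `c` has odd order
      have hcα : α c.1 = c.1 := by
        rw [← hξ, hc]
      have h5 : Odd (orderOf c) := by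
        have h6 : orderOf (⟨c.1, hcα⟩ : ↥(fixA α)) = orderOf c.1 := Subgroup.orderOf_mk _ _
        have h7 : orderOf c.1 = orderOf c := Subgroup.orderOf_coe c
        rw [← h7, ← h6]
        exact hodd.of_dvd_nat (orderOf_dvd_natCard _)
      have h6 : orderOf a ∣ orderOf c := by
        rw [← e3, Subgroup.orderOf_mk]
        exact orderOf_map_dvd θ c
      have h7 : Odd (orderOf a) := h5.of_dvd_nat h6
      obtain ⟨n, hn⟩ := P.isPGroup' ⟨a, ha⟩
      have h8 : a ^ 2 ^ n = 1 := congrArg Subtype.val hn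
      have h9 := orderOf_dvd_of_pow_eq_one h8
      have h10 : orderOf a = 1 := Nat.Coprime.eq_one_of_dvd (Nat.Coprime.pow_right _ (Nat.coprime_two_right.2 h7)) h9
      rw [orderOf_eq_one_iff] at h10
      rw [h10]
      rfl
  -- the 2-group
  have hQX : Q ≤ X := by
    intro x hx
    rw [hX, mem_normalizer_iff]
    intro r
    refine ⟨hQR x hx r, fun h4 => ?_⟩
    have h5 := hQR x⁻¹ (inv_mem hx) _ h4
    have e : x⁻¹ * (x * r * x⁻¹) * x⁻¹⁻¹ = r := by group
    rwa [e] at h5
  have hinc : ∀ x : ↥Q, (⟨x.1, hQX x.2⟩ : ↥X) = inclusion hQX x := fun x => rfl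
  let φ : ↥Q →* ↥A := (θ.comp (inclusion hQX)).codRestrict A fun x => hθA _
  have hQ' : IsPGroup 2 φ.range := by
    rintro ⟨_, x, rfl⟩
    obtain ⟨n, hn⟩ := hQ x
    refine ⟨n, Subtype.ext ?_⟩
    show (φ x) ^ 2 ^ n = 1
    rw [← map_pow, hn, map_one]
  obtain ⟨S, hS⟩ := hQ'.exists_le_sylow
  obtain ⟨g, hg⟩ := MulAction.exists_smul_eq ↥A S P
  have hmem : ∀ a ∈ (S : Subgroup A), g * a * g⁻¹ ∈ (P : Subgroup A) := by
    intro a ha
    rw [← hg]
    exact ⟨a, ha, rfl⟩
  have h4 := hPc _ _ (hmem _ (hS ⟨⟨k, hk⟩, rfl⟩)) (hmem _ (hS ⟨⟨l, hl⟩, rfl⟩))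
  have h5 : φ ⟨k, hk⟩ * φ ⟨l, hl⟩ = φ ⟨l, hl⟩ * φ ⟨k, hk⟩ := by
    have h6 : g * (φ ⟨k, hk⟩ * φ ⟨l, hl⟩) * g⁻¹ = g * (φ ⟨l, hl⟩ * φ ⟨k, hk⟩) * g⁻¹ := by
      calc g * (φ ⟨k, hk⟩ * φ ⟨l, hl⟩) * g⁻¹ = g * φ ⟨k, hk⟩ * g⁻¹ * (g * φ ⟨l, hl⟩ * g⁻¹) := by group
        _ = g * φ ⟨l, hl⟩ * g⁻¹ * (g * φ ⟨k, hk⟩ * g⁻¹) := h4
        _ = _ := by group
    exact mul_left_cancel (mul_right_cancel h6)
  apply hkl
  have h6 := congrArg (fun a : ↥A => ((a.1 ⟨r, hr⟩ : ↥R) : G)) h5
  have h7 : k * (l * r * l⁻¹) * k⁻¹ = l * (k * r * k⁻¹) * l⁻¹ := h6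
  calc k * l * r * (k * l)⁻¹ = k * (l * r * l⁻¹) * k⁻¹ := by group
    _ = l * (k * r * k⁻¹) * l⁻¹ := h7
    _ = l * k * r * (l * k)⁻¹ := by group

end Cfsg.Agent.H979.Ccp
end

-- part: H979/Ccp/MThirteen
section
/-!
# The Monster, `p = 13` (helper979)

* `moved_thirteen` : if the Sylow 13-subgroups are not abelian, every element of order 13 is conjugate to a different
  power of itself;
* `exists_cube` : a Sylow 13-subgroup `R`, a 2-group `Q` normalising it with a commutator not centralising `R`.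
-/

set_option autoImplicit false
set_option maxRecDepth 100000

namespace Cfsg.Agent.H979.Ccp.MThirteen

open Subgroup Cfsg Cfsg.Agent.H131.T5M13 Cfsg.Agent.H497.Stein
open Cfsg.Agent.MonsterX Cfsg.Agent.MonsterX.InstData Cfsg.Agent.MonsterX.MainPack Cfsg.Agent.MonsterU
open Cfsg.Agent.MonsterP Cfsg.Agent.MonsterN
open Cfsg.Agent.MonsterX.MainBasic Cfsg.Agent.MonsterX.MainSimple Cfsg.Agent.MonsterX.Model

/-- **Lifting** through a central kernel of exponent 2. -/
theorem movedAt_lift {C B : Type*} [Group C] [Group B] (f : C →* B) (hf : Function.Surjective f)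
    (hk : ∀ c ∈ f.ker, (∀ g : C, g * c = c * g) ∧ c ^ 2 = 1) {y : C} (hy : orderOf y = 13) (h : MovedAt (f y)) :
    MovedAt y := by
  obtain ⟨g, j, h1, h2⟩ := h
  obtain ⟨g, rfl⟩ := hf g
  refine ⟨g, j, ?_, fun h3 => h2 (by rw [← map_pow, h3])⟩
  obtain ⟨c, hc⟩ : ∃ c, c = (y ^ j)⁻¹ * (g * y * g⁻¹) := ⟨_, rfl⟩
  have hck : c ∈ f.ker := by
    rw [MonoidHom.mem_ker, hc, map_mul, map_inv, map_mul, map_mul, map_inv, map_pow, h1, inv_mul_cancel]
  obtain ⟨hcc, hc2⟩ := hk c hck
  have e1 : g * y * g⁻¹ = y ^ j * c := by rw [hc]; group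
  have hy13 : y ^ 13 = 1 := by rw [← hy, pow_orderOf_eq_one]
  have e2 : (g * y * g⁻¹) ^ 14 = g * y * g⁻¹ := by
    rw [conj_pow, pow_succ, hy13, one_mul]
  have hcomm : Commute (y ^ j) c := hcc (y ^ j)
  have e3 : (y ^ j * c) ^ 14 = y ^ j := by
    rw [hcomm.mul_pow, show c ^ 14 = 1 by rw [show (14 : ℕ) = 2 * 7 by norm_num, pow_mul, hc2, one_pow], mul_one,
      ← pow_mul, mul_comm j 14, pow_mul, pow_succ y 13, hy13, one_mul]
  rw [← e2, e1, e3]

/-- elements of order 13 commuting with the `2A`-involution -/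
theorem movedAt_t {y : ↥InstData.M.G} (hy : orderOf y = 13) (hyt : y * KDone.K.ι KLinkInst.x₀ = KDone.K.ι KLinkInst.x₀ * y) :
    MovedAt y := by
  have hfin : Finite ↥InstData.M.G := MThirteen.Row.finite
  have h0 : IsB Spor.BabyMonster := S1704.result
  have := h0.1
  have := CTwoTab.BInst.finite_B
  obtain ⟨⟨h1, -, ⟨e⟩⟩, -⟩ := ModelB.fieldsKS LitFin.all KDone.lnk KDone.lft (NodesGrp.prel LitFin.H)
    (NodesNe.ne LitFin.H) LitFin.conj_ten Cfsg.Agent.S1704.result KDone.lnk.x₀_mem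
  let C := centralizer ({KDone.K.ι KLinkInst.x₀} : Set ↥InstData.M.G)
  let y' : ↥C := ⟨y, mem_centralizer_singleton_iff.2 hyt⟩
  let f : ↥C →* Spor.BabyMonster := e.toMonoidHom.comp (QuotientGroup.mk' (center ↥C))
  have hf : Function.Surjective f := e.surjective.comp (QuotientGroup.mk'_surjective _)
  have hk : f.ker = center ↥C := by
    ext c
    rw [MonoidHom.mem_ker]
    constructor
    · intro h5
      have h6 : e (QuotientGroup.mk' _ c) = e 1 := by
        rw [map_one]
        exact h5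
      exact (QuotientGroup.eq_one_iff c).1 (e.injective h6)
    · intro h5
      have h6 : (QuotientGroup.mk' (center ↥C) c) = 1 := (QuotientGroup.eq_one_iff c).2 h5
      show e (QuotientGroup.mk' (center ↥C) c) = 1
      rw [h6, map_one]
  have hy' : orderOf y' = 13 := by rw [← hy]; exact Subgroup.orderOf_mk _ _
  have hB2 : ¬ 13 ^ 2 ∣ Nat.card Spor.BabyMonster := by rw [h0.2]; norm_num
  have hna : ¬ ∀ a b : Spor.BabyMonster, a * b = b * a := not_comm_of_card h0.1 (by rw [h0.2]; norm_num)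
  have hmv := moved_of_not_sq hna (p := 13) (by norm_num) hB2
  have hker : ∀ c ∈ f.ker, (∀ g : ↥C, g * c = c * g) ∧ c ^ 2 = 1 := by
    intro c hc
    rw [hk] at hc
    refine ⟨fun g => mem_center_iff.1 hc g, ?_⟩
    have h7 : (⟨c, hc⟩ : center ↥C) ^ Nat.card ↥(center ↥C) = 1 := pow_card_eq_one'
    have h8 : Nat.card ↥(center ↥C) = 2 := h1
    rw [h8] at h7
    exact congrArg Subtype.val h7
  have h13 : Fact (Nat.Prime 13) := ⟨by norm_num⟩
  have hfy : orderOf (f y') = 13 := by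
    have h9 : orderOf (f y') ∣ 13 := by rw [← hy']; exact orderOf_map_dvd f y'
    rcases (Nat.dvd_prime (by norm_num : Nat.Prime 13)).1 h9 with h10 | h10
    · rw [orderOf_eq_one_iff] at h10
      have h11 := (hker y' (MonoidHom.mem_ker.2 h10)).2
      have h12 := orderOf_dvd_of_pow_eq_one h11
      rw [hy'] at h12
      norm_num at h12
    · exact h10
  exact (movedAt_lift f hf hker hy' (hmv _ hfy)).map C.subtype C.subtype_injective

/-- powers -/
theorem movedAt_pow {G : Type*} [Group G] [Finite G] {y : G} (h : MovedAt y) {k : ℤ} (hy : orderOf y = 13)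
    (hk : orderOf (y ^ k) = 13) : MovedAt (y ^ k) := by
  obtain ⟨g, j, h1, h2⟩ := h
  refine ⟨g, j, ?_, ?_⟩
  · rw [← conj_zpow, h1, ← zpow_natCast, ← zpow_natCast, ← zpow_mul, ← zpow_mul, mul_comm]
  · intro h3
    apply h2
    -- `y = (y ^ k) ^ i`
    have h4 : y ∈ zpowers (y ^ k) := by
      have h5 : zpowers (y ^ k) = zpowers y := by
        apply Subgroup.eq_of_le_of_card_ge
        · rw [zpowers_le]
          exact ⟨k, rfl⟩
        · rw [Nat.card_zpowers, Nat.card_zpowers, hy, hk]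
      rw [h5]
      exact mem_zpowers y
    obtain ⟨i, hi⟩ := h4
    have hi' : (y ^ k) ^ i = y := hi
    rw [← hi', ← zpow_natCast, ← zpow_mul, mul_comm i, zpow_mul, zpow_natCast, h3]

section model

open Cfsg.Agent.H794.MonLift Cfsg.Agent.H794.MonThirteen
open Cfsg.Agent.LThreeMB (fr KChart.Cent KChart.pi KChart.chart)
open Cfsg.Agent.MonsterU.Ch
open Cfsg.Agent.MonsterU.Lam2 (L2)
open Cfsg.Spor (Co1)

/-- **the configuration in the Monster** (the proof of `H131.T5M13.model_D`, with the elements) -/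
theorem model_D' : ∃ (x : ↥InstData.M.G) (Q : Subgroup ↥InstData.M.G),
    D x KDone.K.z (tG KDone.mGroup KDone.mRep) Q := by
  have hfin := MFive.Row.finite_model
  have hc := MFive.Row.hc
  have h := KChart.chart KDone.lft hc
  have h13 : Nat.Prime 13 := by norm_num
  obtain ⟨x, hx, hxs⟩ := MFive.KPair.exists_order h h13 (by decide) orderOf_s
  have hx13 : x ^ 13 = 1 := by rw [← hx, pow_orderOf_eq_one]
  have hfr : fr (KChart.pi hc x) = 1 := BpMon.Thirteen.fr_pi KDone.lft hc hx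
  have hzx : KDone.K.z * (x : ↥InstData.M.G) = x * KDone.K.z := (mem_centralizer_singleton_iff.1 x.2).symm
  have only : ∀ t : ↥InstData.M.G, t * x = x * t → t * KDone.K.z = KDone.K.z * t → t * t = 1 → t = 1 ∨ t = KDone.K.z := by
    intro t htx htz htt
    by_cases ht : t = 1
    · exact Or.inl ht
    · right
      exact BpMon.Thirteen.only_inv KDone.lft hc (x := x) (t := ⟨t, mem_centralizer_singleton_iff.2 htz⟩) hx
        (Subtype.ext htt) (fun h1 => ht (congrArg Subtype.val h1)) (Subtype.ext htx.symm)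
  obtain ⟨k, hk, hkm⟩ := exists_mem h h13 (by decide) hx13 (V := V) b_mem (by rw [hxs]; exact bs)
  obtain ⟨l, hl, hlm⟩ := exists_mem h h13 (by decide) hx13 (V := V) c_mem (by rw [hxs]; exact cs)
  refine ⟨x, Cfsg.Agent.H794.MonLift.lft (KChart.pi hc) x V, ⟨?_, ?_, ?_, ?_, ?_, ?_, ?_⟩⟩
  · refine ⟨?_, by rw [orderOf_coe, hx], by norm_num, hzx, only, isPGroup_lft h (by decide) hx13 hfr fun v hv => V_sq hv,
      fun q hq => lft_x hq, fun q hq => lft_z hq, z_mem h, ⟨k, hkm, l, hlm, not_comm h hx13 hfr only hk hl (lft_x hkm)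
        (lft_x hlm)⟩, ?_, ?_, ?_⟩
    · have : Fact (Nat.Prime 2) := ⟨Nat.prime_two⟩
      exact orderOf_eq_prime (by rw [pow_two]; exact h.large.z_sq) h.large.z_ne
    · intro h7
      have h1 := h7.trans (BpRankZero.Seven.card_cz h)
      rw [Cfsg.Agent.MonsterU.CoFrameF.card_Co1] at h1
      norm_num at h1
    · rw [Cfsg.Agent.MonsterP.EquivOf.isM_model.2]
      norm_num
    · rw [Cfsg.Agent.MonsterP.EquivOf.isM_model.2]
      norm_num
  · -- the order of `t`
    have : Fact (Nat.Prime 2) := ⟨Nat.prime_two⟩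
    exact orderOf_eq_prime (by rw [pow_two]; exact Subtype.ext KDone.mRep.t₀_sq)
      fun h => KDone.mRep.t₀_ne (congrArg Subtype.val h)
  · -- `z` and `t` are not conjugate
    intro hcj
    obtain ⟨g, hg⟩ := isConj_iff.1 hcj.symm
    exact MThirteen.Row.ta_ne (t := tG KDone.mGroup KDone.mRep) (IsConj.refl _) g hg
  · -- the classes
    intro v hv
    have hv1 : v ≠ 1 := by
      rintro rfl
      rw [orderOf_one] at hv
      exact absurd hv (by norm_num)
    rcases MFive.Row.two v (by rw [← pow_two, ← hv, pow_orderOf_eq_one]) hv1 with ⟨g, hg⟩ | ⟨g, hg⟩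
    · exact Or.inl (isConj_iff.2 ⟨g, hg⟩)
    · exact Or.inr (isConj_iff.2 ⟨g, hg⟩)
  · -- the centralizer of `t`
    have h1 : Nat.card ↥(centralizer ({tG KDone.mGroup KDone.mRep} : Set ↥InstData.M.G)) = _ :=
      card_cent_t Instance.mGroup Instance.mRep Instance.mLat InstanceFinal.mOrbit Instance.mTrans
    rw [h1]
    norm_num
  · -- six transpositions
    intro a b ha hb hab
    obtain ⟨g, rfl⟩ := isConj_iff.1 ha
    obtain ⟨g', rfl⟩ := isConj_iff.1 hb
    have h1 : orderOf (tG KDone.mGroup KDone.mRep * ((g⁻¹ * g') * tG KDone.mGroup KDone.mRep * (g⁻¹ * g')⁻¹)) ≤ 6 :=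
      six Instance.mGroup Instance.mRep Instance.mLat InstanceFinal.mOrbit Instance.mTrans
        InstanceFinal.mExtra.order_le (g⁻¹ * g')
    have h2 := orderOf_conj' g (tG KDone.mGroup KDone.mRep * ((g⁻¹ * g') * tG KDone.mGroup KDone.mRep * (g⁻¹ * g')⁻¹))
    have h3 : g * (tG KDone.mGroup KDone.mRep * ((g⁻¹ * g') * tG KDone.mGroup KDone.mRep * (g⁻¹ * g')⁻¹)) * g⁻¹ =
        g * tG KDone.mGroup KDone.mRep * g⁻¹ * (g' * tG KDone.mGroup KDone.mRep * g'⁻¹) := by group
    rw [h3, hab] at h2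
    omega
  · -- the fifth power
    obtain ⟨c, hc'⟩ := MFive.exists_conj_of_conj h h13 (by decide) (x := x) (y := x ^ 5) (s := Cfsg.Agent.H131.T5M13D.n) hx13
      (by rw [← pow_mul, mul_comm, pow_mul, hx13, one_pow]) (by
        rw [map_pow, hxs]
        exact Cfsg.Agent.H131.T5M13D.ns)
    refine ⟨c, ?_⟩
    have h1 := congrArg Subtype.val hc'
    simpa only [Subgroup.coe_mul, InvMemClass.coe_inv, SubmonoidClass.coe_pow] using h1

end model

/-- **the elements of order 13**, if the Sylow subgroups are not abelian -/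
theorem moved_thirteen (hna : ∀ S : Sylow 13 ↥InstData.M.G, ∃ a ∈ (S : Subgroup ↥InstData.M.G),
    ∃ b ∈ (S : Subgroup ↥InstData.M.G), a * b ≠ b * a) : Moved 13 ↥InstData.M.G := by
  have hfin : Finite ↥InstData.M.G := MThirteen.Row.finite
  obtain ⟨x, Q, h⟩ := model_D'
  obtain ⟨R, W, hr⟩ := h.exists_RW hna
  obtain ⟨a, ha, hat, hza⟩ := h.exists_bad
  obtain ⟨c, hc⟩ := h.four
  -- `x` is moved
  have hxm : MovedAt x := by
    refine ⟨c, 5, hc, ?_⟩
    intro h1
    have h2 : x ^ 4 = 1 := by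
      have h3 : x ^ 4 * x = 1 * x := by rw [one_mul, ← pow_succ]; exact h1
      exact mul_right_cancel h3
    have h3 := orderOf_dvd_of_pow_eq_one h2
    rw [h.hyp.hx] at h3
    norm_num at h3
  -- `a` is moved
  have ham : MovedAt a := by
    obtain ⟨g, hg⟩ := ModelB.exists_conj_t LitFin.all.hG LitFin.all.hR KDone.lnk KDone.lft KDone.lnk.x₀_mem
    have hg' : g * tG KDone.mGroup KDone.mRep * g⁻¹ = KDone.K.ι KLinkInst.x₀ := hg
    refine MovedAt.of_conj (k := g) (movedAt_t (by rw [orderOf_conj', ha]) ?_)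
    rw [← hg']
    calc g * a * g⁻¹ * (g * tG KDone.mGroup KDone.mRep * g⁻¹) = g * (a * tG KDone.mGroup KDone.mRep) * g⁻¹ := by group
      _ = g * (tG KDone.mGroup KDone.mRep * a) * g⁻¹ := by rw [hat]
      _ = _ := by group
  intro y hy
  by_cases hty : TB KDone.K.z y
  · obtain ⟨k, hk⟩ := h.tb_pow hy hty
    obtain ⟨g, hg⟩ := isConj_iff.1 hk
    have h1 : orderOf (x ^ (k : ℤ)) = 13 := by
      rw [zpow_natCast, ← hg, orderOf_conj', hy]
    have h2 := movedAt_pow hxm h.hyp.hx h1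
    rw [zpow_natCast] at h2
    exact MovedAt.of_isConj hk.symm h2
  · obtain ⟨k, hk⟩ := h.bad_conj' hr ha hy hza hty
    obtain ⟨g, hg⟩ := isConj_iff.1 hk
    have h1 : orderOf (a ^ k) = 13 := by
      rw [← hy, ← hg, orderOf_conj']
    exact MovedAt.of_isConj hk (movedAt_pow ham ha h1)

/-- **The abelian case.** -/
theorem exists_cube : ∃ R Q : Subgroup ↥InstData.M.G, Nat.card R = 13 ^ 3 ∧ IsPGroup 2 Q ∧
    (∀ q ∈ Q, ∀ r ∈ R, q * r * q⁻¹ ∈ R) ∧ ∃ k ∈ Q, ∃ l ∈ Q, ∃ r ∈ R, k * l * r * (k * l)⁻¹ ≠ l * k * r * (l * k)⁻¹ := by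
  have hfin : Finite ↥InstData.M.G := MThirteen.Row.finite
  have hp : Fact (Nat.Prime 13) := ⟨by norm_num⟩
  obtain ⟨x, Q, h⟩ := model_D'
  obtain ⟨R, -, -, -, hQR, hRc, hno⟩ := h.hyp.exists_R
  obtain ⟨k, hk, l, hl, hkl⟩ := h.hyp.nc
  refine ⟨R, Q, hRc, h.hyp.q2, hQR, k, hk, l, hl, ?_⟩
  by_contra hcon
  push Not at hcon
  apply hno k hk l hl hkl
  intro r hr
  have h1 : k⁻¹ * l⁻¹ * r * (k⁻¹ * l⁻¹)⁻¹ ∈ R := by
    have h2 := hQR _ (mul_mem (inv_mem hk) (inv_mem hl)) r hr
    exact h2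
  have h2 := hcon _ h1
  calc k * l * k⁻¹ * l⁻¹ * r * (k * l * k⁻¹ * l⁻¹)⁻¹
      = k * l * (k⁻¹ * l⁻¹ * r * (k⁻¹ * l⁻¹)⁻¹) * (k * l)⁻¹ := by group
    _ = l * k * (k⁻¹ * l⁻¹ * r * (k⁻¹ * l⁻¹)⁻¹) * (l * k)⁻¹ := h2
    _ = r := by group

end Cfsg.Agent.H979.Ccp.MThirteen
end
end
end
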